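import Groth.Agent.AbCohLib.Local
import Groth.Agent.CohEdge27.Product
import Groth.Agent.VarietyLib.LerayEuler
import Groth.Agent.VarietyLib.DetDeg

/-!
# Euler characteristic of a box product
-/

set_option autoImplicit false
set_option linter.style.haveILetI false
set_option backward.isDefEq.respectTransparency.types false
set_option maxHeartbeats 3200000

universe u

open CategoryTheory CategoryTheory.Limits AlgebraicGeometry TopologicalSpace Opposite MonoidalCategory
open Groth.Agent.Coherent Groth.Agent.AmpleLib Groth.Agent.EulerLib Groth.Agent.VarietyLib Groth.Agent.CohEdge27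

namespace Groth.Agent.AbCohLib

variable (k : Type u) [Field k]

/-- The Euler characteristic of the structure module of a point is one. -/
theorem euler_point [(Spec (CommRingCat.of k)).Over (Spec (CommRingCat.of k))]
    (h : ((Spec (CommRingCat.of k)) ↘ Spec (CommRingCat.of k)) = 𝟙 _) :
    Curv2.euler k (Spec (CommRingCat.of k)) (Coh.structureModule (Spec (CommRingCat.of k))) = 1 := by
  haveI : IsProper ((Spec (CommRingCat.of k)) ↘ Spec (CommRingCat.of k)) := by rw [h]; infer_instance
  haveI : Coh.IsQCoh (Coh.structureModule (Spec (CommRingCat.of k))) := Coherent.isQCoh_structureModule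
  haveI := EulerLib.isNoetherian_of_proper (X := Spec (CommRingCat.of k)) k
  have hd : topologicalKrullDim (Spec (CommRingCat.of k)) ≤ ((0 : ℕ) : WithBot ℕ∞) := by
    haveI : Subsingleton (Spec (CommRingCat.of k)) := inferInstanceAs (Subsingleton (PrimeSpectrum k))
    exact topologicalKrullDim_zero_of_discreteTopology _
  rw [euler_eq_sum k _ _ 0 fun q hq => EulerLib.subsingleton_HH_of_dim _ hd hq, Finset.sum_range_one, pow_zero, one_mul]
  let φ := baseHom k (Spec (CommRingCat.of k))
  have hφ : Function.Bijective φ := by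
    show Function.Bijective (((Spec (CommRingCat.of k)) ↘ Spec (CommRingCat.of k)).appTop.hom.comp
      (Scheme.ΓSpecIso (CommRingCat.of k)).inv.hom)
    rw [h, Scheme.Hom.id_appTop]
    exact ConcreteCategory.bijective_of_isIso (Scheme.ΓSpecIso (CommRingCat.of k)).inv
  let E := (HHA (A := k) (Coh.structureModule (Spec (CommRingCat.of k))) 0).trans
    (secA φ (Coh.structureModule (Spec (CommRingCat.of k))))
  let e : k ≃ₗ[k] GA φ (Coh.structureModule (Spec (CommRingCat.of k))) :=
    LinearEquiv.ofBijective
      ({ toFun := fun a => (φ a : GA φ (Coh.structureModule (Spec (CommRingCat.of k))))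
         map_add' := fun a b => map_add φ a b
         map_smul' := fun a b => map_mul φ a b } : k →ₗ[k] GA φ (Coh.structureModule (Spec (CommRingCat.of k)))) hφ
  rw [E.finrank_eq, ← e.finrank_eq, Module.finrank_self]
  rfl

/-- A locally free module on the spectrum of a field is free. -/
theorem exists_iso_freeMod_of_point (V : (Spec (CommRingCat.of k)).Modules) (hV : FlatMod.IsFinLocFree V) :
    ∃ n : ℕ, Nonempty (V ≅ FlatMod.freeMod (Spec (CommRingCat.of k)) n) := by
  let S := Spec (CommRingCat.of k)
  obtain ⟨U, n, hx, ⟨e⟩⟩ := hV (IsLocalRing.closedPoint k)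
  obtain rfl : U = ⊤ := top_le_iff.1 fun y _ => (Subsingleton.elim (α := PrimeSpectrum k) (IsLocalRing.closedPoint k) y) ▸ hx
  let j := (⊤ : S.Opens).ι
  haveI : IsIso j := inferInstanceAs (IsIso S.topIso.hom)
  exact ⟨n, ⟨((Scheme.Modules.pullbackId S).app V).symm ≪≫
    (Scheme.Modules.pullbackCongr (IsIso.inv_hom_id j)).symm.app V ≪≫
    ((Scheme.Modules.pullbackComp (inv j) j).app V).symm ≪≫
    (Scheme.Modules.pullback (inv j)).mapIso (((Scheme.Modules.restrictFunctorIsoPullback j).app V).symm ≪≫ e) ≪≫
    (DCat.PerfTensor.nonempty_pullback_free (inv j) n).some⟩⟩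

section

variable {X : Scheme.{u}} [X.Over (Spec (CommRingCat.of k))] [IsProper (X ↘ Spec (CommRingCat.of k))]

/-- Free modules tensored with a coherent module. -/
theorem chiTwist_freeMod (N : EulerLib.Inv X) : ∀ n : ℕ,
    chiTwist k (FlatMod.freeMod X n) N = n * chiTwist k (Coh.structureModule X) N := by
  haveI := EulerLib.isNoetherian_of_proper k (X := X)
  intro n
  induction n with
  | zero =>
    rw [chiTwist_of_support_empty k (FlatMod.freeMod X 0) (Set.subset_empty_iff.1 (support_of_isZero (?_ : IsZero _) ∅))]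
    · simp
    · rw [IsZero.iff_id_eq_zero]
      exact Sigma.hom_ext (f := fun _ : Fin 0 => Coh.structureModule X) _ _ fun i => i.elim0
  | succ n ih =>
    classical
    let O : Fin (n + 1) → X.Modules := fun _ => Coh.structureModule X
    let O' : Fin n → X.Modules := fun _ => Coh.structureModule X
    let f : ∐ O' ⟶ ∐ O := Sigma.desc fun i => Sigma.ι O i.castSucc
    let g : ∐ O ⟶ Coh.structureModule X := Sigma.desc fun i => if i = Fin.last n then 𝟙 _ else 0
    let r : ∐ O ⟶ ∐ O' := Sigma.desc (Fin.lastCases (motive := fun i => O i ⟶ ∐ O') 0 fun i => Sigma.ι O' i)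
    let S := ShortComplex.mk f g (Sigma.hom_ext _ _ fun i => by
      simp [f, g, (Fin.castSucc_lt_last i).ne])
    let sp : S.Splitting :=
      { r := r
        s := Sigma.ι O (Fin.last n)
        f_r := Sigma.hom_ext _ _ fun i => by simp [S, f, r]
        s_g := by simp [S, g]; rfl
        id := Sigma.hom_ext _ _ fun i => by
          induction i using Fin.lastCases with
          | last => simp [S, f, g, r]
          | cast i => simp [S, f, g, r, (Fin.castSucc_lt_last i).ne] }
    have hc : ∀ m, Coh.IsCoh (FlatMod.freeMod X m) := fun m =>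
      CohBC.isCoh_of_isFinLocFree (VarietyLib.isFinLocFree_of_rank (VarietyLib.isFinLocFreeOfRank_freeMod m))
    have h := congrFun (chiTwist_additive k S sp.shortExact (hc n) (hc (n + 1)) (isCoh_structureModule X)) N
    calc chiTwist k (FlatMod.freeMod X (n + 1)) N = chiTwist k S.X₂ N := rfl
      _ = chiTwist k (FlatMod.freeMod X n) N + chiTwist k (Coh.structureModule X) N := h
      _ = _ := by rw [ih]; push_cast; ring

/-- Twisting by a bundle from the point multiplies the Euler characteristic. -/
theorem euler_tensor_pullback_point [(Spec (CommRingCat.of k)).Over (Spec (CommRingCat.of k))]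
    (hid : ((Spec (CommRingCat.of k)) ↘ Spec (CommRingCat.of k)) = 𝟙 _)
    [IsProper ((Spec (CommRingCat.of k)) ↘ Spec (CommRingCat.of k))]
    (g : X ⟶ Spec (CommRingCat.of k)) (M : X.Modules) (hM : PicF.IsInvertible M)
    (V : (Spec (CommRingCat.of k)).Modules) (hV : FlatMod.IsFinLocFree V) :
    Curv2.euler k X (CohB1.tensorMod M ((Scheme.Modules.pullback g).obj V)) =
      Curv2.euler k (Spec (CommRingCat.of k)) V * Curv2.euler k X M := by
  obtain ⟨n, ⟨e⟩⟩ := exists_iso_freeMod_of_point k V hV
  rw [euler_congr k _ e, VarietyLib.euler_freeMod k n, euler_point k hid, mul_one,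
    euler_congr k X (AmpleLib.tensorIso (Iso.refl M) ((Scheme.Modules.pullback g).mapIso e ≪≫
      (DCat.PerfTensor.nonempty_pullback_free g n).some) ≪≫ AmpleLib.tensorComm M _)]
  exact (chiTwist_freeMod k ⟨M, hM⟩ n).trans (congrArg ((n : ℤ) * ·) (euler_congr k X (AmpleLib.unitTensorIso M)))

end

/-- **The Euler characteristic of a box product.** -/
theorem euler_boxM (X Y : Over (Spec (CommRingCat.of k))) [IsProper X.hom] [IsProper Y.hom]
    (M : X.left.Modules) (L : Y.left.Modules) (hM : PicF.IsInvertible M) (hL : PicF.IsInvertible L)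
    (d : ℕ) (hdX : topologicalKrullDim (pullback X.hom Y.hom : Scheme.{u}) ≤ d) (hdY : topologicalKrullDim Y.left ≤ d) :
    @Curv2.euler k _ (pullback X.hom Y.hom) ⟨pullback.fst X.hom Y.hom ≫ X.hom⟩ (CohB1.tensorMod
      ((Scheme.Modules.pullback (pullback.fst X.hom Y.hom)).obj M)
      ((Scheme.Modules.pullback (pullback.snd X.hom Y.hom)).obj L)) =
      @Curv2.euler k _ X.left ⟨X.hom⟩ M * @Curv2.euler k _ Y.left ⟨Y.hom⟩ L := by
  letI : X.left.Over (Spec (CommRingCat.of k)) := ⟨X.hom⟩
  letI : Y.left.Over (Spec (CommRingCat.of k)) := ⟨Y.hom⟩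
  letI : (Spec (CommRingCat.of k)).Over (Spec (CommRingCat.of k)) := ⟨𝟙 _⟩
  haveI : IsProper (X.left ↘ Spec (CommRingCat.of k)) := ‹IsProper X.hom›
  haveI : IsProper (Y.left ↘ Spec (CommRingCat.of k)) := ‹IsProper Y.hom›
  haveI : IsProper ((Spec (CommRingCat.of k)) ↘ Spec (CommRingCat.of k)) := inferInstanceAs (IsProper (𝟙 _))
  let p := pullback.fst X.hom Y.hom
  let q := pullback.snd X.hom Y.hom
  letI : (pullback X.hom Y.hom).Over (Spec (CommRingCat.of k)) := ⟨p ≫ X.hom⟩
  haveI : IsProper p := inferInstanceAs (IsProper (pullback.fst X.hom Y.hom))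
  haveI : IsProper ((pullback X.hom Y.hom) ↘ Spec (CommRingCat.of k)) := inferInstanceAs (IsProper (p ≫ X.hom))
  haveI := hasInjectiveResolutions_modules Y.left
  haveI := hasInjectiveResolutions_modules X.left
  haveI := hasInjectiveResolutions_modules (pullback X.hom Y.hom)
  haveI : Coh.IsQCoh L := isQCoh_of_isInvertible hL
  haveI := EulerLib.isNoetherian_of_proper (X := X.left) k
  haveI := EulerLib.isNoetherian_of_proper (X := Y.left) k
  haveI := EulerLib.isNoetherian_of_proper (X := pullback X.hom Y.hom) k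
  let F := CohB1.tensorMod ((Scheme.Modules.pullback p).obj M) ((Scheme.Modules.pullback q).obj L)
  have hFc : Coh.IsCoh F := PicLib.isCoh_of_isInvertible (isInvertible_tensorMod
    (PicLoc.isInvertible_pullback p hM) (PicLoc.isInvertible_pullback q hL))
  have hMf : FlatMod.IsFinLocFree M := Coherent.isFinLocFree_of_invertible hM
  obtain ⟨N₁, hN₁⟩ := exists_bound_isZero_rpush (X := X.left) p
  obtain ⟨N₂, hN₂⟩ := exists_bound_isZero_rpush (X := Spec (CommRingCat.of k)) Y.hom
  let N := max (max N₁ N₂) 1
  have e1 := euler_eq_rhoEuler k p rfl (N := N) (by omega) (fun M' hM' => hN₁ M' hM' N (by omega)) (d + 1) F hFc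
    (((Topology.IsInducing.subtypeVal.topologicalKrullDim_le).trans hdX).trans_lt (by exact_mod_cast Nat.lt_succ_self d))
  have e2 := euler_eq_rhoEuler k Y.hom (Category.comp_id _) (N := N) (by omega)
    (fun M' hM' => hN₂ M' hM' N (by omega)) (d + 1) L (PicLib.isCoh_of_isInvertible hL)
    (((Topology.IsInducing.subtypeVal.topologicalKrullDim_le).trans hdY).trans_lt (by exact_mod_cast Nat.lt_succ_self d))
  show Curv2.euler k _ F = _
  rw [e1, e2, rhoEuler, rhoEuler, Finset.mul_sum]
  refine Finset.sum_congr rfl fun j _ => ?_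
  let V := (Coh.Rpush Y.hom j).obj L
  have hV : Coh.IsCoh V := isCoh_rpush Y.hom (PicLib.isCoh_of_isInvertible hL) j
  have hVf : FlatMod.IsFinLocFree V :=
    (Groth.Agent.RefHullLib.isFinLocFree_iff_free_stalks hV).2 fun x => by
      letI := (AlgSpLib.isField_stalk_of_maximal x fun y _ => Subsingleton.elim (α := PrimeSpectrum k) y x).toField
      exact Module.Free.of_divisionRing _ _
  obtain ⟨e₁⟩ := nonempty_rpush_fst_iso X Y L j
  obtain ⟨e₂⟩ := nonempty_projection_formula (f := p) hMf ((Scheme.Modules.pullback q).obj L) j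
  rw [euler_congr k X.left (e₂.symm ≪≫ AmpleLib.tensorIso (Iso.refl M) e₁.symm),
    euler_tensor_pullback_point k rfl X.hom M hM V hVf]
  ring

end Groth.Agent.AbCohLib
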