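import Groth.Agent.AbCohLib.Criterion

/-!
# Complexes over regular local rings, exact on the punctured spectrum, vanish below the dimension
-/

set_option autoImplicit false
set_option linter.style.haveILetI false
set_option maxHeartbeats 1600000

universe u

open IsLocalRing
open scoped Matrix

namespace Groth.Agent.AbCohLib

variable {R : Type u} [CommRing R] [IsRegularLocalRing R]

/-- **Vanishing below the dimension.** -/
theorem subsingleton_Hm_of_punctured {g : ℕ} (hg : (maximalIdeal R).spanFinrank = g) {n : ℕ → ℕ}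
    {D : ∀ i, Matrix (Fin (n i)) (Fin (n (i + 1))) R}
    (hDD : ∀ i, D i * D (i + 1) = 0) (hn0 : n 0 = 0)
    (hpunct : ∀ (Q : Ideal R) [Q.IsPrime], Q ≠ maximalIdeal R → ∀ i (v : Fin (n (i + 1)) → Q.ResidueField),
      (D (i + 1))ᵀ.map (algebraMap R Q.ResidueField) *ᵥ v = 0 →
        ∃ w, (D i)ᵀ.map (algebraMap R Q.ResidueField) *ᵥ w = v)
    (d : ℕ) (hd : d < g) : Subsingleton (Hm (D (d + 1))ᵀ (D d)ᵀ R) := by
  let T : ∀ a b, Matrix (Fin (n b)) (Fin (n a)) R := fun a b =>
    if h : a + 1 = b then h ▸ (D a)ᵀ else 0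
  have hT : ∀ a, T a (a + 1) = (D a)ᵀ := fun a => dif_pos rfl
  have hmul : ∀ a b c, T b c * T a b = 0 := by
    intro a b c
    by_cases h1 : a + 1 = b
    · by_cases h2 : b + 1 = c
      · subst h1 h2
        rw [hT, hT, ← Matrix.transpose_mul, hDD, Matrix.transpose_zero]
      · rw [show T b c = 0 from dif_neg h2, Matrix.zero_mul]
    · rw [show T a b = 0 from dif_neg h1, Matrix.mul_zero]
  have hkill : ∀ a b c, a + 1 = b → b + 1 = c → ∀ Q : Ideal R, Q.IsPrime → Q ≠ maximalIdeal R →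
      ∀ y, T b c *ᵥ y = 0 → ∃ s, s ∉ Q ∧ s • y ∈ LinearMap.range (T a b).mulVecLin := by
    intro a b c h1 h2 Q hQp hQ y hy
    subst h1 h2
    haveI := hQp
    rw [hT] at hy
    obtain ⟨h, h', he⟩ := exists_splitting (hpunct Q hQ a)
    obtain ⟨s, hs, w, hw⟩ := exists_smul_mem_range_of_splitting
      (show (D (a + 1))ᵀ * (D a)ᵀ = 0 by rw [← Matrix.transpose_mul, hDD, Matrix.transpose_zero]) Q he y
      ((mulVec_eq_app _ _).symm.trans hy)
    refine ⟨s, hs, w, ?_⟩
    rw [hT]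
    exact (mulVec_eq_app _ _).trans hw
  let n' : ℕ → ℕ := fun j => n (g + 1 - j)
  let D' : ∀ j, Matrix (Fin (n' j)) (Fin (n' (j + 1))) R := fun j => T (g + 1 - (j + 1)) (g + 1 - j)
  have key := CommAlg6.DepthAcyclic.exact_of_killed (A := R) (e := g) (n := n') (D := D')
    (by rw [CAlgH3.depth_eq_spanFinrank, hg])
    (fun j hj => by rw [show n' j = n 0 from congrArg n (by omega), hn0])
    (fun j => hmul _ _ _)
    (fun Q hQp hQ i y hy => by
      by_cases hi : i + 1 ≤ g
      · exact hkill (g + 1 - (i + 1 + 1)) (g + 1 - (i + 1)) (g + 1 - i) (by omega) (by omega) Q hQp hQ y hy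
      · haveI : IsEmpty (Fin (n' (i + 1))) := by
          rw [show n' (i + 1) = n 0 from congrArg n (by omega), hn0]; infer_instance
        exact ⟨1, fun h => hQp.ne_top (Q.eq_top_iff_one.2 h), 0, Subsingleton.elim _ _⟩)
    (g - d - 1)
  have key' : ∀ a b c, a = g + 1 - (g - d - 1 + 1 + 1) → b = g + 1 - (g - d - 1 + 1) → c = g + 1 - (g - d - 1) →
      ∀ y, T b c *ᵥ y = 0 → ∃ w, T a b *ᵥ w = y := by
    intro a b c ha hb hc y hy
    subst ha hb hc
    exact key y hy
  refine subsingleton_of_forall_eq 0 fun x => ?_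
  obtain ⟨z, rfl⟩ := Hm.exists_rep x
  rw [Hm.mk_eq_zero_iff]
  have hz : T (d + 1) (d + 1 + 1) *ᵥ (z : Fin (n (d + 1)) → R) = 0 := by
    rw [hT]; exact (mulVec_eq_app _ _).trans (LinearMap.mem_ker.1 z.2)
  obtain ⟨w, hw⟩ := key' d (d + 1) (d + 1 + 1) (by omega) (by omega) (by omega) _ hz
  rw [hT] at hw
  exact ⟨w, (mulVec_eq_app _ _).symm.trans hw⟩

end Groth.Agent.AbCohLib
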