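import Groth.Agent.AbCohLib.Corner
import Groth.Agent.CohEdge27.Product
import Groth.Agent.Coherent.RpushLeray
import Groth.Agent.ModStalk.Tensor
import Groth.Agent.AlgSpLib.OnePointFlat

/-!
# Corner terms in the cohomology of an external tensor product
-/

set_option autoImplicit false
set_option linter.style.haveILetI false
set_option backward.isDefEq.respectTransparency.types false
set_option maxHeartbeats 3200000

universe u

open CategoryTheory CategoryTheory.Limits AlgebraicGeometry TopologicalSpace Opposite MonoidalCategory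
open Groth.Agent.Coherent Groth.Agent.AmpleLib Groth.Agent.PicLib Groth.Agent.CohEdge27
open scoped ZeroObject

namespace Groth.Agent.AbCohLib

variable {k : Type u} [Field k]

/-- A tensor product over the spectrum of a field vanishes only if a factor does. -/
theorem isZero_or_of_isZero_tensor (V N : (Spec (CommRingCat.of k)).Modules)
    (h : IsZero (CohB1.tensorMod V N)) : IsZero V ∨ IsZero N := by
  let S := Spec (CommRingCat.of k)
  let pt : S := IsLocalRing.closedPoint k
  letI := (AlgSpLib.isField_stalk_of_maximal pt fun y _ => Subsingleton.elim y pt).toField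
  have hz : IsZero ((DerSch.stalkFunctor S pt).obj V ⊗ (DerSch.stalkFunctor S pt).obj N) :=
    ((DerSch.stalkFunctor S pt).map_isZero h).of_iso (ModStalk.stalkTensorIso (x := pt) V N).symm
  have hs := ModuleCat.subsingleton_of_isZero hz
  have key : ∀ W : (Spec (CommRingCat.of k)).Modules,
      Subsingleton ((DerSch.stalkFunctor S pt).obj W) → IsZero W := fun W hW => by
    refine isZero_of_field W ⟨fun a b => TopCat.Presheaf.section_ext
      (⟨W.presheaf, W.isSheaf⟩ : TopCat.Sheaf Ab S) ⊤ a b fun y hy => ?_⟩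
    obtain rfl : y = pt := Subsingleton.elim (α := PrimeSpectrum k) _ _
    exact (show Subsingleton (W.presheaf.stalk pt : Type u) from hW).elim _ _
  by_contra hc
  push Not at hc
  rcases subsingleton_or_nontrivial ((DerSch.stalkFunctor S pt).obj V) with h1 | h1
  · exact hc.1 (key V h1)
  rcases subsingleton_or_nontrivial ((DerSch.stalkFunctor S pt).obj N) with h2 | h2
  · exact hc.2 (key N h2)
  haveI : Nontrivial (TensorProduct (S.presheaf.stalk pt) ((DerSch.stalkFunctor S pt).obj V)
      ((DerSch.stalkFunctor S pt).obj N)) := inferInstance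
  exact not_subsingleton (TensorProduct (S.presheaf.stalk pt) ((DerSch.stalkFunctor S pt).obj V)
      ((DerSch.stalkFunctor S pt).obj N)) hs

theorem isZero_toAb_iff {X : Scheme.{u}} (N : X.Modules) : IsZero (Coh.toAb N) ↔ IsZero N :=
  ⟨fun h => (IsZero.iff_id_eq_zero _).2 ((toAbFunctor X).map_injective (h.eq_of_src _ _)),
    fun h => (toAbFunctor X).map_isZero h⟩

variable (X Y : Over (Spec (CommRingCat.of k))) [IsProper X.hom] [IsProper Y.hom]
  (M : X.left.Modules) (L : Y.left.Modules)

/-- The box module. -/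
noncomputable abbrev boxM : (pullback X.hom Y.hom).Modules :=
  CohB1.tensorMod ((Scheme.Modules.pullback (pullback.fst X.hom Y.hom)).obj M)
    ((Scheme.Modules.pullback (pullback.snd X.hom Y.hom)).obj L)

/-- The spectral sequence of a box product, read through vanishing only. -/
theorem exists_boxSS (hM : PicF.IsInvertible M) (hL : PicF.IsInvertible L) :
    ∃ (H : ℤ → Sheaf (Opens.grothendieckTopology (Spec (CommRingCat.of k)).toTopCat) AddCommGrpCat.{u})
      (E : E₂CohomologicalSpectralSequence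
        (Sheaf (Opens.grothendieckTopology (Spec (CommRingCat.of k)).toTopCat) AddCommGrpCat.{u}))
      (A : SpSeq.Abutment E H), (∀ n, A.IsFinite n) ∧
      (∀ i j : ℤ, IsZero ((E.page 2 le_rfl).X (i, j)) ↔
        (0 ≤ i → 0 ≤ j → Subsingleton (Coh.HH X.left M i.toNat) ∨ Subsingleton (Coh.HH Y.left L j.toNat))) ∧
      (∀ n : ℕ, IsZero (H (n : ℤ)) ↔ Subsingleton (Coh.HH (pullback X.hom Y.hom) (boxM X Y M L) n)) := by
  haveI := hasInjectiveResolutions_modules Y.left
  haveI := hasInjectiveResolutions_modules X.left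
  haveI := hasInjectiveResolutions_modules (pullback X.hom Y.hom)
  haveI : Coh.IsQCoh L := isQCoh_of_isInvertible hL
  haveI : Coh.IsQCoh M := isQCoh_of_isInvertible hM
  haveI : IsNoetherian X.left := {
    LocallyOfFiniteType.isLocallyNoetherian X.hom, QuasiCompact.compactSpace_of_compactSpace X.hom with }
  haveI : IsLocallyNoetherian Y.left := LocallyOfFiniteType.isLocallyNoetherian Y.hom
  let p := pullback.fst X.hom Y.hom
  let q := pullback.snd X.hom Y.hom
  haveI : IsProper p := inferInstanceAs (IsProper (pullback.fst X.hom Y.hom))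
  haveI hpg : IsProper (p ≫ X.hom) := inferInstance
  haveI : IsProper (Over.mk (p ≫ X.hom)).hom := hpg
  let F := CohB1.tensorMod ((Scheme.Modules.pullback p).obj M) ((Scheme.Modules.pullback q).obj L)
  haveI : Coh.IsQCoh F := isQCoh_of_isInvertible (isInvertible_tensorMod
    (PicLoc.isInvertible_pullback p hM) (PicLoc.isInvertible_pullback q hL))
  have hMf : FlatMod.IsFinLocFree M := Coherent.isFinLocFree_of_invertible hM
  let g := X.hom
  -- the second page as a tensor product over the field
  have hE2 : ∀ i j : ℕ, IsZero ((Coh.RpushAb g i).obj ((Coh.RpushAb p j).obj (Coh.toAb F))) ↔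
      Subsingleton (Coh.HH X.left M i) ∨ Subsingleton (Coh.HH Y.left L j) := by
    intro i j
    let V := (Coh.Rpush Y.hom j).obj L
    have hV : Coh.IsCoh V := isCoh_rpush Y.hom (PicLib.isCoh_of_isInvertible hL) j
    have hVf : FlatMod.IsFinLocFree V :=
      (Groth.Agent.RefHullLib.isFinLocFree_iff_free_stalks hV).2 fun x => by
        letI := (AlgSpLib.isField_stalk_of_maximal x fun y _ => Subsingleton.elim y x).toField
        exact Module.Free.of_divisionRing _ _
    obtain ⟨e₁⟩ := nonempty_rpush_fst_iso X Y L j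
    obtain ⟨e₂⟩ := nonempty_projection_formula (f := p) hMf ((Scheme.Modules.pullback q).obj L) j
    obtain ⟨e₃⟩ := nonempty_projection_formula (f := g) hVf M i
    let ι : (Coh.Rpush g i).obj ((Coh.Rpush p j).obj F) ≅ CohB1.tensorMod V ((Coh.Rpush g i).obj M) :=
      (Coh.Rpush g i).mapIso (e₂.symm ≪≫ (tensE M).mapIso e₁.symm ≪≫
        (AmpleLib.tensorComm ((Scheme.Modules.pullback X.hom).obj V) M).symm) ≪≫ e₃.symm
    let α : (Coh.RpushAb g i).obj ((Coh.RpushAb p j).obj (Coh.toAb F)) ≅
        Coh.toAb ((Coh.Rpush g i).obj ((Coh.Rpush p j).obj F)) :=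
      (Coh.RpushAb g i).mapIso (toAbRpushIso p F j).symm ≪≫ (toAbRpushIso g _ i).symm
    rw [Iso.isZero_iff α, isZero_toAb_iff, Iso.isZero_iff ι, subsingleton_HH_iff_isZero X M i,
      subsingleton_HH_iff_isZero Y L j]
    refine ⟨fun h => (isZero_or_of_isZero_tensor _ _ h).symm, ?_⟩
    rintro (h | h)
    · exact isZero_tensor_of_isZero V h
    · exact (isZero_tensor_of_isZero _ h).of_iso (AmpleLib.tensorComm V _)
  have hT : ∀ Q, Injective Q → ∀ n : ℕ, 0 < n →
      IsZero (((Coh.pushAb g).rightDerived n).obj ((Coh.pushAb p).obj Q)) := fun Q hQ n hn => by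
    have : Injective ((Coh.pushAb p).obj Q) :=
      SiteCoh.injective_push (X := (pullback X.hom Y.hom).toTopCat) (Y := X.left.toTopCat) p.base Q
    exact SpecSeq.isZero_rightDerived_injective _ _ hn
  have : PreservesFiniteLimits (Coh.pushAb g) :=
    SiteCoh.pushTop_preservesFiniteLimits (X := X.left.toTopCat) (Y := (Spec (CommRingCat.of k)).toTopCat) g.base
  obtain ⟨E, A, hfin, -, hE⟩ := SpecSeq.exists_composite (Coh.pushAb p) (Coh.pushAb g) hT
    (Coh.toAb F)
    (H := fun n : ℤ =>
      if 0 ≤ n then ((Coh.pushAb p ⋙ Coh.pushAb g).rightDerived n.toNat).obj (Coh.toAb F) else 0)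
    (X := fun i j : ℤ => if 0 ≤ i ∧ 0 ≤ j then
      (Coh.RpushAb g i.toNat).obj ((Coh.RpushAb p j.toNat).obj (Coh.toAb F)) else 0)
    (fun n => ⟨eqToIso (by simp)⟩) (fun n hn => by rw [if_neg (by omega)]; exact isZero_zero _)
    (fun i j => ⟨eqToIso (by simp)⟩) (fun i j h => by rw [if_neg h]; exact isZero_zero _)
  refine ⟨_, E, A, hfin, fun i j => ?_, fun n => ?_⟩
  · obtain ⟨e⟩ := hE i j
    rw [Iso.isZero_iff e]
    split_ifs with hh
    · rw [hE2]; exact ⟨fun h _ _ => h, fun h => h hh.1 hh.2⟩
    · exact ⟨fun _ h1 h2 => absurd ⟨h1, h2⟩ hh, fun _ => isZero_zero _⟩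
  · simp only [Int.natCast_nonneg, if_true, Int.toNat_natCast]
    rw [Iso.isZero_iff ((SiteCoh.rightDerivedCongr (G := Coh.pushAb (p ≫ g))
      (G' := Coh.pushAb p ⋙ Coh.pushAb g) (NatIso.ofComponents fun _ => Iso.refl _) n).app (Coh.toAb F)).symm,
      Iso.isZero_iff (toAbRpushIso (p ≫ g) F n).symm, isZero_toAb_iff]
    exact (subsingleton_HH_iff_isZero (Over.mk (p ≫ g)) F n).symm

/-- **A corner term of the cohomology of a box product.** -/
theorem subsingleton_or_of_corner (hM : PicF.IsInvertible M) (hL : PicF.IsInvertible L) (a c : ℕ)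
    (hs : ∀ r : ℕ, 2 ≤ r → r ≤ a →
      Subsingleton (Coh.HH X.left M (a - r)) ∨ Subsingleton (Coh.HH Y.left L (c + r - 1)))
    (ht : ∀ r : ℕ, 2 ≤ r → r ≤ c + 1 →
      Subsingleton (Coh.HH X.left M (a + r)) ∨ Subsingleton (Coh.HH Y.left L (c + 1 - r)))
    (h : Subsingleton (Coh.HH (pullback X.hom Y.hom) (boxM X Y M L) (a + c))) :
    Subsingleton (Coh.HH X.left M a) ∨ Subsingleton (Coh.HH Y.left L c) := by
  obtain ⟨H, E, A, -, hz, hH⟩ := exists_boxSS X Y M L hM hL
  have := isZero_of_isZero_abutment E A (a : ℤ) (c : ℤ) ((a + c : ℕ) : ℤ) (by push_cast; rfl)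
    (fun r hr => (hz _ _).2 fun h1 _ => by
      obtain ⟨n, rfl⟩ : ∃ n : ℕ, r = n := ⟨r.toNat, by omega⟩
      rw [show ((a : ℤ) - n).toNat = a - n by omega, show ((c : ℤ) + n - 1).toNat = c + n - 1 by omega]
      exact hs n (by omega) (by omega))
    (fun r hr => (hz _ _).2 fun _ h2 => by
      obtain ⟨n, rfl⟩ : ∃ n : ℕ, r = n := ⟨r.toNat, by omega⟩
      rw [show ((a : ℤ) + n).toNat = a + n by omega, show ((c : ℤ) - n + 1).toNat = c + 1 - n by omega]
      exact ht n (by omega) (by omega))
    ((hH _).2 h)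
  simpa using (hz a c).1 this (Int.natCast_nonneg a) (Int.natCast_nonneg c)

/-- A box product with an acyclic factor is acyclic. -/
theorem subsingleton_boxM_of_acyclic (hM : PicF.IsInvertible M) (hL : PicF.IsInvertible L)
    (h : (∀ i, Subsingleton (Coh.HH X.left M i)) ∨ ∀ j, Subsingleton (Coh.HH Y.left L j)) (n : ℕ) :
    Subsingleton (Coh.HH (pullback X.hom Y.hom) (boxM X Y M L) n) := by
  obtain ⟨H, E, A, hfin, hz, hH⟩ := exists_boxSS X Y M L hM hL
  have hall : ∀ i j : ℤ, IsZero ((E.page 2 le_rfl).X (i, j)) := fun i j => (hz i j).2 fun _ _ =>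
    h.imp (fun h' => h' _) fun h' => h' _
  have cp : SpecSeq.ClassPair
      (C := Sheaf (Opens.grothendieckTopology (Spec (CommRingCat.of k)).toTopCat) AddCommGrpCat.{u}) IsZero IsZero :=
    { le := fun _ h => h
      isoP := fun e h => h.of_iso e.symm
      isoQ := fun e h => h.of_iso e.symm
      zeroP := fun _ h => h
      kerP := fun φ h _ => IsZero.of_mono (kernel.ι φ) h
      cokerP := fun φ _ h => IsZero.of_epi (cokernel.π φ) h
      kerQ := fun φ h _ => IsZero.of_mono (kernel.ι φ) h
      cokerQ := fun φ _ h => IsZero.of_epi (cokernel.π φ) h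
      extP := fun S hS h1 h3 => hS.exact.isZero_of_both_zeros (h1.eq_of_src _ _) (h3.eq_of_tgt _ _) }
  exact (hH n).1 (SpecSeq.mem_of_abutment cp E A n (hfin _) (fun pq => hall pq.1 pq.2) fun p => hall _ _)

end Groth.Agent.AbCohLib
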