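import Groth.Agent.AbCohLib.Local
import Groth.Agent.AbSchLib.FiniteKL
import Groth.Agent.Props12.AmpleExternal
import Groth.Agent.ThetaLib.KLExists
import Groth.Agent.AlgGrpLib.SubGrpMono
import Groth.Agent.AlgGrpLib.KernelGrp
import Groth.Agent.KLLib.Basic
import Groth.Agent.AbVarLib.HomDim
import Groth.Agent.AbCubeLib.FixingQuotient
import Groth.Agent.AbCubeLib.SubgroupQuotient
import Groth.Agent.AbCubeLib.ExistsAmple
import Groth.Agent.RigDesc27.Classes
import Groth.Agent.AbCohLib.PicZeroDescend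
import Groth.Agent.AbDualLib.Lambda
import Groth.Agent.S12004
import Groth.Agent.S7804

/-!
# A Poincaré family on an abelian variety over an algebraically closed field
-/

set_option autoImplicit false
set_option linter.style.haveILetI false
set_option backward.isDefEq.respectTransparency.types false
set_option maxHeartbeats 1600000

universe u

open CategoryTheory CategoryTheory.Limits MonoidalCategory CartesianMonoidalCategory MonObj GrpObj AlgebraicGeometry
open Groth.Agent Groth.Agent.PicLib Groth.Agent.AbCubeLib Groth.Agent.CubeLib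

namespace Groth.Agent.AbCohLib

variable {k : Type u} [Field k] [IsAlgClosed k]

/-- An acyclic translation invariant class. -/
theorem subsingleton_HH_of_invariant {A : Over (Spec (CommRingCat.of k))} [GrpObj A] [IsProper A.hom]
    [GeometricallyIntegral A.hom] {L : A.left.Modules} (hL : PicF.IsInvertible L)
    (hinv : ∀ a : 𝟙_ (Over (Spec (CommRingCat.of k))) ⟶ A, pb (𝟙 A * (toUnit A ≫ a)) (PicM.of hL) = PicM.of hL)
    (hne : PicM.of hL ≠ 1) (i : ℕ) : Subsingleton (Coh.HH A.left L i) := by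
  refine (S7804.result k A L hL ?_).1 (fun h => hne ((PicM.of_eq_one_iff hL).2 h)) i
  rw [show μ[A] = fst A A * snd A A by rw [Hom.mul_def, lift_fst_snd, Category.id_comp]]
  exact (S12004.result k A L hL).1 fun a =>
    (PicM.of_eq_iff (PicLoc.isInvertible_pullback _ hL) hL).1 ((PicM.pull_of _ hL).symm.trans (hinv a))

/-- **Existence of a Poincaré family**, rigidified, of Pic⁰ and with distinct points giving distinct classes. -/
theorem exists_poincare_setup'' (A : Over (Spec (CommRingCat.of k))) [GrpObj A] [IsProper A.hom]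
    [GeometricallyIntegral A.hom] {g : ℕ} (hg : topologicalKrullDim A.left = g) :
    ∃ (Ah : Over (Spec (CommRingCat.of k))) (_ : GrpObj Ah) (_ : IsProper Ah.hom)
      (_ : GeometricallyIntegral Ah.hom) (P : (Ah ⊗ A).left.Modules) (hP : PicF.IsInvertible P),
      topologicalKrullDim Ah.left = g ∧
      pb (lift (toUnit A ≫ η[Ah]) (𝟙 A)) (PicM.of hP) = 1 ∧
      (∀ w : 𝟙_ (Over (Spec (CommRingCat.of k))) ⟶ Ah, w ≠ η[Ah] → ∀ p, Subsingleton
        (Coh.HH A.left ((Scheme.Modules.pullback (lift (toUnit A ≫ w) (𝟙 A)).left).obj P) p)) ∧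
      (∀ (T : Over (Spec (CommRingCat.of k))) (t : T ⟶ Ah),
        pb (t ▷ A) (PicM.of hP) = 1 → t = toUnit T ≫ η[Ah]) ∧
      (∀ w w' : 𝟙_ (Over (Spec (CommRingCat.of k))) ⟶ Ah, pb (lift (toUnit A ≫ w) (𝟙 A)) (PicM.of hP) =
        pb (lift (toUnit A ≫ w') (𝟙 A)) (PicM.of hP) → w = w') ∧
      pb (lift (1 : Ah ⟶ A) (𝟙 Ah)) (pb (lift (snd A Ah) (fst A Ah)) (PicM.of hP)) = 1 ∧
      AbDual.IsPicZeroCl A.hom Ah (pb (lift (snd A Ah) (fst A Ah)) (PicM.of hP)).val := by
  haveI hcomm : IsCommMonObj A := isCommMonObj_of_isProper_of_geometricallyIntegral A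
  haveI : Smooth A.hom := NeronLib.smooth_of_geometricallyIntegral A
  haveI : Flat A.hom := flat_of_field _
  haveI : GeometricallyConnected A.hom := AbSchLib.geometricallyConnected_of_irreducible A.hom
  obtain ⟨L, hL, hLa⟩ := exists_ample (A := A)
  let l := PicM.of hLa.1
  obtain ⟨l', hl⟩ := PicM.exists_mul_eq_one l
  obtain ⟨K, iK, hK⟩ := ThetaLib.exists_isKL A hLa.1
  haveI := hK.closed
  haveI : Mono iK := Over.mono_of_mono_left iK
  obtain ⟨gK, hiK⟩ : ∃ _ : GrpObj K, IsMonHom iK := by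
    refine AlgGrpLib.exists_grpObj_of_mono iK ((KLLib.factors_iff hK hLa.1 1).2 ⟨1, KLLib.translates_one hLa.1⟩) ?_ ?_
    · obtain ⟨m₁, h₁⟩ := (KLLib.factors_iff hK hLa.1 (fst K K ≫ iK)).1 ⟨fst K K, rfl⟩
      obtain ⟨m₂, h₂⟩ := (KLLib.factors_iff hK hLa.1 (snd K K ≫ iK)).1 ⟨snd K K, rfl⟩
      exact (KLLib.factors_iff hK hLa.1 _).2 ⟨_, KLLib.translates_mul h₁ h₂⟩
    · obtain ⟨m, h⟩ := (KLLib.factors_iff hK hLa.1 iK).1 ⟨𝟙 K, Category.id_comp iK⟩
      exact (KLLib.factors_iff hK hLa.1 _).2 ⟨_, KLLib.translates_inv h⟩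
  haveI := hiK
  haveI : IsFinite K.hom :=
    AbSchLib.FiniteKL.isFinite_hom (Props12.AmpleExternal.isRelAmple_of_isAmple A.hom L hLa) iK hK
  obtain ⟨Ah, gAh, q, hAp, hAg, hq, hqs, hker⟩ := AbCubeLib.exists_quotient_subgroup iK
  haveI := hAp
  haveI := hAg
  haveI := hq
  haveI := hqs
  haveI : IsFinite q.left := by
    refine AbDualLib.isFinite_of_finite_preimage_unit q fun s => ?_
    haveI : Finite K.left := Set.finite_univ_iff.1
      ((K.hom.finite_preimage_singleton (IsLocalRing.closedPoint k)).subset fun x _ => Subsingleton.elim (α := PrimeSpectrum k) _ _)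
    refine (Set.finite_range iK.left).subset fun a ha => ?_
    obtain ⟨z, hz, -⟩ := (Scheme.exists_preimage_of_isPullback (IsPullback.map (Over.forget _) hker) a s ha)
    exact ⟨z, hz⟩
  haveI : Flat q.left := AbVarLib.flat_of_surjective q
  haveI : IsLocallyNoetherian Ah.left := LocallyOfFiniteType.isLocallyNoetherian Ah.hom
  haveI : LocallyOfFinitePresentation q.left := locallyOfFinitePresentation_of_noetherian_base q.left
  have hdim : topologicalKrullDim Ah.left = g := by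
    rw [← hg]
    exact (AbVarLib.dim_eq_of_isFinite q).symm
  have hl1 : ∀ {V : Over (Spec (CommRingCat.of k))} (f : V ⟶ A), pb f l * pb f l' = 1 := fun f => by
    rw [pb, ← map_mul, hl, map_one]
  have hfac : ∀ {T : Over (Spec (CommRingCat.of k))} (x : T ⟶ A), (∃ y, y ≫ iK = x) → x ≫ q = 1 := by
    rintro T x ⟨y, rfl⟩
    rw [Category.assoc, AlgGrpLib.kernel_comp hker, MonObj.comp_one]
  have hcT : ∀ {T : Over (Spec (CommRingCat.of k))} (z : T ⟶ A),
      pb (lift (fst A T) (snd A T ≫ z)) (lam l l') = 1 → ∃ y, y ≫ iK = z := by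
    intro T z hz
    refine (KLLib.factors_iff hK hLa.1 z).2 ⟨PicM.pull z.left l, ?_⟩
    rw [pb_lift_lam] at hz
    show pb (fst A T * (snd A T ≫ z)) l = pb (fst A T) l * pb (snd A T) (pb z l)
    rw [pb_pb]
    calc pb (fst A T * (snd A T ≫ z)) l
        = pb (fst A T * (snd A T ≫ z)) l * (pb (fst A T) l' * pb (fst A T) l) *
            (pb (snd A T ≫ z) l' * pb (snd A T ≫ z) l) := by
          rw [_root_.mul_comm (pb (fst A T) l'), hl1, _root_.mul_comm (pb (snd A T ≫ z) l'), hl1, _root_.mul_one,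
            _root_.mul_one]
      _ = pb (fst A T * (snd A T ≫ z)) l * pb (fst A T) l' * pb (snd A T ≫ z) l' *
            (pb (fst A T) l * pb (snd A T ≫ z) l) := by ac_rfl
      _ = _ := by rw [hz, _root_.one_mul]
  have ha : ∀ (T : Over (Spec (CommRingCat.of k))) (U : T.left.Opens), IsIso ((PicF.XTproj A.hom T).app U) := by
    intro T U
    have hs : (lift (1 : T ⟶ A) (𝟙 T)).left ≫ PicF.XTproj A.hom T = 𝟙 T.left := by
      show (lift (1 : T ⟶ A) (𝟙 T)).left ≫ (snd A T).left = 𝟙 T.left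
      rw [← Over.comp_left, lift_snd]; rfl
    exact (ConcreteCategory.isIso_iff_bijective _).2
      (AbDualLib.bijective_app_of_section (pullback.snd A.hom T.hom) _ hs U)
  have hsec : ∀ T : Over (Spec (CommRingCat.of k)),
      PicF.secT A.hom η[A].left (Over.w η[A]) T = (lift (1 : T ⟶ A) (𝟙 T)).left := by
    intro T
    refine RigDesc27.hom_ext_XT ?_ ?_
    · rw [RigDesc27.secT_fst]
      show T.hom ≫ η[A].left = (lift (1 : T ⟶ A) (𝟙 T)).left ≫ (fst A T).left
      rw [← Over.comp_left, lift_fst, show (1 : T ⟶ A) = toUnit T ≫ η[A] from rfl, Over.comp_left]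
      exact congrArg (· ≫ η[A].left) ((Category.comp_id _).symm.trans (Over.w (toUnit T))).symm
    · rw [RigDesc27.secT_proj]
      show 𝟙 T.left = (lift (1 : T ⟶ A) (𝟙 T)).left ≫ (snd A T).left
      rw [← Over.comp_left, lift_snd]; rfl
  have hXT : ∀ {V W : Over (Spec (CommRingCat.of k))} (g : V ⟶ W),
      PicF.XTmap A.hom g = (lift (fst A V) (snd A V ≫ g)).left := by
    intro V W g
    refine RigDesc27.hom_ext_XT ?_ ?_
    · rw [RigDesc27.XTmap_fst]
      show (fst A V).left = (lift (fst A V) (snd A V ≫ g)).left ≫ (fst A W).left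
      rw [← Over.comp_left, lift_fst]
    · rw [RigDesc27.XTmap_proj]
      show (snd A V).left ≫ g.left = (lift (fst A V) (snd A V ≫ g)).left ≫ (snd A W).left
      rw [← Over.comp_left, ← Over.comp_left, lift_snd]
  let c : PicM (PicF.XT A.hom A) := lam l l'
  have hc : PicM.pull (PicF.secT A.hom η[A].left (Over.w η[A]) A) c = 1 := by
    rw [hsec]
    show pb (lift (1 : A ⟶ A) (𝟙 A)) (lam l l') = 1
    rw [pb_lift_lam, _root_.one_mul, pb_one, _root_.mul_one, hl1]
  have hglue : ∀ (V : Over (Spec (CommRingCat.of k))) (g₁ g₂ : V ⟶ A), g₁ ≫ q = g₂ ≫ q →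
      PicM.pull (PicF.XTmap A.hom g₁) c = PicM.pull (PicF.XTmap A.hom g₂) c := by
    intro V g₁ g₂ hg
    rw [hXT, hXT]
    show pb (lift (fst A V) (snd A V ≫ g₁)) (lam l l') = pb (lift (fst A V) (snd A V ≫ g₂)) (lam l l')
    obtain ⟨y, hy⟩ := AlgGrpLib.exists_lift_kernel hker (g := g₂⁻¹ * g₁)
      (by rw [MonObj.mul_comp, GrpObj.inv_comp, hg, inv_mul_cancel])
    rw [show g₁ = g₂ * (g₂⁻¹ * g₁) from (mul_inv_cancel_left _ _).symm, MonObj.comp_mul,
      pb_lift_lam_mul hl, show pb (lift (fst A V) (snd A V ≫ (g₂⁻¹ * g₁))) (lam l l') = 1 from ?_, _root_.mul_one]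
    obtain ⟨m, hm⟩ := (KLLib.factors_iff hK hLa.1 (g₂⁻¹ * g₁)).1 ⟨y, hy⟩
    have hm' := KLLib.eq_pull hm
    subst hm'
    rw [pb_lift_lam, ← pb_pb (snd A V) (g₂⁻¹ * g₁) l']
    show PicM.pull _ l * _ * _ = 1
    rw [hm]
    show pb (fst A V) l * pb (snd A V) (pb (g₂⁻¹ * g₁) l) * pb (fst A V) l' * pb (snd A V) (pb (g₂⁻¹ * g₁) l') = 1
    calc _ = (pb (fst A V) l * pb (fst A V) l') *
          (pb (snd A V) (pb (g₂⁻¹ * g₁) l) * pb (snd A V) (pb (g₂⁻¹ * g₁) l')) := by ac_rfl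
      _ = 1 := by rw [pb_pb, pb_pb, hl1, hl1, _root_.one_mul]
  obtain ⟨d, ⟨hd, hdq⟩, -⟩ := RigDesc27.existsUnique_descend (w := q) ha c hc hglue
  obtain ⟨P₀, hP₀, hdP⟩ := PicM.exists_eq_of d
  let sw : Ah ⊗ A ⟶ A ⊗ Ah := lift (snd Ah A) (fst Ah A)
  obtain ⟨P, hP, hPe⟩ := PicM.exists_eq_of (pb sw d)
  have hslice : ∀ w : 𝟙_ (Over (Spec (CommRingCat.of k))) ⟶ Ah,
      pb (lift (toUnit A ≫ w) (𝟙 A)) (PicM.of hP) = pb (lift (𝟙 A) (toUnit A ≫ w)) d := fun w => by
    rw [← hPe, pb_pb, comp_lift, lift_fst, lift_snd]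
  have huniv : ∀ (T : Over (Spec (CommRingCat.of k))) (t : T ⟶ Ah),
      pb (t ▷ A) (PicM.of hP) = 1 → t = toUnit T ≫ η[Ah] := by
    intro T t ht
    have h1 : pb (lift (fst A T) (snd A T ≫ t)) d = 1 := by
      have h : pb (lift (snd A T) (fst A T)) (pb (t ▷ A) (PicM.of hP)) = 1 := by
        rw [ht]; exact map_one _
      rw [← hPe, pb_pb, pb_pb, show (lift (snd A T) (fst A T) ≫ t ▷ A) ≫ sw = lift (fst A T) (snd A T ≫ t) by
        simp only [sw]
        ext1 <;> simp] at h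
      exact h
    let T' : Over (Spec (CommRingCat.of k)) := Over.mk (pullback.fst t.left q.left ≫ T.hom)
    let p : T' ⟶ T := Over.homMk (pullback.fst t.left q.left) rfl
    let z : T' ⟶ A := Over.homMk (pullback.snd t.left q.left) (by
      show pullback.snd t.left q.left ≫ A.hom = pullback.fst t.left q.left ≫ T.hom
      rw [← Over.w q, ← Over.w t, ← Category.assoc, ← Category.assoc, pullback.condition])
    have hzt : z ≫ q = p ≫ t := Over.OverMorphism.ext pullback.condition.symm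
    have h2 : pb (lift (fst A T') (snd A T' ≫ z)) (lam l l') = 1 := by
      rw [show lam l l' = pb (lift (fst A A) (snd A A ≫ q)) d by rw [pb, ← hXT]; exact hdq.symm, pb_pb]
      rw [show lift (fst A T') (snd A T' ≫ z) ≫ lift (fst A A) (snd A A ≫ q) =
          (A ◁ p) ≫ lift (fst A T) (snd A T ≫ t) by
        ext1
        · simp
        · simp [hzt], ← pb_pb, h1]
      exact map_one _
    have h3 := hfac z (hcT z h2)
    rw [hzt] at h3
    haveI : Flat p.left := inferInstanceAs (Flat (pullback.fst t.left q.left))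
    haveI : Surjective p.left := inferInstanceAs (Surjective (pullback.fst t.left q.left))
    haveI : Epi p.left := Flat.epi_of_flat_of_surjective p.left
    refine Over.OverMorphism.ext ((cancel_epi p.left).1 ?_)
    have h4 : p ≫ t = p ≫ (toUnit T ≫ η[Ah]) := by
      rw [h3, ← Category.assoc, comp_toUnit]
      rfl
    exact congrArg CommaMorphism.left h4
  have hlift : ∀ w : 𝟙_ (Over (Spec (CommRingCat.of k))) ⟶ Ah, ∃ a, a ≫ q = w := by
    intro w
    haveI : JacobsonSpace A.left := LocallyOfFiniteType.jacobsonSpace A.hom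
    let y := w.left (IsLocalRing.closedPoint k)
    obtain ⟨z, hz, hzc⟩ := nonempty_inter_closedPoints (Z := q.left ⁻¹' {y}) (q.left.surjective y)
      ((isClosed_point w).preimage q.left.continuous).isLocallyClosed
    let a : 𝟙_ (Over (Spec (CommRingCat.of k))) ⟶ A :=
      Over.homMk (pointOfClosedPoint A.hom z hzc) (pointOfClosedPoint_comp A.hom z hzc)
    refine ⟨a, point_ext ?_⟩
    show q.left (a.left (IsLocalRing.closedPoint k)) = y
    rw [show a.left (IsLocalRing.closedPoint k) = z from pointOfClosedPoint_apply _ _ _ _]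
    exact hz
  have hPa : ∀ a : 𝟙_ (Over (Spec (CommRingCat.of k))) ⟶ A,
      pb (lift (𝟙 A) (toUnit A ≫ a ≫ q)) d = pb (𝟙 A * (toUnit A ≫ a)) l * l' := by
    intro a
    have e : lift (𝟙 A) (toUnit A ≫ a ≫ q) = lift (𝟙 A) (toUnit A ≫ a) ≫ lift (fst A A) (snd A A ≫ q) := by
      rw [comp_lift, lift_fst, ← Category.assoc (lift _ _), lift_snd, Category.assoc]
    rw [e, ← pb_pb, show pb (lift (fst A A) (snd A A ≫ q)) d = lam l l' by rw [pb, ← hXT]; exact hdq, pb_lift_lam,
      pb_id, pb_const, _root_.mul_one]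
  have hone : ∀ w : 𝟙_ (Over (Spec (CommRingCat.of k))) ⟶ Ah,
      pb (lift (toUnit A ≫ w) (𝟙 A)) (PicM.of hP) = 1 → w = η[Ah] := by
    intro w h1
    have h2 := huniv (𝟙_ (Over (Spec (CommRingCat.of k)))) w (by
      rw [show w ▷ A = snd _ A ≫ lift (toUnit A ≫ w) (𝟙 A) by
        ext1
        · simp [← Category.assoc, toUnit_unique (snd (𝟙_ (Over (Spec (CommRingCat.of k)))) A ≫ toUnit A) (fst _ A)]
        · simp, ← pb_pb, h1]
      exact map_one _)
    rw [h2, toUnit_unique (toUnit _) (𝟙 _), Category.id_comp]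
  refine ⟨Ah, inferInstance, inferInstance, inferInstance, P, hP, hdim, ?_, fun w hw p => ?_, huniv,
    fun w w' h => ?_, ?_, ?_⟩
  · rw [hslice, show η[Ah] = η[A] ≫ q from (IsMonHom.one_hom q).symm, hPa, ← Hom.one_def,
      _root_.mul_one, pb_id, hl]
  · refine subsingleton_HH_of_invariant (PicLoc.isInvertible_pullback _ hP) (fun b => ?_) (fun h1 => hw ?_) p
    · rw [← PicM.pull_of _ hP]
      show pb _ (pb _ (PicM.of hP)) = pb _ (PicM.of hP)
      rw [hslice]
      obtain ⟨a, rfl⟩ := hlift w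
      rw [hPa, pb, map_mul]
      change pb _ (pb _ l) * pb _ l' = _
      have e : (𝟙 A * (toUnit A ≫ b)) ≫ (𝟙 A * (toUnit A ≫ a)) = 𝟙 A * (toUnit A ≫ (a * b)) := by
        rw [comp_mul, Category.comp_id, comp_mul, ← Category.assoc, comp_toUnit, _root_.mul_assoc,
          _root_.mul_comm (toUnit A ≫ b)]
      rw [pb_pb, e]
      have hsq : pb (𝟙 A * (toUnit A ≫ (a * b))) l * l =
          pb (𝟙 A * (toUnit A ≫ a)) l * pb (𝟙 A * (toUnit A ≫ b)) l := by
        conv_lhs => arg 2; rw [← pb_id l]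
        exact square_const l (𝟙 A) a b
      calc pb (𝟙 A * (toUnit A ≫ (a * b))) l * pb (𝟙 A * (toUnit A ≫ b)) l'
          = pb (𝟙 A * (toUnit A ≫ (a * b))) l * (l * l') * pb (𝟙 A * (toUnit A ≫ b)) l' := by
            rw [hl, _root_.mul_one]
        _ = pb (𝟙 A * (toUnit A ≫ (a * b))) l * l * (l' * pb (𝟙 A * (toUnit A ≫ b)) l') := by ac_rfl
        _ = pb (𝟙 A * (toUnit A ≫ a)) l * l' * (pb (𝟙 A * (toUnit A ≫ b)) l * pb (𝟙 A * (toUnit A ≫ b)) l') := by
            rw [hsq]; ac_rfl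
        _ = _ := by rw [hl1, _root_.mul_one]
    · rw [← PicM.pull_of _ hP] at h1
      exact hone w h1
  · obtain ⟨a, rfl⟩ := hlift w
    obtain ⟨a', rfl⟩ := hlift w'
    rw [hslice, hslice, hPa, hPa] at h
    have h' : pb (𝟙 A * (toUnit A ≫ a)) l = pb (𝟙 A * (toUnit A ≫ a')) l := by
      have := congrArg (· * l) h
      simpa only [_root_.mul_assoc, _root_.mul_comm l' l, hl, _root_.mul_one] using this
    have e : ∀ b c : 𝟙_ (Over (Spec (CommRingCat.of k))) ⟶ A,
        (𝟙 A * (toUnit A ≫ b)) ≫ (𝟙 A * (toUnit A ≫ c)) = 𝟙 A * (toUnit A ≫ (c * b)) := by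
      intro b c
      rw [comp_mul, Category.comp_id, comp_mul, ← Category.assoc, comp_toUnit, _root_.mul_assoc,
        _root_.mul_comm (toUnit A ≫ b)]
    have h'' := congrArg (pb (𝟙 A * (toUnit A ≫ a'⁻¹))) h'
    rw [pb_pb, pb_pb, e, e, mul_inv_cancel, MonObj.comp_one, _root_.mul_one, pb_id] at h''
    have h3 : (a * a'⁻¹) ≫ q = η[Ah] := hone _ (by rw [hslice, hPa, h'', hl])
    rw [MonObj.mul_comp, GrpObj.inv_comp] at h3
    exact mul_inv_eq_one.1 h3
  · rw [← hPe, pb_pb, pb_pb, show (lift (1 : Ah ⟶ A) (𝟙 Ah) ≫ lift (snd A Ah) (fst A Ah)) ≫ sw = lift 1 (𝟙 Ah) by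
      simp only [sw]
      ext1 <;> simp, pb]
    have hs := hsec Ah
    rw [← hs]
    exact hd
  · rw [show pb (lift (snd A Ah) (fst A Ah)) (PicM.of hP) = d by
      rw [← hPe, pb_pb, show lift (snd A Ah) (fst A Ah) ≫ sw = 𝟙 _ by
        simp only [sw]
        ext1 <;> simp, pb_id]]
    refine isPicZeroCl_of_surjective q (f := A.hom) ?_
    show AbDual.IsPicZeroCl A.hom A (PicM.pull (PicF.XTmap A.hom q) d).val
    rw [hdq]
    refine AbDualLib.isPicZeroCl_lambda l (lam l l') ?_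
    show pb μ[A] l = lam l l' * pb (fst A A) l * pb (snd A A) l
    rw [lam, show μ[A] = fst A A * snd A A by rw [Hom.mul_def, lift_fst_snd, Category.id_comp]]
    calc pb (fst A A * snd A A) l = pb (fst A A * snd A A) l * (pb (fst A A) l * pb (fst A A) l') *
          (pb (snd A A) l * pb (snd A A) l') := by rw [hl1, hl1, _root_.mul_one, _root_.mul_one]
      _ = _ := by ac_rfl

/-- **Existence of a Poincaré family**, with distinct points giving distinct classes. -/
theorem exists_poincare_setup' (A : Over (Spec (CommRingCat.of k))) [GrpObj A] [IsProper A.hom]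
    [GeometricallyIntegral A.hom] {g : ℕ} (hg : topologicalKrullDim A.left = g) :
    ∃ (Ah : Over (Spec (CommRingCat.of k))) (_ : GrpObj Ah) (_ : IsProper Ah.hom)
      (_ : GeometricallyIntegral Ah.hom) (P : (Ah ⊗ A).left.Modules) (hP : PicF.IsInvertible P),
      topologicalKrullDim Ah.left = g ∧
      pb (lift (toUnit A ≫ η[Ah]) (𝟙 A)) (PicM.of hP) = 1 ∧
      (∀ w : 𝟙_ (Over (Spec (CommRingCat.of k))) ⟶ Ah, w ≠ η[Ah] → ∀ p, Subsingleton
        (Coh.HH A.left ((Scheme.Modules.pullback (lift (toUnit A ≫ w) (𝟙 A)).left).obj P) p)) ∧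
      (∀ (T : Over (Spec (CommRingCat.of k))) (t : T ⟶ Ah),
        pb (t ▷ A) (PicM.of hP) = 1 → t = toUnit T ≫ η[Ah]) ∧
      ∀ w w' : 𝟙_ (Over (Spec (CommRingCat.of k))) ⟶ Ah, pb (lift (toUnit A ≫ w) (𝟙 A)) (PicM.of hP) =
        pb (lift (toUnit A ≫ w') (𝟙 A)) (PicM.of hP) → w = w' :=
  let ⟨Ah, i₁, i₂, i₃, P, hP, h₁, h₂, h₃, h₄, h₅, _⟩ := exists_poincare_setup'' A hg
  ⟨Ah, i₁, i₂, i₃, P, hP, h₁, h₂, h₃, h₄, h₅⟩

/-- **Existence of a Poincaré family.** -/
theorem exists_poincare_setup (A : Over (Spec (CommRingCat.of k))) [GrpObj A] [IsProper A.hom]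
    [GeometricallyIntegral A.hom] {g : ℕ} (hg : topologicalKrullDim A.left = g) :
    ∃ (Ah : Over (Spec (CommRingCat.of k))) (_ : GrpObj Ah) (_ : IsProper Ah.hom)
      (_ : GeometricallyIntegral Ah.hom) (P : (Ah ⊗ A).left.Modules) (hP : PicF.IsInvertible P),
      topologicalKrullDim Ah.left = g ∧
      pb (lift (toUnit A ≫ η[Ah]) (𝟙 A)) (PicM.of hP) = 1 ∧
      (∀ w : 𝟙_ (Over (Spec (CommRingCat.of k))) ⟶ Ah, w ≠ η[Ah] → ∀ p, Subsingleton
        (Coh.HH A.left ((Scheme.Modules.pullback (lift (toUnit A ≫ w) (𝟙 A)).left).obj P) p)) ∧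
      ∀ (T : Over (Spec (CommRingCat.of k))) (t : T ⟶ Ah),
        pb (t ▷ A) (PicM.of hP) = 1 → t = toUnit T ≫ η[Ah] :=
  let ⟨Ah, i₁, i₂, i₃, P, hP, h₁, h₂, h₃, h₄, _⟩ := exists_poincare_setup' A hg
  ⟨Ah, i₁, i₂, i₃, P, hP, h₁, h₂, h₃, h₄⟩

end Groth.Agent.AbCohLib
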