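import Groth.Agent.AbCohLib.Supported
import Groth.Agent.AbCohLib.BoxCorner
import Groth.Agent.AbCohLib.Setup
import Groth.Agent.CohEdge27.AlgEquiv
import Groth.Agent.AbCubeLib.ExistsAmple
import Groth.Agent.AmpleLib.Ample

/-!
# The index theorem
-/

set_option autoImplicit false
set_option linter.style.haveILetI false
set_option backward.isDefEq.respectTransparency.types false
set_option maxHeartbeats 3200000

universe u

open CategoryTheory CategoryTheory.Limits MonoidalCategory CartesianMonoidalCategory MonObj GrpObj AlgebraicGeometry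
  Opposite TopologicalSpace
open Groth.Agent Groth.Agent.PicLib Groth.Agent.AbCubeLib Groth.Agent.Coherent Groth.Agent.Coherent.CohBC

namespace Groth.Agent.AbCohLib

variable {k : Type u} [Field k] {A : Over (Spec (CommRingCat.of k))} [GrpObj A] [IsProper A.hom]
  [GeometricallyIntegral A.hom] {L L' : A.left.Modules}

/-- The automorphism `(x, y) ↦ (x + y, y)`. -/
noncomputable def shear (A : Over (Spec (CommRingCat.of k))) [GrpObj A] : A ⊗ A ≅ A ⊗ A where
  hom := lift (fst A A * snd A A) (snd A A)
  inv := lift (fst A A * (snd A A)⁻¹) (snd A A)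
  hom_inv_id := by ext <;> simp [comp_mul, GrpObj.comp_inv, _root_.mul_assoc]
  inv_hom_id := by ext <;> simp [comp_mul, _root_.mul_assoc]

/-- The box module `L ⊠ L'`. -/
noncomputable abbrev boxMod (L L' : A.left.Modules) : (A ⊗ A).left.Modules :=
  CohB1.tensorMod ((Scheme.Modules.pullback (fst A A).left).obj L) ((Scheme.Modules.pullback (snd A A).left).obj L')

/-- The sheared box module `μ^* L ⊗ pr₂^* L'`. -/
noncomputable abbrev shearMod (L L' : A.left.Modules) : (A ⊗ A).left.Modules :=
  (Scheme.Modules.pullback (shear A).hom.left).obj (boxMod L L')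

theorem isInvertible_boxMod (hL : PicF.IsInvertible L) (hL' : PicF.IsInvertible L') :
    PicF.IsInvertible (boxMod L L') :=
  AmpleLib.isInvertible_tensorMod (PicLoc.isInvertible_pullback _ hL) (PicLoc.isInvertible_pullback _ hL')

theorem isInvertible_shearMod (hL : PicF.IsInvertible L) (hL' : PicF.IsInvertible L') :
    PicF.IsInvertible (shearMod L L') :=
  PicLoc.isInvertible_pullback _ (isInvertible_boxMod hL hL')

theorem of_shearMod (hL : PicF.IsInvertible L) (hL' : PicF.IsInvertible L') :
    PicM.of (isInvertible_shearMod hL hL') = pb (fst A A * snd A A) (PicM.of hL) * pb (snd A A) (PicM.of hL') := by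
  rw [← PicM.pull_of _ (isInvertible_boxMod hL hL'), ← PicM.of_mul (PicLoc.isInvertible_pullback _ hL)
    (PicLoc.isInvertible_pullback _ hL'), ← PicM.pull_of, ← PicM.pull_of, map_mul]
  show pb (shear A).hom (pb (fst A A) (PicM.of hL)) * pb (shear A).hom (pb (snd A A) (PicM.of hL')) = _
  rw [pb_pb, pb_pb]
  simp [shear]

/-- The class on the slice at a point. -/
theorem slice_shearMod (hL : PicF.IsInvertible L) (hL' : PicF.IsInvertible L')
    (w : 𝟙_ (Over (Spec (CommRingCat.of k))) ⟶ A) :
    PicM.of (PicLoc.isInvertible_pullback (lift (toUnit A ≫ w) (𝟙 A)).left (isInvertible_shearMod hL hL')) =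
      pb (𝟙 A * (toUnit A ≫ w)) (PicM.of hL) * PicM.of hL' := by
  haveI : IsCommMonObj A := isCommMonObj_of_isProper_of_geometricallyIntegral A
  rw [← PicM.pull_of _ (isInvertible_shearMod hL hL'), of_shearMod hL hL', map_mul]
  show pb _ (pb _ _) * pb _ (pb _ _) = _
  rw [pb_pb, pb_pb, comp_mul, lift_fst, lift_snd, AbCubeLib.pb_id, _root_.mul_comm (toUnit A ≫ w) (𝟙 A)]

variable [IsAlgClosed k] (hL : PicF.IsInvertible L) (hL' : PicF.IsInvertible L')
  (hll : PicM.of hL * PicM.of hL' = 1)

include hll in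
/-- Off `K(L)` the fibres are acyclic. -/
theorem subsingleton_slice (w : 𝟙_ (Over (Spec (CommRingCat.of k))) ⟶ A)
    (hw : ¬ Nonempty ((Scheme.Modules.pullback (𝟙 A * (toUnit A ≫ w)).left).obj L ≅ L)) (p : ℕ) :
    Subsingleton (Coh.HH A.left
      ((Scheme.Modules.pullback (lift (toUnit A ≫ w) (𝟙 A)).left).obj (shearMod L L')) p) := by
  haveI : IsCommMonObj A := isCommMonObj_of_isProper_of_geometricallyIntegral A
  haveI : Smooth A.hom := NeronLib.smooth_of_geometricallyIntegral A
  have hN := PicLoc.isInvertible_pullback (lift (toUnit A ≫ w) (𝟙 A)).left (isInvertible_shearMod hL hL')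
  refine subsingleton_HH_of_invariant hN (fun a => ?_) (fun h => hw ?_) p
  · have halg := CohEdge27.isAlgEquivZero_phi A (PicM.of hL) (PicM.of hL') hll w _ hN
      (slice_shearMod hL hL' w).symm
    obtain ⟨i⟩ := S12008.result k A _ hN halg a
    exact (PicM.pull_of _ hN).trans ((PicM.of_eq_iff (PicLoc.isInvertible_pullback _ hN) hN).2 ⟨i⟩)
  · rw [slice_shearMod hL hL' w] at h
    refine (PicM.of_eq_iff (PicLoc.isInvertible_pullback _ hL) hL).1 ?_
    rw [← PicM.pull_of _ hL]
    have h' := congrArg (· * PicM.of hL) h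
    simp only [_root_.mul_assoc, _root_.one_mul] at h'
    rw [_root_.mul_comm (PicM.of hL') (PicM.of hL), hll, _root_.mul_one] at h'
    exact h'

variable (hfin : Set.Finite {x : 𝟙_ (Over (Spec (CommRingCat.of k))) ⟶ A |
      Nonempty ((Scheme.Modules.pullback (𝟙 A * (toUnit A ≫ x)).left).obj L ≅ L)})

/-- The jumping locus. -/
def jumpSet (L : A.left.Modules) : Set A.left :=
  (fun w => w.left (IsLocalRing.closedPoint k)) '' {x : 𝟙_ (Over (Spec (CommRingCat.of k))) ⟶ A |
    Nonempty ((Scheme.Modules.pullback (𝟙 A * (toUnit A ≫ x)).left).obj L ≅ L)}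

include hfin in
theorem isClosed_jumpSet : IsClosed (jumpSet L) := by
  rw [← Set.biUnion_of_singleton (jumpSet L)]
  refine (hfin.image _).isClosed_biUnion ?_
  rintro _ ⟨w, -, rfl⟩
  exact isClosed_section w

include hll hfin in
theorem fiberRank_off (y : A.left) (hy : y ∉ jumpSet L) (p : ℕ) :
    CohIII.fiberRank (fst A A).left (shearMod L L') p y = 0 := by
  haveI : IsProper (fst A A).left := inferInstanceAs (IsProper (pullback.fst A.hom A.hom))
  haveI : IsLocallyNoetherian A.left := LocallyOfFiniteType.isLocallyNoetherian A.hom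
  haveI : JacobsonSpace A.left := LocallyOfFiniteType.jacobsonSpace A.hom
  haveI : Flat A.hom := CubeLib.flat_of_field _
  haveI : Flat (fst A A).left := inferInstanceAs (Flat (pullback.fst A.hom A.hom))
  haveI := hasInjectiveResolutions_modules (A ⊗ A).left
  haveI : IsLocallyNoetherian (A ⊗ A).left := by
    haveI : LocallyOfFiniteType (A ⊗ A).hom := inferInstanceAs (LocallyOfFiniteType (pullback.fst A.hom A.hom ≫ A.hom))
    exact LocallyOfFiniteType.isLocallyNoetherian (A ⊗ A).hom
  have hcoh := PicLib.isCoh_of_isInvertible (isInvertible_shearMod hL hL')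
  have hfl : FlatMod.IsFlatOver (fst A A).left (shearMod L L') :=
    SeeSaw5.isFlatOver_of_invertible (f := (fst A A).left) (isInvertible_shearMod hL hL')
  by_contra hne
  obtain ⟨z, ⟨hz, hzJ⟩, hzc⟩ := nonempty_inter_closedPoints
    (Z := {y : A.left | CohIII.fiberRank (fst A A).left (shearMod L L') p y = 0}ᶜ ∩ (jumpSet L)ᶜ) ⟨y, hne, hy⟩
    ((isOpen_fiberRank_eq_zero (fst A A).left _ hcoh hfl p).isClosed_compl.isLocallyClosed.inter
      (isClosed_jumpSet hfin).isOpen_compl.isLocallyClosed)
  let w : 𝟙_ (Over (Spec (CommRingCat.of k))) ⟶ A :=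
    Over.homMk (pointOfClosedPoint A.hom z hzc) (pointOfClosedPoint_comp A.hom z hzc)
  have hwz : w.left (IsLocalRing.closedPoint k) = z := pointOfClosedPoint_apply A.hom z hzc _
  exact hz (by
    show CohIII.fiberRank (fst A A).left (shearMod L L') p z = 0
    rw [← hwz]
    exact (CohEdge27.fiberRank_fst_point _ hcoh w p).2
      (subsingleton_slice hL hL' hll w (fun h => hzJ ⟨w, h, hwz⟩) p))

include hll hfin in
/-- Only the top direct image of the sheared module is non-zero. -/
theorem subsingleton_stalk_shear [HasInjectiveResolutions (A ⊗ A).left.Modules]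
    {g : ℕ} (hg : topologicalKrullDim A.left = g) {j : ℕ} (hj : j ≠ g) (y : A.left) :
    Subsingleton (((Coh.Rpush (fst A A).left j).obj (shearMod L L')).presheaf.stalk y : Type u) := by
  haveI : IsProper (fst A A).left := inferInstanceAs (IsProper (pullback.fst A.hom A.hom))
  haveI : IsLocallyNoetherian A.left := LocallyOfFiniteType.isLocallyNoetherian A.hom
  haveI : IsLocallyNoetherian (A ⊗ A).left := by
    haveI : LocallyOfFiniteType (A ⊗ A).hom := inferInstanceAs (LocallyOfFiniteType (pullback.fst A.hom A.hom ≫ A.hom))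
    exact LocallyOfFiniteType.isLocallyNoetherian (A ⊗ A).hom
  have hΛ := isInvertible_shearMod hL hL'
  by_cases hy : y ∈ jumpSet L
  · obtain ⟨w, hw, rfl⟩ := id hy
    haveI : Smooth A.hom := NeronLib.smooth_of_geometricallyIntegral A
    haveI : IsRegularLocalRing (A.left.presheaf.stalk (w.left (IsLocalRing.closedPoint k))) :=
      VarietyLib.isRegularLocalRing_stalk_of_smooth k A.left A.hom _
    refine subsingleton_stalk_of_isolated hΛ _ (g := g) ?_ (fun p hp => ?_) (fun z hsp hne p => ?_) j hj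
    · have h1 := IsRegularLocalRing.spanFinrank_maximalIdeal (R := A.left.presheaf.stalk (w.left (IsLocalRing.closedPoint k)))
      rw [S0354.result k A _ (isClosed_section w), hg] at h1
      exact_mod_cast h1
    · refine (CohEdge27.fiberRank_fst_point _ (PicLib.isCoh_of_isInvertible hΛ) w p).2 ?_
      haveI : IsIntegral A.left := GeometricallyIntegral.isIntegral_of_subsingleton A.hom
      letI : A.left.Over (Spec (CommRingCat.of k)) := ⟨A.hom⟩
      haveI : IsProper (A.left ↘ Spec (CommRingCat.of k)) := ‹IsProper A.hom›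
      haveI : IsNoetherian A.left := {
        LocallyOfFiniteType.isLocallyNoetherian A.hom, QuasiCompact.compactSpace_of_compactSpace A.hom with }
      haveI : A.left.IsSeparated := Scheme.IsSeparated.mk (by
        rw [← terminal.comp_from A.hom]; infer_instance)
      haveI : Coh.IsQCoh ((Scheme.Modules.pullback (lift (toUnit A ≫ w) (𝟙 A)).left).obj (shearMod L L')) :=
        AmpleLib.isQCoh_of_isInvertible (PicLoc.isInvertible_pullback _ hΛ)
      exact EulerLib.subsingleton_HH_of_dim _ hg.le hp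
    · refine fiberRank_off hL hL' hll hfin z (fun hz => hne ?_) p
      obtain ⟨v, -, rfl⟩ := id hz
      exact (specializes_iff_mem_closure.1 hsp |> fun h => by
        rw [(isClosed_section v).closure_eq] at h
        exact (Set.mem_singleton_iff.1 h).symm)
  · haveI : Coh.IsQCoh (shearMod L L') := AmpleLib.isQCoh_of_isInvertible hΛ
    haveI : Flat A.hom := CubeLib.flat_of_field _
    haveI : Flat (fst A A).left := inferInstanceAs (Flat (pullback.fst A.hom A.hom))
    let U : A.left.Opens := ⟨(jumpSet L)ᶜ, (isClosed_jumpSet hfin).isOpen_compl⟩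
    have hU := CohBC.isZero_rpush_restrict (fst A A).left (shearMod L L') (PicLib.isCoh_of_isInvertible hΛ)
      (SeeSaw5.isFlatOver_of_invertible (f := (fst A A).left) hΛ) j U
      fun z hz => fiberRank_off hL hL' hll hfin z hz j
    refine subsingleton_of_forall_eq 0 fun a => ?_
    obtain ⟨W, hW, m, rfl⟩ := ((Coh.Rpush (fst A A).left j).obj (shearMod L L')).presheaf.exists_germ_eq a
    have hs' : Subsingleton Γ((Coh.Rpush (fst A A).left j).obj (shearMod L L'), U.ι ''ᵁ U.ι ⁻¹ᵁ W) :=
      CohEdge27.subsingleton_of_isZero hU (U.ι ⁻¹ᵁ W)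
    have hle : U.ι ''ᵁ U.ι ⁻¹ᵁ W ≤ W := by
      rintro _ ⟨z, hz, rfl⟩; exact hz
    rw [← TopCat.Presheaf.germ_res_apply _ (homOfLE hle) y ⟨⟨y, hy⟩, hW, rfl⟩,
      hs'.elim (ConcreteCategory.hom (((Coh.Rpush (fst A A).left j).obj (shearMod L L')).presheaf.map
        (homOfLE hle).op) m) 0, map_zero]

include hll hfin in
/-- **The cohomology of the sheared module is concentrated in the middle degree.** -/
theorem cohomology_shear {g : ℕ} (hg : topologicalKrullDim A.left = g) :
    (∀ j, j ≠ g → Subsingleton (Coh.HH (A ⊗ A).left (shearMod L L') j)) ∧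
      ¬ Subsingleton (Coh.HH (A ⊗ A).left (shearMod L L') g) := by
  haveI := hasInjectiveResolutions_modules (A ⊗ A).left
  haveI : IsProper (fst A A).left := inferInstanceAs (IsProper (pullback.fst A.hom A.hom))
  haveI : CompactSpace A.left := QuasiCompact.compactSpace_of_compactSpace A.hom
  haveI : IsLocallyNoetherian A.left := LocallyOfFiniteType.isLocallyNoetherian A.hom
  haveI : IsNoetherian A.left := {}
  haveI : QuasiSeparatedSpace A.left := quasiSeparatedSpace_of_quasiSeparated A.hom
  have hΛ := isInvertible_shearMod hL hL'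
  haveI : Coh.IsQCoh (shearMod L L') := AmpleLib.isQCoh_of_isInvertible hΛ
  let p := (fst A A).left
  let M := shearMod L L'
  have hsec : ∀ j, j ≠ g → ∀ W : A.left.Opens, Subsingleton Γ((Coh.Rpush p j).obj M, W) := fun j hj W =>
    ⟨fun a b => TopCat.Presheaf.section_ext
      (⟨((Coh.Rpush p j).obj M).presheaf, ((Coh.Rpush p j).obj M).isSheaf⟩ : TopCat.Sheaf Ab A.left) W a b
      fun y _ => (subsingleton_stalk_shear hL hL' hll hfin hg hj y).elim _ _⟩
  obtain ⟨L₀, -, hL₀⟩ := AbCubeLib.exists_ample (A := A)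
  obtain ⟨m, -, b, hbZ, -, hV⟩ := AmpleLib.exists_affine_glocus_finite (U := ⊤) hL₀ (jumpSet L) (hfin.image _)
    (fun x _ => trivial)
  let V := AmpleLib.glocus _ b
  let W : A.left.Opens := ⟨(jumpSet L)ᶜ, (isClosed_jumpSet hfin).isOpen_compl⟩
  have hbij : ∀ j, Function.Bijective (resH (X := (A ⊗ A).left.toTopCat) (Coh.toAb M) j
      (le_top : p ⁻¹ᵁ V ≤ ⊤)) := by
    refine fun j => bijective_resH_of_support p M (Z := jumpSet L) ?_ hbZ hV.isCompact (W := W)
      (TopologicalSpace.NoetherianSpace.isCompact _) (fun y hy => hy) ?_ j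
    · intro y hy i
      haveI : IsLocallyNoetherian (A ⊗ A).left := by
        haveI : LocallyOfFiniteType (A ⊗ A).hom := inferInstanceAs (LocallyOfFiniteType (pullback.fst A.hom A.hom ≫ A.hom))
        exact LocallyOfFiniteType.isLocallyNoetherian (A ⊗ A).hom
      haveI : Flat A.hom := CubeLib.flat_of_field _
      haveI : Flat p := inferInstanceAs (Flat (pullback.fst A.hom A.hom))
      have hU := CohBC.isZero_rpush_restrict p M (PicLib.isCoh_of_isInvertible hΛ)
        (SeeSaw5.isFlatOver_of_invertible (f := p) hΛ) i W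
        fun z hz => fiberRank_off hL hL' hll hfin z hz i
      refine subsingleton_of_forall_eq 0 fun a => ?_
      obtain ⟨W', hW', m', rfl⟩ := ((Coh.Rpush p i).obj M).presheaf.exists_germ_eq a
      have hs' : Subsingleton Γ((Coh.Rpush p i).obj M, W.ι ''ᵁ W.ι ⁻¹ᵁ W') :=
        CohEdge27.subsingleton_of_isZero hU (W.ι ⁻¹ᵁ W')
      have hle : W.ι ''ᵁ W.ι ⁻¹ᵁ W' ≤ W' := by
        rintro _ ⟨z, hz, rfl⟩; exact hz
      rw [← TopCat.Presheaf.germ_res_apply _ (homOfLE hle) y ⟨⟨y, hy⟩, hW', rfl⟩,
        hs'.elim (ConcreteCategory.hom (((Coh.Rpush p i).obj M).presheaf.map (homOfLE hle).op) m') 0, map_zero]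
    · refine top_le_iff.1 fun y _ => ?_
      by_cases hy : y ∈ jumpSet L
      · exact Or.inl (hbZ hy)
      · exact Or.inr hy
  have hiff : ∀ j, Subsingleton (Coh.HH (A ⊗ A).left M j) ↔ Subsingleton Γ((Coh.Rpush p j).obj M, V) := by
    intro j
    letI : (p ⁻¹ᵁ V).toScheme.Over (Spec (CommRingCat.of Γ(A.left, V))) := ⟨toSpecSections p hV⟩
    obtain ⟨ψ⟩ := exists_rpush_sections_equiv p hV M j
    let e : Coh.HH (A ⊗ A).left M j ≃+ Γ((Coh.Rpush p j).obj M, V) :=
      (HHTopEquiv M j).trans ((AddEquiv.ofBijective _ (hbij j)).trans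
        ((HHonEquiv M (p ⁻¹ᵁ V) j).symm.trans ψ.toAddEquiv))
    exact ⟨fun h => e.symm.toEquiv.subsingleton, fun h => e.toEquiv.subsingleton⟩
  refine ⟨fun j hj => (hiff j).2 (hsec j hj V), fun hsub => ?_⟩
  -- otherwise every fibre is acyclic, also the trivial one
  have hz : ∀ j, IsZero ((Coh.Rpush p j).obj M) := by
    intro j
    rw [IsZero.iff_id_eq_zero]
    refine Scheme.Modules.hom_ext _ _ fun W' => ?_
    ext x
    by_cases hj : j = g
    · subst hj
      haveI := (hiff j).1 hsub
      have hst : ∀ y : A.left, Subsingleton (((Coh.Rpush p j).obj M).presheaf.stalk y : Type u) := fun y => by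
        by_cases hy : y ∈ V
        · haveI := isQCoh_rpush p M j
          let R := (Coh.Rpush p j).obj M
          let gm : Γ(R, V) →+ R.presheaf.stalk y := (R.presheaf.germ V y hy).hom
          refine subsingleton_of_forall_eq 0 fun a => ?_
          let _ : Algebra Γ(A.left, V) (A.left.presheaf.stalk y) := (A.left.presheaf.germ V y hy).hom.toAlgebra
          let _ : Module Γ(A.left, V) (R.presheaf.stalk y) :=
            Module.compHom (R.presheaf.stalk y) (A.left.presheaf.germ V y hy).hom
          let gl : Γ(R, V) →ₗ[Γ(A.left, V)] R.presheaf.stalk y :=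
            { toFun := gm, map_add' := map_add _, map_smul' := fun r m => QCohLoc.germ_smul' (M := R) hy r m }
          haveI := EGA43.QcohFP.isLocalizedModule_germ R hV hy gl fun _ => rfl
          obtain ⟨⟨m', s⟩, hs⟩ := IsLocalizedModule.surj (hV.primeIdealOf ⟨y, hy⟩).asIdeal.primeCompl gl a
          rw [Subsingleton.elim m' 0, map_zero] at hs
          exact IsLocalizedModule.smul_injective gl s (hs.trans (smul_zero s).symm)
        · have hU : y ∉ jumpSet L := fun h => hy (hbZ h)
          haveI : IsLocallyNoetherian (A ⊗ A).left := by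
            haveI : LocallyOfFiniteType (A ⊗ A).hom := inferInstanceAs (LocallyOfFiniteType (pullback.fst A.hom A.hom ≫ A.hom))
            exact LocallyOfFiniteType.isLocallyNoetherian (A ⊗ A).hom
          haveI : Flat A.hom := CubeLib.flat_of_field _
          haveI : Flat p := inferInstanceAs (Flat (pullback.fst A.hom A.hom))
          have hz' := CohBC.isZero_rpush_restrict p M (PicLib.isCoh_of_isInvertible hΛ)
            (SeeSaw5.isFlatOver_of_invertible (f := p) hΛ) j W
            fun z hz => fiberRank_off hL hL' hll hfin z hz j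
          refine subsingleton_of_forall_eq 0 fun a => ?_
          obtain ⟨W₁, hW₁, m₁, rfl⟩ := ((Coh.Rpush p j).obj M).presheaf.exists_germ_eq a
          have hs' : Subsingleton Γ((Coh.Rpush p j).obj M, W.ι ''ᵁ W.ι ⁻¹ᵁ W₁) :=
            CohEdge27.subsingleton_of_isZero hz' (W.ι ⁻¹ᵁ W₁)
          have hle : W.ι ''ᵁ W.ι ⁻¹ᵁ W₁ ≤ W₁ := by
            rintro _ ⟨z, hz, rfl⟩; exact hz
          rw [← TopCat.Presheaf.germ_res_apply _ (homOfLE hle) y ⟨⟨y, hU⟩, hW₁, rfl⟩,
            hs'.elim (ConcreteCategory.hom (((Coh.Rpush p j).obj M).presheaf.map (homOfLE hle).op) m₁) 0, map_zero]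
      exact (TopCat.Presheaf.section_ext (⟨((Coh.Rpush p j).obj M).presheaf, ((Coh.Rpush p j).obj M).isSheaf⟩ :
        TopCat.Sheaf Ab A.left) W' _ _ fun y _ => (hst y).elim _ _)
    · exact (hsec j hj W').elim _ _
  haveI : IsLocallyNoetherian (A ⊗ A).left := by
    haveI : LocallyOfFiniteType (A ⊗ A).hom := inferInstanceAs (LocallyOfFiniteType (pullback.fst A.hom A.hom ≫ A.hom))
    exact LocallyOfFiniteType.isLocallyNoetherian (A ⊗ A).hom
  haveI : Flat A.hom := CubeLib.flat_of_field _
  haveI : Flat p := inferInstanceAs (Flat (pullback.fst A.hom A.hom))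
  have hcoh := PicLib.isCoh_of_isInvertible hΛ
  have h0 := CohEdge27.fiberRank_eq_zero_of_isZero_rpush p M hcoh
    (SeeSaw5.isFlatOver_of_invertible (f := p) hΛ) hz 0 ((η[A] : 𝟙_ _ ⟶ A).left (IsLocalRing.closedPoint k))
  haveI : Subsingleton _ := (CohEdge27.fiberRank_fst_point M hcoh η[A] 0).1 h0
  have htriv : PicM.of (PicLoc.isInvertible_pullback (lift (toUnit A ≫ η[A]) (𝟙 A)).left hΛ) = 1 := by
    rw [slice_shearMod hL hL' η[A], show (toUnit A ≫ η[A]) = (1 : A ⟶ A) from rfl, _root_.mul_one,
      AbCubeLib.pb_id, hll]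
  obtain ⟨iso⟩ := (PicM.of_eq_one_iff (PicLoc.isInvertible_pullback _ hΛ)).1 htriv
  letI : A.left.Over (Spec (CommRingCat.of k)) := ⟨A.hom⟩
  have hlen := length_HH_zero (A := A)
  rw [← (HHCongr k iso 0).length_eq, Module.length_eq_zero] at hlen
  exact zero_ne_one hlen

include hll hfin in
/-- **The index theorem.** -/
theorem exists_index {g : ℕ} (hg : topologicalKrullDim A.left = g) :
    ∃ i : ℕ, i ≤ g ∧ (∀ j : ℕ, j ≠ i → Subsingleton (Coh.HH A.left L j)) ∧ Nontrivial (Coh.HH A.left L i) := by
  classical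
  obtain ⟨hne, hg'⟩ := cohomology_shear hL hL' hll hfin hg
  haveI : IsIntegral A.left := GeometricallyIntegral.isIntegral_of_subsingleton A.hom
  haveI : A.left.IsSeparated := Scheme.IsSeparated.mk (by
    rw [← terminal.comp_from A.hom]; infer_instance)
  haveI : IsNoetherian A.left := {
    LocallyOfFiniteType.isLocallyNoetherian A.hom, QuasiCompact.compactSpace_of_compactSpace A.hom with }
  letI : A.left.Over (Spec (CommRingCat.of k)) := ⟨A.hom⟩
  haveI : IsProper (A.left ↘ Spec (CommRingCat.of k)) := ‹IsProper A.hom›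
  have hbox : ∀ n, Subsingleton (Coh.HH (A ⊗ A).left (shearMod L L') n) ↔
      Subsingleton (Coh.HH (A ⊗ A).left (boxMod L L') n) := by
    intro n
    haveI hp : IsProper (A ⊗ A).hom := inferInstanceAs (IsProper (pullback.fst A.hom A.hom ≫ A.hom))
    haveI : IsIso (shear A).hom.left := inferInstanceAs (IsIso ((Over.forget _).map (shear A).hom))
    haveI : Coh.IsQCoh (boxMod L L') := AmpleLib.isQCoh_of_isInvertible (isInvertible_boxMod hL hL')
    refine ⟨fun h => ?_, fun h => CohEdge27.subsingleton_HH_pullback_iso (shear A).hom.left (A ⊗ A).hom _ n h⟩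
    haveI : IsProper ((shear A).hom.left ≫ (A ⊗ A).hom) := inferInstance
    haveI : Coh.IsQCoh (shearMod L L') := AmpleLib.isQCoh_of_isInvertible (isInvertible_shearMod hL hL')
    exact FlatMorStrat.subsingleton_HH_of_iso ((Scheme.Modules.pullbackComp (inv (shear A).hom.left) (shear A).hom.left).app _ ≪≫
      (Scheme.Modules.pullbackCongr (IsIso.inv_hom_id (shear A).hom.left)).app _ ≪≫ (Scheme.Modules.pullbackId _).app _) n
      (CohEdge27.subsingleton_HH_pullback_iso (inv (shear A).hom.left) ((shear A).hom.left ≫ (A ⊗ A).hom) (shearMod L L') n h)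
  have hdim : ∀ (M : A.left.Modules), PicF.IsInvertible M → ∀ j, g < j → Subsingleton (Coh.HH A.left M j) :=
    fun M hM j hj => by
      haveI : Coh.IsQCoh M := AmpleLib.isQCoh_of_isInvertible hM
      exact EulerLib.subsingleton_HH_of_dim _ hg.le hj
  -- both extreme degrees add up to `g`
  have hex : ∀ M : A.left.Modules, PicF.IsInvertible M → (∀ j, Subsingleton (Coh.HH A.left M j)) ∨
      ∃ a b : ℕ, ¬ Subsingleton (Coh.HH A.left M a) ∧ ¬ Subsingleton (Coh.HH A.left M b) ∧
        (∀ j, j < a → Subsingleton (Coh.HH A.left M j)) ∧ (∀ j, b < j → Subsingleton (Coh.HH A.left M j)) := by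
    intro M hM
    by_cases h : ∀ j, Subsingleton (Coh.HH A.left M j)
    · exact Or.inl h
    push Not at h
    obtain ⟨j, hj⟩ := h
    have hP : ∃ j, ¬ Subsingleton (Coh.HH A.left M j) := ⟨j, not_subsingleton_iff_nontrivial.2 hj⟩
    refine Or.inr ⟨Nat.find hP, Nat.findGreatest (fun j => ¬ Subsingleton (Coh.HH A.left M j)) g,
      Nat.find_spec hP, ?_, fun i hi => not_not.1 (Nat.find_min hP hi), fun i hi => ?_⟩
    · refine Nat.findGreatest_spec (P := fun j => ¬ Subsingleton (Coh.HH A.left M j)) (m := Nat.find hP) ?_ (Nat.find_spec hP)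
      by_contra hgt
      exact Nat.find_spec hP (hdim M hM _ (not_le.1 hgt))
    · rcases le_or_gt i g with hi' | hi'
      · exact not_not.1 (Nat.findGreatest_is_greatest hi hi')
      · exact hdim M hM _ hi'
  have hzero : ∀ n, n ≠ g → Subsingleton (Coh.HH (A ⊗ A).left (boxMod L L') n) := fun n hn => (hbox n).1 (hne n hn)
  have hkey : ∀ a c, (∀ r : ℕ, 2 ≤ r → r ≤ a →
      Subsingleton (Coh.HH A.left L (a - r)) ∨ Subsingleton (Coh.HH A.left L' (c + r - 1))) →
      (∀ r : ℕ, 2 ≤ r → r ≤ c + 1 →
      Subsingleton (Coh.HH A.left L (a + r)) ∨ Subsingleton (Coh.HH A.left L' (c + 1 - r))) →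
      ¬ Subsingleton (Coh.HH A.left L a) → ¬ Subsingleton (Coh.HH A.left L' c) → a + c = g := by
    intro a c hs ht ha hc
    by_contra hne'
    exact (subsingleton_or_of_corner A A L L' hL hL' a c hs ht (hzero _ hne')).elim ha hc
  have hall : ¬ ∀ n, Subsingleton (Coh.HH (A ⊗ A).left (boxMod L L') n) := fun h => hg' ((hbox g).2 (h g))
  obtain ⟨a, b, ha, hb, hlo, hhi⟩ := (hex L hL).resolve_left fun h => hall fun n =>
    subsingleton_boxM_of_acyclic A A L L' hL hL' (Or.inl h) n
  obtain ⟨a', b', ha', hb', hlo', hhi'⟩ := (hex L' hL').resolve_left fun h => hall fun n =>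
    subsingleton_boxM_of_acyclic A A L L' hL hL' (Or.inr h) n
  have e1 := hkey a a' (fun r hr hra => Or.inl (hlo _ (by omega))) (fun r hr hrc => Or.inr (hlo' _ (by omega))) ha ha'
  have e2 := hkey b b' (fun r hr hra => Or.inr (hhi' _ (by omega))) (fun r hr hrc => Or.inl (hhi _ (by omega))) hb hb'
  have hab : a ≤ b := le_of_not_gt fun h => ha (hhi _ h)
  have hab' : a' ≤ b' := le_of_not_gt fun h => ha' (hhi' _ h)
  refine ⟨a, not_lt.1 fun h => ha (hdim L hL _ h), fun j hj => ?_, not_subsingleton_iff_nontrivial.1 ha⟩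
  rcases lt_or_gt_of_ne hj with h | h
  · exact hlo j h
  · exact hhi j (by omega)

end Groth.Agent.AbCohLib
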