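import Groth.Agent.AbCohLib.RetractPull
import Groth.Agent.AbCohLib.Index
import Groth.Agent.AbCubeLib.MulDegree
import Groth.Agent.AbCubeLib.KernelPhi
import Groth.Agent.EulerLib.HilbPoly
import Groth.Agent.VarietyLib.CurveHom

/-!
# Cohomology of ample invertible modules on abelian varieties
-/

set_option autoImplicit false
set_option linter.style.haveILetI false
set_option backward.isDefEq.respectTransparency.types false
set_option maxHeartbeats 1600000

universe u

open CategoryTheory CategoryTheory.Limits MonoidalCategory CartesianMonoidalCategory MonObj GrpObj AlgebraicGeometry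
  Opposite TopologicalSpace
open Groth.Agent Groth.Agent.Coherent Groth.Agent.PicLib Groth.Agent.AbCubeLib Groth.Agent.AmpleLib

namespace Groth.Agent.AbCohLib

/-- Nonzero sections of invertible modules on integral schemes multiply to nonzero sections. -/
theorem exists_section_tensor_ne_zero {X : Scheme.{u}} [IsIntegral X] {L M : X.Modules} (hL : PicF.IsInvertible L)
    (hM : PicF.IsInvertible M) {s : Γ(L, ⊤)} (hs : s ≠ 0) {t : Γ(M, ⊤)} (ht : t ≠ 0) :
    ∃ v : Γ(CohB1.tensorMod L M, ⊤), v ≠ 0 := by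
  have hO : PicF.IsInvertible (Coh.structureModule X) := isInvertible_structureModule
  have hne : ∀ {N : X.Modules} {r : Γ(N, ⊤)}, r ≠ 0 → unitDesc N r ≠ 0 := fun {N r} hr h => hr (by
    have h1 := congrArg (fun φ => unitVal φ ⊤) h
    simp only [unitVal_unitDesc] at h1
    rw [resM_self] at h1
    exact h1)
  haveI := VarietyLib.mono_of_ne_zero_invertible hO hL (unitDesc L s) (hne hs)
  haveI := VarietyLib.mono_of_ne_zero_invertible hO hM (unitDesc M t) (hne ht)
  haveI := EulerLib.mono_tensorMap hM (unitDesc L s)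
  let ψ : Coh.structureModule X ⟶ CohB1.tensorMod L M :=
    unitDesc M t ≫ (unitTensorIso M).inv ≫ tensorMap (unitDesc L s) (𝟙 M)
  haveI : Mono ψ := inferInstance
  refine ⟨unitVal ψ ⊤, fun h0 => ?_⟩
  have h1 : (show Γ(Coh.structureModule X, ⊤) from (1 : Γ(X, ⊤))) = 0 :=
    ModStalk.app_injective_of_mono ψ (⊤ : X.Opens) (h0.trans (map_zero _).symm)
  exact one_ne_zero (α := Γ(X, ⊤)) h1

variable {k : Type u} [Field k]

/-- Large powers of an ample module have sections. -/
theorem exists_forall_section_pow {X : Scheme.{u}} [X.Over (Spec (CommRingCat.of k))] [IsIntegral X]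
    [IsProper (X ↘ Spec (CommRingCat.of k))] {L : X.Modules} (hL : CohB1.IsAmple L) {g : ℕ}
    (hg : topologicalKrullDim X = g) :
    ∃ a₀ : ℕ, ∀ a, a₀ ≤ a → ∃ s : Γ(CohB1.tensorPow L a, ⊤), s ≠ 0 := by
  haveI := EulerLib.isNoetherian_of_proper (X := X) k
  haveI := EulerLib.isSeparated_of_proper (X := X) k
  let O := Coh.structureModule X
  have hO : Coh.IsCoh O := isCoh_structureModule _
  have hdim : topologicalKrullDim (CohB1.support O) = g := by
    rw [show CohB1.support O = Set.univ from AbCubeLib.support_structureModule_eq_univ]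
    exact (IsHomeomorph.topologicalKrullDim_eq _ (Homeomorph.Set.univ X).isHomeomorph).trans hg
  obtain ⟨P, hP⟩ := EulerLib.exists_isHilbPoly k hL.1 hO hdim.le
  have hP0 : P ≠ 0 := by
    rintro rfl
    have := EulerLib.alpha_pos k hL hO hP hdim
    simp [StabCat.alpha] at this
  obtain ⟨a₁, ha₁⟩ := Serre.exists_subsingleton_HH_twist k hL O hO
  obtain ⟨b, hb⟩ : ∃ b : ℕ, ∀ a : ℕ, b ≤ a → P.eval (a : ℚ) ≠ 0 := by
    have hfin : Set.Finite {a : ℕ | P.eval (a : ℚ) = 0} :=
      (P.rootSet_finite ℚ |>.preimage Nat.cast_injective.injOn).subset fun a ha => by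
        simpa [Polynomial.mem_rootSet_of_ne hP0] using ha
    obtain ⟨b, hb⟩ := hfin.bddAbove
    exact ⟨b + 1, fun a ha h => by have := hb h; omega⟩
  refine ⟨max a₁ b, fun a ha => ?_⟩
  by_contra hnone
  push Not at hnone
  apply hb a (le_of_max_le_right ha)
  rw [← hP a]
  norm_cast
  haveI : Subsingleton Γ(CohB1.tensorPow L a, ⊤) := ⟨fun x y => (hnone x).trans (hnone y).symm⟩
  have h0 : Subsingleton (Coh.HH X (CohB1.tensorMod O (CohB1.tensorPow L a)) 0) :=
    FlatMorStrat.subsingleton_HH_of_iso (unitTensorIso _).symm 0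
      (CohEdge27.hhZero (CohB1.tensorPow L a)).toEquiv.subsingleton
  show Curv2.euler k X (CohB1.tensorMod O (CohB1.tensorPow L a)) = 0
  rw [EulerLib.euler_eq_sum k X _ 0 (fun q hq => ha₁ a (le_of_max_le_left ha) q hq)]
  simp [Module.finrank_zero_of_subsingleton]

/-- **Ample modules on abelian varieties have only sections as cohomology.** -/
theorem cohomology_ample [IsAlgClosed k] {A : Over (Spec (CommRingCat.of k))} [GrpObj A] [IsProper A.hom]
    [GeometricallyIntegral A.hom] {L : A.left.Modules} (hL : CohB1.IsAmple L) :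
    (∀ j : ℕ, 0 < j → Subsingleton (Coh.HH A.left L j)) ∧ Nontrivial (Coh.HH A.left L 0) := by
  haveI : IsIntegral A.left := GeometricallyIntegral.isIntegral_of_subsingleton A.hom
  letI : A.left.Over (Spec (CommRingCat.of k)) := ⟨A.hom⟩
  haveI : IsProper (A.left ↘ Spec (CommRingCat.of k)) := ‹IsProper A.hom›
  haveI := EulerLib.isNoetherian_of_proper (X := A.left) k
  haveI := EulerLib.isSeparated_of_proper (X := A.left) k
  obtain ⟨g, hg⟩ := AbCubeLib.exists_dim_eq A
  -- both ample families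
  haveI : IsIso ((𝟙 A)⁻¹).left := inferInstanceAs (IsIso ((Over.forget _).map (ι[A])))
  have hL' := isAmple_pullback_of_isAffineHom ((𝟙 A)⁻¹).left hL
  obtain ⟨a₀, ha₀⟩ := exists_forall_section_pow (k := k) hL hg
  obtain ⟨b₀, hb₀⟩ := exists_forall_section_pow (k := k) hL' hg
  obtain ⟨n, hn, hn1, hnk⟩ : ∃ n : ℕ, a₀ + b₀ + 2 ≤ n ∧ 0 < n ∧ (n : k) ≠ 0 := by
    by_cases h : ((a₀ + b₀ + 2 : ℕ) : k) = 0
    · refine ⟨a₀ + b₀ + 2 + 1, by omega, by omega, ?_⟩
      rw [Nat.cast_succ, h, _root_.zero_add]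
      exact one_ne_zero
    · exact ⟨_, le_rfl, by omega, h⟩
  have hc1 : a₀ ≤ (n + 1).choose 2 := by
    have : n ≤ (n + 1).choose 2 := by rw [choose_two_succ]; omega
    omega
  have hc2 : b₀ ≤ n.choose 2 := by
    obtain ⟨m, rfl⟩ : ∃ m, n = m + 1 := ⟨n - 1, by omega⟩
    rw [choose_two_succ]; omega
  obtain ⟨s, hs⟩ := ha₀ _ hc1
  obtain ⟨t, ht⟩ := hb₀ _ hc2
  have hpa := isInvertible_tensorPow hL.1 ((n + 1).choose 2)
  have hpb := isInvertible_tensorPow hL'.1 (n.choose 2)
  obtain ⟨v, hv⟩ := exists_section_tensor_ne_zero hpa hpb hs ht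
  haveI := isFinite_pow (A := A) hn1
  haveI := flat_pow (A := A) hn1
  haveI := surjective_pow (A := A) hn1
  have hNamp := isAmple_pullback_of_isAffineHom ((𝟙 A) ^ n).left hL
  obtain ⟨e⟩ : Nonempty ((Scheme.Modules.pullback ((𝟙 A) ^ n).left).obj L ≅
      CohB1.tensorMod (CohB1.tensorPow L ((n + 1).choose 2))
        (CohB1.tensorPow ((Scheme.Modules.pullback ((𝟙 A)⁻¹).left).obj L) (n.choose 2))) := by
    refine (PicM.of_eq_iff hNamp.1 (isInvertible_tensorMod hpa hpb)).1 ?_
    rw [← PicM.pull_of _ hL.1, ← PicM.of_mul hpa hpb, PicM.of_tensorPow hL.1, PicM.of_tensorPow hL'.1,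
      ← PicM.pull_of _ hL.1]
    show pb ((𝟙 A) ^ n) (PicM.of hL.1) = _
    rw [pb_pow, pb_id]
  have hne : Nontrivial (Coh.HH A.left ((Scheme.Modules.pullback ((𝟙 A) ^ n).left).obj L) 0) := by
    rw [← not_subsingleton_iff_nontrivial]
    intro hsub
    haveI := FlatMorStrat.subsingleton_HH_of_iso e 0 hsub
    exact hv ((CohEdge27.hhZero _).symm.injective (Subsingleton.elim _ _))
  -- the indices
  have hindex : ∀ {M : A.left.Modules}, CohB1.IsAmple M → ∃ i : ℕ, i ≤ g ∧
      (∀ j : ℕ, j ≠ i → Subsingleton (Coh.HH A.left M j)) ∧ Nontrivial (Coh.HH A.left M i) := by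
    intro M hM
    obtain ⟨m', hm'⟩ := PicM.exists_mul_eq_one (PicM.of hM.1)
    obtain ⟨M', hM', rfl⟩ := PicM.exists_eq_of m'
    refine exists_index hM.1 hM' hm' ((finite_fixing_of_isAmple hM).subset ?_) hg
    rintro x ⟨ex⟩
    exact (PicM.pull_of _ hM.1).trans ((PicM.of_eq_iff (PicLoc.isInvertible_pullback _ hM.1) hM.1).2 ⟨ex⟩)
  obtain ⟨i, -, hi, hi'⟩ := hindex hNamp
  obtain rfl : i = 0 := by
    by_contra h
    exact not_subsingleton_iff_nontrivial.2 hne (hi 0 (Ne.symm h))
  haveI : Coh.IsQCoh L := isQCoh_of_isInvertible hL.1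
  have hvan : ∀ j : ℕ, 0 < j → Subsingleton (Coh.HH A.left L j) := fun j hj =>
    subsingleton_HH_of_pullback k ((𝟙 A) ^ n).left (Over.w _) (n ^ (2 * g)) (finrank_pow hn1 hg)
      (by rw [Nat.cast_pow]; exact pow_ne_zero _ hnk) L j (hi j (by omega))
  refine ⟨hvan, ?_⟩
  obtain ⟨i, -, hj, hj'⟩ := hindex hL
  rcases Nat.eq_zero_or_pos i with rfl | h
  · exact hj'
  · exact absurd (hvan i h) (not_subsingleton_iff_nontrivial.2 hj')

end Groth.Agent.AbCohLib
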