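import Groth.Agent.Coherent.CohBC.BaseChange
import Groth.Agent.Coherent.SecBridge
import Groth.Agent.AbCubeLib.StabilizerComponents
import Groth.Agent.Surf15.CycleSections

/-!
# A module with free sections of rank one over an Artinian base is trivial when its closed fibre is
-/

set_option autoImplicit false
set_option linter.style.haveILetI false
set_option backward.isDefEq.respectTransparency false

universe u

open CategoryTheory CategoryTheory.Limits AlgebraicGeometry TopologicalSpace Opposite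
open scoped TensorProduct
open Groth.Agent.Coherent Groth.Agent.Coherent.CohBC Groth.Agent.AmpleLib Groth.Agent.PicLib

namespace Groth.Agent.AbCohLib

/-- An element killed by the maximal ideal, in a nilpotent situation. -/
theorem exists_socle {S : Type u} [CommRing S] (m : Ideal S) (htop : (⊤ : Ideal S) ≠ ⊥) (h : ∃ N, m ^ N = ⊥) :
    ∃ a : S, a ≠ 0 ∧ ∀ x ∈ m, x * a = 0 := by
  classical
  let N := Nat.find h
  have hN : m ^ N = ⊥ := Nat.find_spec h
  obtain ⟨M, hM⟩ : ∃ M, N = M + 1 := Nat.exists_eq_succ_of_ne_zero fun h0 => htop (by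
    rw [h0, pow_zero, Ideal.one_eq_top] at hN; exact hN)
  obtain ⟨a, ha, ha0⟩ := (Submodule.ne_bot_iff _).1 (Nat.find_min h (show M < N by omega))
  refine ⟨a, ha0, fun x hx => ?_⟩
  have : x * a ∈ m ^ (M + 1) := by rw [pow_succ']; exact Ideal.mul_mem_mul hx ha
  rwa [← hM, hN, Ideal.mem_bot] at this

variable {S k : Type u} [CommRing S] [Field k] (ε : S →+* k) (c : k →+* S)

/-- **Freeness of the sections forces triviality.** -/
theorem nonempty_iso_of_free_sections (hc : ∀ b, ε (c b) = b) (hnil : ∃ N, RingHom.ker ε ^ N = ⊥)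
    {X X' : Scheme.{u}} [X.Over (Spec (CommRingCat.of S))] [X'.Over (Spec (CommRingCat.of k))]
    [IsIntegral X'] [UniversallyClosed (X' ↘ Spec (CommRingCat.of k))]
    (g : X' ⟶ X) (h : IsPullback g (X' ↘ Spec (CommRingCat.of k)) (X ↘ Spec (CommRingCat.of S))
      (Spec.map (CommRingCat.ofHom ε)))
    {F : X.Modules} (hF : PicF.IsInvertible F) (hg : PicM.of (PicLoc.isInvertible_pullback g hF) = 1)
    (y : GA (Coh.toGlobal (X ↘ Spec (CommRingCat.of S))) F) (hy : Function.Injective fun r : S => r • y) :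
    Nonempty (F ≅ Coh.structureModule X) := by
  haveI : Coh.IsQCoh F := isQCoh_of_isInvertible hF
  have htop : (⊤ : Ideal S) ≠ ⊥ := fun e => one_ne_zero (α := k) (by
    rw [← map_one ε, show (1 : S) = 0 from Ideal.mem_bot.1 (e ▸ Submodule.mem_top), map_zero])
  obtain ⟨a, ha0, ha⟩ := exists_socle _ htop hnil
  have hsec : (pullSec g (y : Γ(F, ⊤)) : Γ((Scheme.Modules.pullback g).obj F, g ⁻¹ᵁ ⊤)) ≠ 0 := by
    intro h0
    refine ha0 (hy (show a • y = (0 : S) • y from ?_))
    rw [zero_smul]
    let r : Γ(X, ⊤) := Coh.toGlobal (X ↘ Spec (CommRingCat.of S)) a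
    let y' : Γ(F, ⊤) := y
    show r • y' = 0
    refine TopCat.Sheaf.eq_of_locally_eq' (⟨(Coh.toAb F).obj, (Coh.toAb F).property⟩ :
        TopCat.Sheaf AddCommGrpCat.{u} X.toTopCat)
      (fun U : X.affineOpens => (U : X.Opens)) ⊤ (fun U => homOfLE le_top) ?_ _ _ fun U => ?_
    · exact fun x _ => by
        obtain ⟨U, hU, hxU, -⟩ := Opens.isBasis_iff_nbhd.mp X.isBasis_affineOpens (Opens.mem_top x)
        exact Opens.mem_iSup.2 ⟨⟨U, hU⟩, hxU⟩
    show resM F le_top (r • y') = resM F le_top 0
    rw [resM_smul]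
    show toΓ S (U : X.Opens) a • resM F le_top (y : Γ(F, ⊤)) = _
    rw [show resM F (le_top (a := (U : X.Opens))) 0 = 0 from map_zero _]
    letI := ε.toAlgebra
    let z : Γ(F, U) := resM F le_top (y : Γ(F, ⊤))
    have h1 : secBC ε g h F U (1 ⊗ₜ z) = 0 := by
      refine (secBC_tmul ε g h F U 1 z).trans ?_
      rw [one_smul]
      refine ((resM_pullSec g (le_top : (U : X.Opens) ≤ ⊤) (y : Γ(F, ⊤))).symm).trans ?_
      rw [h0]
      exact map_zero _
    have h2 : (1 : k) ⊗ₜ[S] z = 0 := (bijective_secBC ε g h F U.2).1 (h1.trans (map_zero _).symm)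
    let Ψ : k ⊗[S] Γ(F, U) →+ Γ(F, U) := TensorProduct.liftAddHom
      (AddMonoidHom.mk' (fun b => AddMonoidHom.mk' (fun m => (a * c b) • m) fun m m' => smul_add _ _ _)
        fun b b' => AddMonoidHom.ext fun m => by
          show (a * c (b + b')) • m = (a * c b) • m + (a * c b') • m
          rw [map_add, mul_add, add_smul])
      fun r b m => by
        show (a * c (ε r * b)) • m = (a * c b) • (r • m)
        rw [← mul_smul]
        refine congrArg (· • m) (sub_eq_zero.1 ?_)
        rw [map_mul, show a * (c (ε r) * c b) - a * c b * r = (c (ε r) - r) * a * c b by ring,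
          ha _ (by rw [RingHom.mem_ker, map_sub, hc, sub_self]), zero_mul]
    have h3 := congrArg Ψ h2
    rw [map_zero] at h3
    have h4 : (a * c 1) • z = 0 := h3
    rw [map_one, mul_one] at h4
    exact h4
  have hgl := AbCubeLib.glocus_eq_top_of_eq_one (X' ↘ Spec (CommRingCat.of k)) hg hsec
  rw [glocus_pullSec g hF] at hgl
  haveI : Surjective (Spec.map (CommRingCat.ofHom ε)) := ⟨fun p => ⟨(default : PrimeSpectrum k), by
    apply PrimeSpectrum.ext
    obtain ⟨N, hN⟩ := hnil
    haveI : (RingHom.ker ε).IsMaximal := RingHom.ker_isMaximal_of_surjective ε fun b => ⟨c b, hc b⟩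
    have hle : RingHom.ker ε ≤ p.asIdeal := p.2.le_of_pow_le (n := N) (hN ▸ bot_le)
    rw [← ‹(RingHom.ker ε).IsMaximal›.eq_of_le p.2.ne_top hle, RingHom.ker_eq_comap_bot]
    exact congrArg (Ideal.comap ε) (((default : PrimeSpectrum k).asIdeal.eq_bot_or_top).resolve_right
      (default : PrimeSpectrum k).2.ne_top)⟩⟩
  haveI : Surjective g := MorphismProperty.of_isPullback h.flip inferInstance
  refine Surf15.nonempty_iso_of_glocus_eq_top (s := (y : Γ(F, ⊤))) (Opens.ext (Set.eq_univ_of_forall fun x => ?_))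
  obtain ⟨x', rfl⟩ := g.surjective x
  exact (show x' ∈ g ⁻¹ᵁ glocus F (y : Γ(F, ⊤)) by rw [hgl]; trivial)

end Groth.Agent.AbCohLib
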