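import Groth.Agent.S17505
import Groth.Agent.EulerLib.IntPoly

/-!
# The Euler characteristic of the inverse of a class
-/

set_option autoImplicit false
set_option linter.style.haveILetI false
set_option backward.isDefEq.respectTransparency.types false
set_option maxHeartbeats 800000

universe u

open CategoryTheory CategoryTheory.Limits MonoidalCategory CartesianMonoidalCategory MonObj GrpObj AlgebraicGeometry
open Groth.Agent Groth.Agent.PicLib Groth.Agent.AbCubeLib Groth.Agent.S17505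

namespace Groth.Agent.AbCohLib

variable {k : Type u} [Field k] {A : Over (Spec (CommRingCat.of k))} [GrpObj A] [IsProper A.hom]
  [GeometricallyIntegral A.hom]

/-- `m ↦ χ(a^m)` is polynomial on all integers. -/
theorem exists_poly_eul {g : ℕ} (hg : topologicalKrullDim A.left = g) (u : (PicM A.left)ˣ) :
    ∃ P : Polynomial ℚ, ∀ m : ℤ, (eul k A ((u ^ m : (PicM A.left)ˣ) : PicM A.left) : ℚ) = P.eval (m : ℚ) := by
  letI : A.left.Over (Spec (CommRingCat.of k)) := ⟨A.hom⟩
  haveI : IsProper (A.left ↘ Spec (CommRingCat.of k)) := ‹IsProper A.hom›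
  haveI := EulerLib.isNoetherian_of_proper (X := A.left) k
  obtain ⟨P, -, hP⟩ := EulerLib.exists_poly_int (r := g) k (Coherent.isCoh_structureModule A.left) hg.le
    (fun m : ℤ => invOf ((u ^ m : (PicM A.left)ˣ) : PicM A.left)) (by simp)
    (fun a b => by rw [zpow_add, Units.val_mul, map_mul])
  exact ⟨P, hP⟩

/-- A polynomial with the values of `C x^g` on an infinite set. -/
theorem eq_mul_pow {P : Polynomial ℚ} {C : ℚ} {g : ℕ} {f : ℕ → ℚ} (hf : Function.Injective f)
    (h : ∀ n, P.eval (f n) = C * f n ^ g) (x : ℚ) : P.eval x = C * x ^ g := by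
  have : P = Polynomial.C C * Polynomial.X ^ g :=
    Polynomial.eq_of_infinite_eval_eq _ _ (Set.infinite_of_injective_forall_mem hf fun n => by simp [h n])
  simp [this]

/-- **`χ(a⁻¹) = (-1)^g χ(a)`.** -/
theorem eul_inv {g : ℕ} (hg : topologicalKrullDim A.left = g) (a a' : PicM A.left) (ha : a * a' = 1) :
    eul k A a' = (-1) ^ g * eul k A a := by
  haveI : IsCommMonObj A := isCommMonObj_of_isProper_of_geometricallyIntegral A
  let b := pb (𝟙 A)⁻¹ a
  let b' := pb (𝟙 A)⁻¹ a'
  have hb : b * b' = 1 := by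
    show PicM.pull _ a * PicM.pull _ a' = 1
    rw [← map_mul, ha, map_one]
  have hb'' : pb (𝟙 A)⁻¹ b = a := by
    show pb (𝟙 A)⁻¹ (pb (𝟙 A)⁻¹ a) = a
    rw [pb_pb, GrpObj.comp_inv, Category.comp_id, _root_.inv_inv, pb_id]
  have hb''' : pb (𝟙 A)⁻¹ b' = a' := by
    show pb (𝟙 A)⁻¹ (pb (𝟙 A)⁻¹ a') = a'
    rw [pb_pb, GrpObj.comp_inv, Category.comp_id, _root_.inv_inv, pb_id]
  let c := a * b
  let d := a * b'
  have hc : pb (𝟙 A)⁻¹ c = c := by
    show PicM.pull _ (a * b) = a * b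
    rw [map_mul]
    show b * pb (𝟙 A)⁻¹ b = a * b
    rw [hb'', _root_.mul_comm]
  have hd : ∀ n : ℕ, pb ((𝟙 A) ^ n) d = d ^ n := by
    intro n
    show PicM.pull _ (a * b') = _
    rw [map_mul]
    show pb ((𝟙 A) ^ n) a * pb ((𝟙 A) ^ n) b' = _
    rw [pb_pow, pb_pow, pb_id, pb_id, hb''']
    show a ^ (n + 1).choose 2 * b ^ n.choose 2 * (b' ^ (n + 1).choose 2 * a' ^ n.choose 2) = (a * b') ^ n
    have h2 : (n + 1).choose 2 = n + n.choose 2 := by rw [Nat.choose_succ_succ, Nat.choose_one_right]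
    rw [h2, pow_add, pow_add, mul_pow]
    calc a ^ n * a ^ n.choose 2 * b ^ n.choose 2 * (b' ^ n * b' ^ n.choose 2 * a' ^ n.choose 2)
        = a ^ n * b' ^ n * ((a * a') ^ n.choose 2 * (b * b') ^ n.choose 2) := by
          rw [mul_pow, mul_pow]; ac_rfl
      _ = a ^ n * b' ^ n := by rw [ha, hb, one_pow, _root_.mul_one, _root_.mul_one]
  have hdc : ∀ m : ℕ, eul k A (a ^ (2 * m)) = eul k A (c ^ m) := by
    intro m
    rw [← euler_mul_invariant k g hg (d ^ m) (c ^ m) fun n => by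
      show PicM.pull _ (d ^ m) = _
      rw [map_pow]
      show pb ((𝟙 A) ^ n) d ^ m = _
      rw [hd, ← pow_mul, ← pow_mul, Nat.mul_comm]]
    congr 1
    rw [← mul_pow, pow_mul]
    congr 1
    calc a ^ 2 = a ^ 2 * (b * b') := by rw [hb, _root_.mul_one]
      _ = (a * b') * (a * b) := by rw [sq]; ac_rfl
  let uc : (PicM A.left)ˣ := ⟨c, a' * b',
    by rw [show c * (a' * b') = (a * a') * (b * b') by simp only [c]; ac_rfl, ha, hb, _root_.mul_one],
    by rw [show a' * b' * c = (a * a') * (b * b') by simp only [c]; ac_rfl, ha, hb, _root_.mul_one]⟩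
  let ua : (PicM A.left)ˣ := ⟨a, a', ha, (_root_.mul_comm a' a).trans ha⟩
  obtain ⟨Pc, hPc⟩ := exists_poly_eul hg uc
  obtain ⟨Pa, hPa⟩ := exists_poly_eul hg ua
  have hPc' : ∀ n : ℕ, (eul k A (c ^ n) : ℚ) = Pc.eval (n : ℚ) := fun n => by
    have h := hPc n
    rwa [zpow_natCast, Units.val_pow_eq_pow_val, Int.cast_natCast] at h
  have hPa' : ∀ n : ℕ, (eul k A (a ^ n) : ℚ) = Pa.eval (n : ℚ) := fun n => by
    have h := hPa n
    rwa [zpow_natCast, Units.val_pow_eq_pow_val, Int.cast_natCast] at h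
  let E : ℚ := (eul k A c : ℚ)
  have hcx : ∀ x : ℚ, Pc.eval x = E * x ^ g := by
    refine eq_mul_pow (f := fun n => (((n + 1) * (n + 1) : ℕ) : ℚ)) (fun m n h => ?_) fun n => ?_
    · have h' : (m + 1) * (m + 1) = (n + 1) * (n + 1) := Nat.cast_injective h
      exact Nat.succ_injective (Nat.mul_self_inj.1 h')
    · haveI := AbCubeLib.isFinite_pow (A := A) (Nat.succ_pos n)
      haveI := AbCubeLib.flat_pow (A := A) (Nat.succ_pos n)
      have h := euler_pull k ((𝟙 A) ^ (n + 1)) (AbCubeLib.finrank_pow (Nat.succ_pos n) hg) c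
      rw [pb_pow_symmetric hc] at h
      rw [← hPc', h]
      push_cast
      rw [two_mul, pow_add, mul_pow]
      simp only [E]
      ring
  have hax : ∀ x : ℚ, Pa.eval x = E / 2 ^ g * x ^ g := by
    refine eq_mul_pow (f := fun n => ((2 * n : ℕ) : ℚ)) (fun m n h => by simpa using h) fun n => ?_
    rw [← hPa', hdc, hPc', hcx]
    push_cast
    rw [mul_pow]
    field_simp
  have h1 := hPa 1
  have h2 := hPa (-1)
  rw [zpow_one] at h1
  rw [zpow_neg, zpow_one] at h2
  change (eul k A a : ℚ) = _ at h1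
  change (eul k A a' : ℚ) = _ at h2
  have h3 : (eul k A a' : ℚ) = (-1) ^ g * (eul k A a : ℚ) := by
    rw [h1, h2, hax, hax]
    push_cast
    ring
  exact_mod_cast h3

end Groth.Agent.AbCohLib
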