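import Groth.Agent.AbCohLib.PoincareEdge
import Groth.Agent.AbCohLib.EulerBox
import Groth.Agent.AbCohLib.EulerInv
import Groth.Agent.AbCohLib.Index
import Groth.Agent.Coherent.SupportPullback
import Groth.Agent.DCat.ClosedPush
import Groth.Agent.FlatBC14.Main

/-!
# Riemann–Roch: `χ(L)² = deg φ_L`
-/

set_option autoImplicit false
set_option linter.style.haveILetI false
set_option backward.isDefEq.respectTransparency.types false
set_option maxHeartbeats 3200000

universe u

open CategoryTheory CategoryTheory.Limits MonoidalCategory CartesianMonoidalCategory MonObj GrpObj AlgebraicGeometry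
  Opposite TopologicalSpace
open Groth.Agent Groth.Agent.PicLib Groth.Agent.AbCubeLib Groth.Agent.AbDualLib Groth.Agent.Coherent
  Groth.Agent.Coherent.CohBC Groth.Agent.EulerLib Groth.Agent.VarietyLib

namespace Groth.Agent.AbCohLib

variable {k : Type u} [Field k]

/-- Whiskering gives a cartesian square over the second factor. -/
theorem isPullback_whiskerLeft (A : Over (Spec (CommRingCat.of k))) {T W : Over (Spec (CommRingCat.of k))} (t : T ⟶ W) :
    IsPullback (A ◁ t).left (snd A T).left (snd A W).left t.left := by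
  refine IsPullback.of_right ?_ ?_ (IsPullback.of_hasPullback A.hom W.hom)
  · have e₁ : (A ◁ t).left ≫ (fst A W).left = (fst A T).left := by rw [← Over.comp_left, whiskerLeft_fst]
    erw [e₁]
    rw [Over.w t]
    exact IsPullback.of_hasPullback A.hom T.hom
  · rw [← Over.comp_left, whiskerLeft_snd, Over.comp_left]

/-- A twist does not change the Euler characteristic of a module with finite support. -/
theorem euler_twist_finite {X : Scheme.{u}} [X.Over (Spec (CommRingCat.of k))]
    [IsProper (X ↘ Spec (CommRingCat.of k))] {T : X.Modules} (hT : Coh.IsCoh T)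
    (hfin : (CohB1.support T).Finite) (hcl : ∀ x ∈ CohB1.support T, IsClosed ({x} : Set X))
    {L : X.Modules} (hL : PicF.IsInvertible L) :
    Curv2.euler k X (CohB1.tensorMod T L) = Curv2.euler k X T := by
  haveI := EulerLib.isNoetherian_of_proper k (X := X)
  haveI : Finite (CohB1.support T) := hfin
  haveI : T1Space (CohB1.support T) := ⟨fun x => by
    have := (hcl x.1 x.2).preimage (continuous_subtype_val (p := (· ∈ CohB1.support T)))
    convert this using 1
    ext y; simp [Subtype.ext_iff]⟩
  haveI : DiscreteTopology (CohB1.support T) := inferInstance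
  have hd : topologicalKrullDim (CohB1.support T) < ((1 : ℕ) : WithBot ℕ∞) := by
    have h0 : topologicalKrullDim (CohB1.support T) ≤ (0 : WithBot ℕ∞) := topologicalKrullDim_zero_of_discreteTopology _
    exact h0.trans_lt (by exact_mod_cast Nat.zero_lt_one)
  have hO : PicF.IsInvertible (Coh.structureModule X) := AmpleLib.isInvertible_structureModule
  have h := congrFun (degLT_chiTwist k 1 T hT hd ⟨L, hL⟩) ⟨_, hO⟩
  have h' := sub_eq_zero.1 h
  refine Eq.trans ?_ (h'.trans ?_)
  · exact euler_congr k X (AmpleLib.tensorIso (Iso.refl T) ((AmpleLib.unitTensorIso L).symm ≪≫ AmpleLib.tensorComm _ _))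
  · exact euler_congr k X (AmpleLib.tensorComm _ _ ≪≫ AmpleLib.unitTensorIso T)

variable {A At : Over (Spec (CommRingCat.of k))}
  [GrpObj A] [IsProper A.hom] [Smooth A.hom] [GeometricallyConnected A.hom]
  [GrpObj At] [IsProper At.hom] [Smooth At.hom] [GeometricallyConnected At.hom]
  {φ : ∀ T : Over (Spec (CommRingCat.of k)), PicF.Cl (PicF.XT A.hom T) → (T ⟶ At)}
  (hφ : AbDual.IsDualAV Scheme.fppfPrecoverage A At φ) {P : (A ⊗ At).left.Modules}
  (hP : PicF.IsInvertible P) (hPξ : AbDual.IsPoincareCl A At φ (PicF.cl P))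

include hφ hP hPξ in
/-- The Poincaré class pulled back by the classifying map of a rigidified family. -/
theorem ev_eq_of_rigid {T : Over (Spec (CommRingCat.of k))} (c : PicM (A ⊗ T).left)
    (h0 : AbDual.IsPicZeroCl A.hom T c.val) (hrig : pb (lift (1 : T ⟶ A) (𝟙 T)) c = 1) :
    ev (PicM.of hP) (fst A T) (snd A T ≫ φ T c.val) = c := by
  obtain ⟨h1, h2, h3⟩ := point_class hφ hP hPξ (φ T c.val)
  exact eq_of_phi_eq hφ _ _ h1 h0 h3 hrig h2

include hφ hP hPξ in
/-- **`χ(L)² = deg φ_L`.** -/
theorem euler_sq_eq_degree {g : ℕ} (hg : topologicalKrullDim A.left = g) {L L' : A.left.Modules}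
    (hL : PicF.IsInvertible L) (hL' : PicF.IsInvertible L') (hll : PicM.of hL * PicM.of hL' = 1)
    (c : PicM (A ⊗ A).left)
    (hc : c = pb μ[A] (PicM.of hL) * pb (fst A A) (PicM.of hL') * pb (snd A A) (PicM.of hL'))
    (h0 : AbDual.IsPicZeroCl A.hom A c.val) [IsFinite (φ A c.val).left] [Flat (φ A c.val).left]
    (d : ℕ) (hd : ∀ y : At.left, Scheme.Hom.finrank (φ A c.val).left y = d) :
    @Curv2.euler k _ A.left ⟨A.hom⟩ L ^ 2 = (d : ℤ) := by
  haveI : GeometricallyIntegral A.hom := AbVarLib.geometricallyIntegral_of_smooth A.hom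
  haveI : GeometricallyIntegral At.hom := AbVarLib.geometricallyIntegral_of_smooth At.hom
  have hgt : topologicalKrullDim At.left = g := (dim_dual_eq hφ).symm.trans hg
  have hAA : topologicalKrullDim (A ⊗ A).left = ((g + g : ℕ) : WithBot ℕ∞) := AbCubeLib.dim_tensor hg hg
  letI : A.left.Over (Spec (CommRingCat.of k)) := ⟨A.hom⟩
  letI : At.left.Over (Spec (CommRingCat.of k)) := ⟨At.hom⟩
  letI : (A ⊗ A).left.Over (Spec (CommRingCat.of k)) := ⟨(A ⊗ A).hom⟩
  letI : (Spec (CommRingCat.of k)).Over (Spec (CommRingCat.of k)) := ⟨𝟙 _⟩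
  haveI : IsProper (A.left ↘ Spec (CommRingCat.of k)) := ‹IsProper A.hom›
  haveI : IsProper (At.left ↘ Spec (CommRingCat.of k)) := ‹IsProper At.hom›
  haveI : IsProper ((A ⊗ A).left ↘ Spec (CommRingCat.of k)) :=
    inferInstanceAs (IsProper (pullback.fst A.hom A.hom ≫ A.hom))
  haveI : IsProper ((Spec (CommRingCat.of k)) ↘ Spec (CommRingCat.of k)) := inferInstanceAs (IsProper (𝟙 _))
  haveI := EulerLib.isNoetherian_of_proper k (X := A.left)
  haveI := EulerLib.isNoetherian_of_proper k (X := At.left)
  haveI := EulerLib.isNoetherian_of_proper k (X := (A ⊗ A).left)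
  haveI := hasInjectiveResolutions_modules (A ⊗ A).left
  haveI := hasInjectiveResolutions_modules (A ⊗ At).left
  haveI := hasInjectiveResolutions_modules A.left
  -- the classifying map
  let f : A ⟶ At := φ A c.val
  have hrig : pb (lift (1 : A ⟶ A) (𝟙 A)) c = 1 := by
    rw [hc]
    show PicM.pull _ (_ * _ * _) = 1
    rw [map_mul, map_mul]
    show pb _ (pb _ _) * pb _ (pb _ _) * pb _ (pb _ _) = 1
    rw [pb_pb, pb_pb, pb_pb, lift_fst, lift_snd, show (1 : A ⟶ A) = toUnit A ≫ η[A] from rfl, pb_const,
      show μ[A] = fst A A * snd A A by rw [Hom.mul_def, lift_fst_snd, Category.id_comp], comp_mul, lift_fst, lift_snd,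
      show toUnit A ≫ η[A] = (1 : A ⟶ A) from rfl, _root_.one_mul, pb_id, pb_id, _root_.mul_one, hll]
  have hev := ev_eq_of_rigid hφ hP hPξ c h0 hrig
  -- the pulled back Poincaré module and its twist
  haveI : Coh.IsQCoh P := AmpleLib.isQCoh_of_isInvertible hP
  let Q := (Scheme.Modules.pullback (A ◁ f).left).obj P
  have hQ : PicF.IsInvertible Q := PicLoc.isInvertible_pullback _ hP
  haveI : Coh.IsQCoh Q := AmpleLib.isQCoh_of_isInvertible hQ
  let q := (snd A A).left
  haveI : IsProper q := inferInstanceAs (IsProper (pullback.snd A.hom A.hom))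
  let M := CohB1.tensorMod ((Scheme.Modules.pullback q).obj L) Q
  have hM : PicF.IsInvertible M := AmpleLib.isInvertible_tensorMod (PicLoc.isInvertible_pullback _ hL) hQ
  have hMc := PicLib.isCoh_of_isInvertible hM
  -- it is a sheared box product
  let σ : A ⊗ A ⟶ A ⊗ A := lift μ[A] (fst A A)
  haveI : IsCommMonObj A := isCommMonObj_of_isProper_of_geometricallyIntegral A
  haveI : IsIso σ := ⟨lift (snd A A) (fst A A * (snd A A)⁻¹), by
    ext
    · simp [σ]
    · simp [σ, show μ[A] = fst A A * snd A A by rw [Hom.mul_def, lift_fst_snd, Category.id_comp],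
        comp_mul, GrpObj.comp_inv, _root_.mul_comm (fst A A) (snd A A), _root_.mul_assoc], by
    ext
    · simp [σ, show μ[A] = fst A A * snd A A by rw [Hom.mul_def, lift_fst_snd, Category.id_comp], comp_mul,
        _root_.mul_comm (snd A A)]
    all_goals simp [σ]⟩
  haveI : IsIso σ.left := inferInstanceAs (IsIso ((Over.forget _).map σ))
  have hbox := isInvertible_boxMod hL hL'
  obtain ⟨eM⟩ : Nonempty (M ≅ (Scheme.Modules.pullback σ.left).obj (boxMod L L')) := by
    refine (PicM.of_eq_iff hM (PicLoc.isInvertible_pullback _ hbox)).1 ?_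
    rw [← PicM.of_mul (PicLoc.isInvertible_pullback _ hL) hQ, ← PicM.pull_of _ hL, ← PicM.pull_of _ hP,
      ← PicM.pull_of _ hbox, ← PicM.of_mul (PicLoc.isInvertible_pullback _ hL) (PicLoc.isInvertible_pullback _ hL'),
      ← PicM.pull_of _ hL, ← PicM.pull_of _ hL', map_mul]
    show pb (snd A A) (PicM.of hL) * pb (A ◁ f) (PicM.of hP) =
      pb σ (pb (fst A A) (PicM.of hL)) * pb σ (pb (snd A A) (PicM.of hL'))
    have hev' : pb (A ◁ f) (PicM.of hP) = c := by
      refine Eq.trans ?_ hev
      show _ = pb (lift (fst A A) (snd A A ≫ f)) (PicM.of hP)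
      congr 1
    rw [hev', hc, pb_pb, pb_pb]
    simp only [σ, lift_fst, lift_snd]
    calc pb (snd A A) (PicM.of hL) * (pb μ[A] (PicM.of hL) * pb (fst A A) (PicM.of hL') * pb (snd A A) (PicM.of hL'))
        = pb μ[A] (PicM.of hL) * pb (fst A A) (PicM.of hL') *
            (pb (snd A A) (PicM.of hL) * pb (snd A A) (PicM.of hL')) := by ac_rfl
      _ = _ := by
        show _ * _ * (PicM.pull _ (PicM.of hL) * PicM.pull _ (PicM.of hL')) = _
        rw [← map_mul, hll, map_one, _root_.mul_one]
  -- its Euler characteristic, through the box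
  have hmul : Curv2.euler k (A ⊗ A).left M = Curv2.euler k A.left L * Curv2.euler k A.left L' := by
    rw [euler_congr k _ eM]
    refine Eq.trans ?_ (euler_boxM k A A L L' hL hL' (g + g) hAA.le
      (hg.le.trans (by exact_mod_cast Nat.le_add_right g g)))
    haveI : IsProper (A ⊗ A).hom := inferInstanceAs (IsProper (pullback.fst A.hom A.hom ≫ A.hom))
    haveI : GeometricallyIntegral (A ⊗ A).hom := AbCubeLib.geometricallyIntegral_tensor' A A
    have hbc := PicLib.isCoh_of_isInvertible hbox
    rw [show Curv2.euler k (A ⊗ A).left ((Scheme.Modules.pullback σ.left).obj (boxMod L L')) =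
      ((1 : ℕ) : ℤ) * Curv2.euler k (A ⊗ A).left (boxMod L L') from
        AbCubeLib.euler_pullback_eq_mul σ.left k (Over.w σ) ((1 : ℕ) : ℤ) (fun G _ => by
          rw [Nat.cast_one, _root_.one_mul]
          exact euler_congr k (A ⊗ A).left (asIso ((Scheme.Modules.pullbackPushforwardAdjunction σ.left).counit.app G)))
          hbc]
    rw [Nat.cast_one, _root_.one_mul]
    rfl
  -- its Euler characteristic, through the direct images
  let ηl : Spec (CommRingCat.of k) ⟶ At.left := η[At].left
  let N₀ := (Coh.push ηl).obj (Coh.structureModule (Spec (CommRingCat.of k)))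
  haveI : IsClosedImmersion η[At].left := by
    haveI : IsClosedImmersion (η[At].left ≫ At.hom) := by
      rw [show η[At].left ≫ At.hom = 𝟙 _ from Over.w η[At]]; infer_instance
    exact IsClosedImmersion.of_comp _ At.hom
  haveI : IsClosedImmersion ηl := ‹IsClosedImmersion η[At].left›
  haveI : Coh.IsQCoh (Coh.structureModule (Spec (CommRingCat.of k))) := Coherent.isQCoh_structureModule
  have hN₀ : Coh.IsCoh N₀ := isCoh_push_proper ηl (isCoh_structureModule _)
  have hN₀χ : Curv2.euler k At.left N₀ = 1 := by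
    rw [← euler_push_of_acyclic ηl k (Over.w η[At]) _ (acyclicOverBasis_of_isZero ηl _
      fun p hp => isZero_rpushAb_of_isAffineHom ηl _ p hp), euler_point k rfl]
  haveI := hN₀.1
  let T := (Scheme.Modules.pullback f.left).obj N₀
  have hT : Coh.IsCoh T := ⟨EGA43.InjFibre.isQCoh_pullback _ _, isFT_pullback_qcoh _ hN₀.1 hN₀.2⟩
  have hTχ : Curv2.euler k A.left T = (d : ℤ) := by
    have h := S7859.result k A At f d hd N₀ hN₀
    rw [hN₀χ, _root_.mul_one] at h
    exact h
  have hsupp : CohB1.support T ⊆ f.left ⁻¹' {origin At} := by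
    rw [show CohB1.support T = _ from support_pullback_qcoh (f := f.left) hN₀.1 hN₀.2]
    intro x hx
    by_contra hne
    refine (notMem_support_iff N₀ (f.left x)).2 ?_ hx
    rw [ModuleCat.isZero_iff_subsingleton]
    refine DCat.ClosedPush.subsingleton_stalk_push ηl _ _ ?_
    rintro ⟨z, hz⟩
    exact hne (hz.symm.trans (congrArg ηl (Subsingleton.elim (α := PrimeSpectrum k) z _)))
  have hfib : (f.left ⁻¹' {origin At}).Finite := f.left.finite_preimage_singleton _
  have hclp : ∀ x ∈ f.left ⁻¹' {origin At}, IsClosed ({x} : Set A.left) := by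
    intro x hx
    haveI : DiscreteTopology (f.left ⁻¹' {origin At}) := (f.left.isDiscrete_preimage_singleton (origin At)).to_subtype
    have hc : IsClosed (f.left ⁻¹' {origin At}) := (isClosed_section _).preimage f.left.continuous
    have h1 : IsClosed ({⟨x, hx⟩} : Set (f.left ⁻¹' {origin At})) := isClosed_discrete _
    simpa using hc.isClosedEmbedding_subtypeVal.isClosedMap _ h1
  obtain ⟨B, hB⟩ := exists_bound_isZero_rpush (X := A.left) q
  let N := max B (g + 1)
  have hexp := euler_eq_rhoEuler k q (Over.w (snd A A)) (N := N) (by omega) (fun M' hM' => hB M' hM' N (by omega))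
    (g + g + 1) M hMc (((Topology.IsInducing.subtypeVal.topologicalKrullDim_le).trans hAA.le).trans_lt
      (by exact_mod_cast Nat.lt_succ_self (g + g)))
  have hLf : FlatMod.IsFinLocFree L := Coherent.isFinLocFree_of_invertible hL
  haveI : IsProper (snd A At).left := isProper_snd_left
  have hR : ∀ i, Nonempty ((Coh.Rpush q i).obj M ≅
      CohB1.tensorMod L ((Scheme.Modules.pullback f.left).obj ((Coh.Rpush (snd A At).left i).obj P))) := by
    intro i
    obtain ⟨e1⟩ := nonempty_projection_formula (f := q) hLf Q i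
    obtain ⟨e2⟩ := FlatBC14.nonempty_rpush_flat_base_change (snd A At).left f.left (A ◁ f).left q
      (isPullback_whiskerLeft A f) P i
    exact ⟨e1.symm ≪≫ AmpleLib.tensorIso (Iso.refl L) e2.symm⟩
  have hneg : Curv2.euler k (A ⊗ A).left M = (-1) ^ g * (d : ℤ) := by
    rw [hexp, rhoEuler, Finset.sum_eq_single_of_mem g (Finset.mem_range.2 (by omega)) fun i _ hi => by
      obtain ⟨e⟩ := hR i
      rw [euler_congr k A.left e, euler_of_isZero k A.left (CohEdge27.isZero_tensor_of_isZero L
        (Functor.map_isZero _ (isZero_rpush_ne hφ hP hPξ hg hi))), mul_zero]]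
    obtain ⟨e⟩ := hR g
    obtain ⟨e'⟩ := nonempty_rpush_top_iso hφ hP hPξ hg
    rw [euler_congr k A.left (e ≪≫ AmpleLib.tensorIso (Iso.refl L) ((Scheme.Modules.pullback f.left).mapIso e') ≪≫
        AmpleLib.tensorComm L T),
      euler_twist_finite hT (hfib.subset hsupp) (fun x hx => hclp x (hsupp hx)) hL, hTχ]
  -- the inverse
  have heul : ∀ {K : A.left.Modules} (hK : PicF.IsInvertible K),
      S17505.eul k A (PicM.of hK) = Curv2.euler k A.left K := by
    intro K hK
    rw [S17505.eul, AbCubeLib.invOf_of, EulerLib.chiCl_mk]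
    exact euler_congr k A.left (AmpleLib.unitTensorIso K)
  have hinv := eul_inv hg (PicM.of hL) (PicM.of hL') hll
  rw [heul hL, heul hL'] at hinv
  have h2 := hmul.symm.trans hneg
  rw [hinv] at h2
  have hu : ((-1 : ℤ) ^ g) ≠ 0 := pow_ne_zero _ (by norm_num)
  refine mul_left_cancel₀ hu ?_
  rw [← h2]
  ring

end Groth.Agent.AbCohLib
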