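import Groth.Agent.CohEdge27.Edge
import Groth.Agent.Coherent.SecBridge
import Groth.Agent.Coherent.Devissage
import Groth.Agent.Coherent.RpushStalk

/-!
# Cohomology along a morphism whose direct images live inside an affine open
-/

set_option autoImplicit false
set_option linter.style.haveILetI false
set_option backward.isDefEq.respectTransparency.types false
set_option maxHeartbeats 1600000

universe u

open CategoryTheory CategoryTheory.Abelian CategoryTheory.Limits AlgebraicGeometry Opposite TopologicalSpace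
open Groth.Agent.Coherent

namespace Groth.Agent.AbCohLib

variable {X S : Scheme.{u}} (f : X ⟶ S) [QuasiCompact f] [QuasiSeparated f]
  [HasInjectiveResolutions X.Modules]
  [CompactSpace S] [QuasiSeparatedSpace S] (M : X.Modules) [Coh.IsQCoh M] {Z : Set S}
  (hZ : ∀ y, y ∉ Z → ∀ p, Subsingleton (((Coh.Rpush f p).obj M).presheaf.stalk y : Type u))

include hZ in
/-- No cohomology over compact opens missing the support. -/
theorem subsingleton_H'_of_avoid (U : S.Opens) (hU : IsCompact (U : Set S)) (hUZ : ∀ y ∈ U, y ∉ Z) (j : ℕ) :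
    Subsingleton (Sheaf.H' (Coh.toAb M) j (f ⁻¹ᵁ U)) := by
  revert j
  revert hUZ
  refine Groth.Agent.S0015.result S
    (fun U => (∀ y ∈ U, y ∉ Z) → ∀ j, Subsingleton (Sheaf.H' (Coh.toAb M) j (f ⁻¹ᵁ U))) ?_ ?_ U hU
  · intro V hV hVZ j
    obtain ⟨ψ⟩ := exists_rpush_sections_equiv f hV M j
    haveI : Subsingleton Γ((Coh.Rpush f j).obj M, V) := by
      let R := (Coh.Rpush f j).obj M
      refine ⟨fun a b => TopCat.Presheaf.section_ext (⟨R.presheaf, R.isSheaf⟩ : TopCat.Sheaf Ab S) V a b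
        fun y hy => ?_⟩
      exact (hZ y (hVZ y hy) j).elim _ _
    haveI : Subsingleton (Coh.HH (f ⁻¹ᵁ V).toScheme (M.restrict (f ⁻¹ᵁ V).ι) j) := ψ.toEquiv.subsingleton
    exact (HHonEquiv M (f ⁻¹ᵁ V) j).symm.toEquiv.subsingleton
  · intro U V _ _ hU hV hUV hZ' j
    have hU' := hU fun y hy => hZ' y (Or.inl hy)
    have hV' := hV fun y hy => hZ' y (Or.inr hy)
    cases j with
    | zero =>
      refine subsingleton_of_forall_eq 0 fun x => ?_
      exact eq_zero_of_resH_zero (U := f ⁻¹ᵁ U) (V := f ⁻¹ᵁ V)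
        (x := (x : Ext (freeSh (X := X.toTopCat) (f ⁻¹ᵁ U ⊔ f ⁻¹ᵁ V)) (Coh.toAb M) 0))
        ((hU' 0).elim _ _) ((hV' 0).elim _ _)
    | succ n =>
      exact subsingleton_H'_sup (U := f ⁻¹ᵁ U) (V := f ⁻¹ᵁ V) n (hU' _) (hV' _)
        (hUV (fun y hy => hZ' y (Or.inl hy.1)) n)

include hZ in
/-- Restriction to an open containing the support is bijective. -/
theorem bijective_resH_of_support {V : S.Opens} (hZV : Z ⊆ V) (hV : IsCompact (V : Set S))
    {W : S.Opens} (hW : IsCompact (W : Set S)) (hWZ : ∀ y ∈ W, y ∉ Z) (hVW : V ⊔ W = ⊤) (j : ℕ) :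
    Function.Bijective (resH (X := X.toTopCat) (Coh.toAb M) j (le_top : f ⁻¹ᵁ V ≤ ⊤)) := by
  have h1 := subsingleton_H'_of_avoid f M hZ W hW hWZ
  have h2 := subsingleton_H'_of_avoid f M hZ (V ⊓ W) (QuasiSeparatedSpace.inter_isCompact _ _ V.isOpen hV W.isOpen hW)
    fun y hy => hWZ y hy.2
  have e : (f ⁻¹ᵁ V) ⊔ (f ⁻¹ᵁ W) = ⊤ := by rw [← Scheme.Hom.preimage_sup, hVW, Scheme.Hom.preimage_top]
  constructor
  · intro a b hab
    rw [← sub_eq_zero]
    generalize hx : a - b = x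
    have hx0 : resH (X := X.toTopCat) (Coh.toAb M) j (le_top : f ⁻¹ᵁ V ≤ ⊤) x = 0 := by
      rw [← hx, map_sub, hab, sub_self]
    have hx1 : resH (X := X.toTopCat) (Coh.toAb M) j (le_top : f ⁻¹ᵁ W ≤ ⊤) x = 0 := (h1 j).elim _ _
    refine (MonoData.resH_eq_zero_iff e.le e.ge x).1 ?_
    cases j with
    | zero =>
      refine eq_zero_of_resH_zero (U := f ⁻¹ᵁ V) (V := f ⁻¹ᵁ W) ?_ ?_
      · rw [resH_resH]; exact hx0
      · rw [resH_resH]; exact hx1
    | succ n =>
      obtain ⟨w, hw⟩ := exists_deltaH (U := f ⁻¹ᵁ V) (V := f ⁻¹ᵁ W)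
        (x := resH (X := X.toTopCat) (Coh.toAb M) (n + 1) e.le x)
        (by rw [resH_resH]; exact hx0) (by rw [resH_resH]; exact hx1)
      haveI : Subsingleton (Sheaf.H' (Coh.toAb M) n (f ⁻¹ᵁ (V ⊓ W))) := h2 n
      rw [← hw]
      exact (congrArg (deltaH (X := X.toTopCat) (Coh.toAb M) (f ⁻¹ᵁ V) (f ⁻¹ᵁ W) n)
        (this.elim w _)).trans (map_zero _)
  · intro a
    obtain ⟨x, hx, -⟩ := exists_resH_sup (U := f ⁻¹ᵁ V) (V := f ⁻¹ᵁ W) (F := Coh.toAb M) (n := j) (a := a)
      (b := (0 : Ext (freeSh (X := X.toTopCat) (f ⁻¹ᵁ W)) (Coh.toAb M) j)) ((h2 j).elim _ _)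
    refine ⟨resH (X := X.toTopCat) (Coh.toAb M) j e.ge x, ?_⟩
    rw [resH_resH]
    exact hx

/-- Restriction to the open, additively. -/
noncomputable def restrictAdd (M : X.Modules) (U : X.Opens) (q : ℕ) :
    Sheaf.H' (Coh.toAb M) q U ≃+ Sheaf.H' (Coh.toAb (M.restrict U.ι)) q (⊤ : U.toScheme.Opens) :=
  (H'Congr (Coh.toAb M) q U.ι_image_top.symm).trans (H'ModRestrictEquiv U.ι M ⊤ q).symm

theorem smul_restrict_top (M : X.Modules) (U : X.Opens) (r : Γ(X, ⊤)) (W : U.toScheme.Opens) (m : Γ(M.restrict U.ι, W)) :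
    (U.toScheme.presheaf.map (homOfLE (le_top (a := W))).op (U.ι.appTop r)) • m =
      ((X.presheaf.map (homOfLE (le_top (a := U.ι ''ᵁ W))).op r) • (show Γ(M, U.ι ''ᵁ W) from m) : Γ(M, U.ι ''ᵁ W)) := by
  have h := Scheme.Modules.smul_restrictAppIso_hom_apply U.ι M W
    (U.toScheme.presheaf.map (homOfLE (le_top (a := W))).op (U.ι.appTop r)) m
  refine h.trans ?_
  congr 1
  have : U.ι.appTop ≫ U.toScheme.presheaf.map (homOfLE (le_top (a := W))).op ≫ (U.ι.appIso W).inv = X.presheaf.map (homOfLE (le_top (a := U.ι ''ᵁ W))).op := by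
    rw [← Category.assoc, Iso.comp_inv_eq, Scheme.Hom.appIso_hom', Scheme.Hom.map_appLE]
    rfl
  exact ConcreteCategory.congr_hom this r

theorem smulEndAb_restrict (M : X.Modules) (U : X.Opens) (r : Γ(X, ⊤)) :
    (restrictSh (X := X.toTopCat) U.ι.isOpenEmbedding).map (smulEndAb M r) =
      smulEndAb (M.restrict U.ι) (U.ι.appTop r) := by
  refine ObjectProperty.hom_ext _ (NatTrans.ext (funext fun W => ConcreteCategory.hom_ext _ _ fun m => ?_))
  obtain ⟨W⟩ := W
  exact (smul_restrict_top M U r W m).symm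



theorem restrictAdd_smul (M : X.Modules) (U : X.Opens) (q : ℕ) (r : Γ(X, ⊤)) (x : Sheaf.H' (Coh.toAb M) q U) :
    restrictAdd M U q (postH (X := X.toTopCat) (smulEndAb M r) q U x) =
      postH (X := U.toScheme.toTopCat) (smulEndAb (M.restrict U.ι) (U.ι.appTop r)) q (⊤ : U.toScheme.Opens)
        (restrictAdd M U q x) := by
  rw [← smulEndAb_restrict]
  have h1 := H'Congr_naturality (smulEndAb M r) q U.ι_image_top.symm x
  have h2 := H'RestrictEquiv_naturality (X := X.toTopCat) (U := U.toScheme.toTopCat) U.ι.isOpenEmbedding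
    (smulEndAb M r) ⊤ q (H'Congr (Coh.toAb M) q U.ι_image_top.symm x)
  exact (congrArg (H'RestrictEquiv (X := X.toTopCat) (U := U.toScheme.toTopCat) U.ι.isOpenEmbedding
    (Coh.toAb M) ⊤ q) h1).trans h2

/-- Cohomology of an open, linearly over a base ring. -/
noncomputable def restrictA {A : Type u} [CommRing A] (φ : A →+* Γ(X, ⊤)) (M : X.Modules) (U : X.Opens) (q : ℕ) :
    HA φ M U q ≃ₗ[A] HA ((U.ι.appTop).hom.comp φ) (M.restrict U.ι) (⊤ : U.toScheme.Opens) q :=
  { (restrictAdd M U q :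
      HA φ M U q ≃+ HA ((U.ι.appTop).hom.comp φ) (M.restrict U.ι) (⊤ : U.toScheme.Opens) q) with
    map_smul' := fun a x => restrictAdd_smul M U q (φ a) x }

/-- Cohomology of a scheme over a field restricted to an open with the support, linearly. -/
theorem finrank_HH_restrict (k : Type u) [Field k] [X.Over (Spec (CommRingCat.of k))] (U : X.Opens) (j : ℕ)
    (hb : Function.Bijective (resH (X := X.toTopCat) (Coh.toAb M) j (le_top : U ≤ ⊤))) :
    letI : U.toScheme.Over (Spec (CommRingCat.of k)) := ⟨U.ι ≫ (X ↘ Spec (CommRingCat.of k))⟩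
    Module.finrank k (Coh.HH X M j) = Module.finrank k (Coh.HH U.toScheme (M.restrict U.ι) j) := by
  letI : U.toScheme.Over (Spec (CommRingCat.of k)) := ⟨U.ι ≫ (X ↘ Spec (CommRingCat.of k))⟩
  let r : HA (baseHom k X) M (⊤ : X.Opens) j ≃ₗ[k] HA (baseHom k X) M U j :=
    LinearEquiv.ofBijective (resA (baseHom k X) M (le_top : U ≤ ⊤) j) hb
  have e : ((U.ι.appTop).hom.comp (baseHom k X)) = baseHom k U.toScheme := by
    refine RingHom.ext fun a => ?_
    show U.ι.appTop.hom ((X ↘ Spec (CommRingCat.of k)).appTop.hom _) =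
      ((U.ι ≫ (X ↘ Spec (CommRingCat.of k))).appTop.hom _)
    rw [Scheme.Hom.comp_appTop]; rfl
  refine ((HHA (A := k) M j).trans (r.trans (restrictA (baseHom k X) M U j))).finrank_eq.trans ?_
  rw [e]
  exact (HHA (A := k) (X := U.toScheme) (M.restrict U.ι) j).finrank_eq.symm

end Groth.Agent.AbCohLib
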