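import Groth.Agent.Coherent.ClosedEquiv
import Groth.Agent.CycLib28.GysinSheaf
import Groth.Agent.Props12.FinLocFree
import Groth.Agent.AlgSpLib.OnePointFlat
import Groth.Agent.PicLib.Invertible
import Mathlib.RingTheory.Length

/-!
# A module with one stalk of length one is the direct image of the structure sheaf of a point
-/

set_option autoImplicit false
set_option linter.style.haveILetI false
set_option backward.isDefEq.respectTransparency.types false
set_option maxHeartbeats 1600000

universe u

open CategoryTheory CategoryTheory.Limits AlgebraicGeometry Opposite TopologicalSpace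
open Groth.Agent.Coherent

namespace Groth.Agent.AbCohLib

/-- Non-units kill a module of length one. -/
theorem smul_eq_zero_of_length_one {A : Type*} [CommRing A] [IsLocalRing A] {M : Type*} [AddCommGroup M]
    [Module A M] (h : Module.length A M = 1) {a : A} (ha : ¬IsUnit a) (x : M) : a • x = 0 := by
  haveI : IsSimpleModule A M := Module.length_eq_one_iff.1 h
  by_contra hx
  obtain ⟨s, hs⟩ := (IsSimpleModule.toSpanSingleton_surjective A hx) x
  rw [LinearMap.toSpanSingleton_apply, smul_smul] at hs
  have h1 : (1 - s * a) • x = 0 := by rw [sub_smul, one_smul, hs, sub_self]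
  have hu : IsUnit (1 - s * a) := IsLocalRing.isUnit_one_sub_self_of_mem_nonunits _
    fun h => ha (isUnit_of_mul_isUnit_right h)
  rw [hu.smul_eq_zero] at h1
  exact hx (by rw [h1, smul_zero])

variable {k : Type u} [Field k] {S : Scheme.{u}} (i : Spec (CommRingCat.of k) ⟶ S) [IsClosedImmersion i]
  {R : S.Modules}
  (h0 : ∀ y, y ≠ i (IsLocalRing.closedPoint k) → Subsingleton (R.presheaf.stalk y))
  (h1 : Module.length (S.presheaf.stalk (i (IsLocalRing.closedPoint k)))
    (R.presheaf.stalk (i (IsLocalRing.closedPoint k))) = 1)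

include h0 h1 in
theorem killed_of_length_one : ClSub.KilledByIdeal i.ker R := by
  intro U a ha m
  change (a • (show Γ(R, U.1) from m)) = 0
  refine TopCat.Presheaf.section_ext (⟨R.presheaf, R.isSheaf⟩ : TopCat.Sheaf Ab S) U.1 _ _ fun y hy => ?_
  by_cases h : y = i (IsLocalRing.closedPoint k)
  · subst h
    refine (QCohLoc.germ_smul' R hy a _).trans (Eq.trans ?_ (map_zero _).symm)
    refine smul_eq_zero_of_length_one h1 (fun hu => ?_) _
    have h := hu.map (i.stalkMap (IsLocalRing.closedPoint k)).hom
    rw [Scheme.Hom.germ_stalkMap_apply] at h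
    rw [Scheme.Hom.ker_apply, RingHom.mem_ker] at ha
    rw [ha, map_zero] at h
    exact not_isUnit_zero h
  · exact (h0 y h).elim _ _

include h0 h1 in
/-- **The skyscraper of a rational point.** -/
theorem nonempty_iso_push_of_length_one [Coh.IsQCoh R] :
    Nonempty (R ≅ (Coh.push i).obj (Coh.structureModule (Spec (CommRingCat.of k)))) := by
  let pt : Spec (CommRingCat.of k) := IsLocalRing.closedPoint k
  have hk := killed_of_length_one i h0 h1
  let N := (Scheme.Modules.pullback i).obj R
  haveI : Coh.IsQCoh N := EGA43.InjFibre.isQCoh_pullback i R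
  have hN : Module.length ((Spec (CommRingCat.of k)).presheaf.stalk pt) (N.presheaf.stalk pt) = 1 := by
    rw [CycLib28.length_stalk_pullback_closed i R pt]
    have hbot : (RingHom.ker (i.stalkMap pt).hom • ⊤ :
        Submodule (S.presheaf.stalk (i pt)) (R.presheaf.stalk (i pt))) = ⊥ := by
      refine eq_bot_iff.2 (Submodule.smul_le.2 fun r hr x _ => ?_)
      rw [Submodule.mem_bot]
      exact smul_stalk_eq_zero_of_killed i hk pt r hr x
    rw [(Submodule.quotEquivOfEqBot _ hbot).length_eq, h1]
  haveI : IsSimpleModule ((Spec (CommRingCat.of k)).presheaf.stalk pt) (N.presheaf.stalk pt) :=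
    Module.length_eq_one_iff.1 hN
  letI := (AlgSpLib.isField_stalk_of_maximal pt fun y _ => Subsingleton.elim y pt).toField
  haveI := IsSimpleModule.nontrivial ((Spec (CommRingCat.of k)).presheaf.stalk pt) (N.presheaf.stalk pt)
  have hinj : Function.Injective (N.presheaf.germ ⊤ pt trivial) := fun a b hab =>
    TopCat.Presheaf.section_ext (⟨N.presheaf, N.isSheaf⟩ : TopCat.Sheaf Ab _) ⊤ a b fun y hy => by
      obtain rfl : y = pt := Subsingleton.elim _ _
      exact hab
  have hsur : ∀ z : N.presheaf.stalk pt, ∃ t : Γ(N, ⊤), N.presheaf.germ ⊤ pt trivial t = z := by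
    intro z
    obtain ⟨W, hW, t, rfl⟩ := N.presheaf.exists_germ_eq z
    obtain rfl : W = ⊤ := top_le_iff.1 fun y _ => (Subsingleton.elim pt y) ▸ hW
    exact ⟨t, rfl⟩
  have hsurO : ∀ z : (Spec (CommRingCat.of k)).presheaf.stalk pt,
      ∃ r : Γ(Spec (CommRingCat.of k), ⊤), (Spec (CommRingCat.of k)).presheaf.germ ⊤ pt trivial r = z := by
    intro z
    obtain ⟨W, hW, t, rfl⟩ := (Spec (CommRingCat.of k)).presheaf.exists_germ_eq z
    obtain rfl : W = ⊤ := top_le_iff.1 fun y _ => (Subsingleton.elim pt y) ▸ hW
    exact ⟨t, rfl⟩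
  obtain ⟨z, hz⟩ := exists_ne (0 : N.presheaf.stalk pt)
  obtain ⟨s, hs⟩ := hsur z
  have hbij : Function.Bijective ((unitDesc N s).app ⊤) := by
    have hval : ∀ r : Γ(Spec (CommRingCat.of k), ⊤), N.presheaf.germ ⊤ pt trivial ((unitDesc N s).app ⊤ r) =
        ((Spec (CommRingCat.of k)).presheaf.germ ⊤ pt trivial r) • z := by
      intro r
      rw [app_unit (unitDesc N s) r, unitVal_unitDesc, PicLib.resM_self, ← hs]
      exact QCohLoc.germ_smul' N (show pt ∈ (⊤ : (Spec (CommRingCat.of k)).Opens) from trivial) r s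
    constructor
    · intro a b hab
      have h := congrArg (N.presheaf.germ ⊤ pt trivial) hab
      rw [hval, hval, ← sub_eq_zero, ← sub_smul] at h
      have h' := (smul_eq_zero.1 h).resolve_right hz
      refine TopCat.Presheaf.section_ext (Spec (CommRingCat.of k)).sheaf ⊤ a b fun y hy => ?_
      obtain rfl : y = pt := Subsingleton.elim _ _
      exact sub_eq_zero.1 h'
    · intro t
      obtain ⟨c, hc⟩ := IsSimpleModule.toSpanSingleton_surjective
        ((Spec (CommRingCat.of k)).presheaf.stalk pt) hz (N.presheaf.germ ⊤ pt trivial t)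
      obtain ⟨r, rfl⟩ := hsurO c
      exact ⟨r, hinj ((hval r).trans hc)⟩
  haveI : Coh.IsQCoh (Coh.structureModule (Spec (CommRingCat.of k))) := Coherent.isQCoh_structureModule
  haveI : IsIso (unitDesc N s) := Props12.isIso_of_bijective_top _ hbij
  exact ⟨clIso i hk ≪≫ (Coh.push i).mapIso (asIso (unitDesc N s)).symm⟩

end Groth.Agent.AbCohLib
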