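import Groth.Agent.AbCohLib.PoincareDual
import Groth.Agent.AbCohLib.Leray
import Groth.Agent.AbCohLib.Skyscraper
import Groth.Agent.CohEdge27.FibreCrit
import Groth.Agent.ModStalk.Exact

/-!
# The direct images and the cohomology of a Poincaré module
-/

set_option autoImplicit false
set_option linter.style.haveILetI false
set_option backward.isDefEq.respectTransparency.types false
set_option maxHeartbeats 3200000

universe u

open CategoryTheory CategoryTheory.Limits MonoidalCategory CartesianMonoidalCategory MonObj GrpObj AlgebraicGeometry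
  Opposite TopologicalSpace
open Groth.Agent Groth.Agent.PicLib Groth.Agent.AbCubeLib Groth.Agent.AbDualLib Groth.Agent.Coherent
  Groth.Agent.Coherent.CohBC

namespace Groth.Agent.AbCohLib

variable {k : Type u} [Field k] {A At : Over (Spec (CommRingCat.of k))}
  [GrpObj A] [IsProper A.hom] [Smooth A.hom] [GeometricallyConnected A.hom]
  [GrpObj At] [IsProper At.hom] [Smooth At.hom] [GeometricallyConnected At.hom]
  {φ : ∀ T : Over (Spec (CommRingCat.of k)), PicF.Cl (PicF.XT A.hom T) → (T ⟶ At)}
  (hφ : AbDual.IsDualAV Scheme.fppfPrecoverage A At φ) {P : (A ⊗ At).left.Modules}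
  (hP : PicF.IsInvertible P) (hPξ : AbDual.IsPoincareCl A At φ (PicF.cl P))
  [HasInjectiveResolutions (A ⊗ At).left.Modules]

instance isProper_snd_left : IsProper (snd A At).left := inferInstanceAs (IsProper (pullback.snd A.hom At.hom))

instance isLocallyNoetherian_tensor : IsLocallyNoetherian (A ⊗ At).left := by
  haveI : LocallyOfFiniteType (A ⊗ At).hom := inferInstanceAs (LocallyOfFiniteType (pullback.fst A.hom At.hom ≫ A.hom))
  exact LocallyOfFiniteType.isLocallyNoetherian (A ⊗ At).hom

/-- The swap is a cartesian square over the identity. -/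
theorem isPullback_swap :
    IsPullback (lift (snd At A) (fst At A)).left (fst At A).left (snd A At).left (𝟙 At.left) := by
  haveI : IsIso (lift (snd At A) (fst At A)) := ⟨lift (snd A At) (fst A At), by ext <;> simp, by ext <;> simp⟩
  haveI : IsIso (lift (snd At A) (fst At A)).left :=
    inferInstanceAs (IsIso ((Over.forget _).map (lift (snd At A) (fst At A))))
  exact IsPullback.of_horiz_isIso ⟨by rw [Category.comp_id, ← Over.comp_left, lift_snd]⟩

/-- The origin of the dual. -/
noncomputable abbrev origin (At : Over (Spec (CommRingCat.of k))) [GrpObj At] : At.left :=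
  (η[At] : 𝟙_ (Over (Spec (CommRingCat.of k))) ⟶ At).left (IsLocalRing.closedPoint k)

include hφ hP hPξ in
/-- The direct images vanish off the origin. -/
theorem subsingleton_stalk_off (y : At.left) (hy : y ≠ origin At) (p : ℕ) :
    Subsingleton (((Coh.Rpush (snd A At).left p).obj P).presheaf.stalk y : Type u) := by
  haveI : Coh.IsQCoh P := AmpleLib.isQCoh_of_isInvertible hP
  haveI : IsLocallyNoetherian At.left := LocallyOfFiniteType.isLocallyNoetherian At.hom
  let U : At.left.Opens := ⟨{origin At}ᶜ, (isClosed_section _).isOpen_compl⟩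
  haveI : Flat A.hom := CubeLib.flat_of_field _
  haveI : Flat (snd A At).left := inferInstanceAs (Flat (pullback.snd A.hom At.hom))
  have hfl : FlatMod.IsFlatOver (snd A At).left P := SeeSaw5.isFlatOver_of_invertible (f := (snd A At).left) hP
  have hU := CohBC.isZero_rpush_restrict (snd A At).left P (PicLib.isCoh_of_isInvertible hP) hfl p U
    fun z hz => by
      have h := fiberRank_pullback (isPullback_swap (A := A) (At := At)) P p z
      exact h.symm.trans (swap_fiberRank hφ hP hPξ z hz p)
  refine subsingleton_of_forall_eq 0 fun a => ?_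
  obtain ⟨W, hW, m, rfl⟩ := ((Coh.Rpush (snd A At).left p).obj P).presheaf.exists_germ_eq a
  have hs := CohEdge27.subsingleton_of_isZero hU (U.ι ⁻¹ᵁ W)
  have hs' : Subsingleton Γ((Coh.Rpush (snd A At).left p).obj P, U.ι ''ᵁ U.ι ⁻¹ᵁ W) := hs
  have hle : U.ι ''ᵁ U.ι ⁻¹ᵁ W ≤ W := by
    rintro _ ⟨z, hz, rfl⟩; exact hz
  rw [← TopCat.Presheaf.germ_res_apply _ (homOfLE hle) y ⟨⟨y, hy⟩, hW, rfl⟩,
    hs'.elim (ConcreteCategory.hom (((Coh.Rpush (snd A At).left p).obj P).presheaf.map (homOfLE hle).op) m) 0,
    map_zero]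

include hφ hP hPξ in
/-- The direct images at the origin. -/
theorem length_stalk_origin {g : ℕ} (hg : topologicalKrullDim A.left = g) (p : ℕ) :
    Module.length (At.left.presheaf.stalk (origin At))
      (((Coh.Rpush (snd A At).left p).obj P).presheaf.stalk (origin At)) = if p = g then 1 else 0 := by
  haveI : Coh.IsQCoh P := AmpleLib.isQCoh_of_isInvertible hP
  haveI : GeometricallyIntegral A.hom := AbVarLib.geometricallyIntegral_of_smooth A.hom
  haveI : GeometricallyIntegral At.hom := AbVarLib.geometricallyIntegral_of_smooth At.hom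
  have hsq := (isPullback_whiskerRight (toAh At) A).paste_horiz (isPullback_swap (A := A) (At := At))
  rw [Category.comp_id] at hsq
  letI : (nhdOne At ⊗ A).left.Over (Spec (CommRingCat.of (At.left.presheaf.stalk (origin At)))) :=
    ⟨(fst (nhdOne At) A).left⟩
  obtain ⟨E⟩ := nonempty_stalk_rpush_equiv (snd A At).left P p (origin At) (nhdOne At ⊗ A).left _ hsq
  rw [E.length_eq, (HHCongr (At.left.presheaf.stalk (origin At))
    ((Scheme.Modules.pullbackComp (toAh At ▷ A).left (lift (snd At A) (fst At A)).left).symm.app P) p).length_eq]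
  exact (poincare_dual_local hφ hP hPξ hg).2 p

theorem exists_affine_origin (At : Over (Spec (CommRingCat.of k))) [GrpObj At] :
    ∃ V : At.left.Opens, IsAffineOpen V ∧ origin At ∈ V := by
  obtain ⟨V, hV, he, -⟩ := Opens.isBasis_iff_nbhd.mp At.left.isBasis_affineOpens (Opens.mem_top (origin At))
  exact ⟨V, hV, he⟩

include hφ hP hPξ in
/-- Away from the top degree all stalks vanish. -/
theorem subsingleton_stalk_ne {g : ℕ} (hg : topologicalKrullDim A.left = g) {i : ℕ} (hi : i ≠ g) (y : At.left) :
    Subsingleton (((Coh.Rpush (snd A At).left i).obj P).presheaf.stalk y : Type u) := by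
  by_cases hy : y = origin At
  · subst hy
    have h := length_stalk_origin hφ hP hPξ hg i
    rw [if_neg hi, Module.length_eq_zero_iff] at h
    exact h
  · exact subsingleton_stalk_off hφ hP hPξ y hy i

include hφ hP hPξ in
theorem subsingleton_sections_ne {g : ℕ} (hg : topologicalKrullDim A.left = g) {i : ℕ} (hi : i ≠ g)
    (W : At.left.Opens) : Subsingleton Γ((Coh.Rpush (snd A At).left i).obj P, W) :=
  ⟨fun a b => TopCat.Presheaf.section_ext
    (⟨((Coh.Rpush (snd A At).left i).obj P).presheaf, ((Coh.Rpush (snd A At).left i).obj P).isSheaf⟩ :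
      TopCat.Sheaf Ab At.left) W a b fun y _ => (subsingleton_stalk_ne hφ hP hPξ hg hi y).elim _ _⟩

include hφ hP hPξ in
/-- The direct images vanish away from the top degree. -/
theorem isZero_rpush_ne {g : ℕ} (hg : topologicalKrullDim A.left = g) {i : ℕ} (hi : i ≠ g) :
    IsZero ((Coh.Rpush (snd A At).left i).obj P) := by
  rw [IsZero.iff_id_eq_zero]
  refine Scheme.Modules.hom_ext _ _ fun W => ?_
  ext m
  exact (subsingleton_sections_ne hφ hP hPξ hg hi W).elim _ _

include hφ hP hPξ in
/-- Cohomology lives over an affine neighbourhood of the origin. -/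
theorem bijective_res {V : At.left.Opens} (hV : IsAffineOpen V) (he : origin At ∈ V) (i : ℕ) :
    Function.Bijective (resH (X := (A ⊗ At).left.toTopCat) (Coh.toAb P) i
      (le_top : (snd A At).left ⁻¹ᵁ V ≤ ⊤)) := by
  haveI : Coh.IsQCoh P := AmpleLib.isQCoh_of_isInvertible hP
  haveI : CompactSpace At.left := QuasiCompact.compactSpace_of_compactSpace At.hom
  haveI : IsLocallyNoetherian At.left := LocallyOfFiniteType.isLocallyNoetherian At.hom
  haveI : IsNoetherian At.left := {}
  haveI : QuasiSeparatedSpace At.left := quasiSeparatedSpace_of_quasiSeparated At.hom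
  let W : At.left.Opens := ⟨{origin At}ᶜ, (isClosed_section _).isOpen_compl⟩
  refine bijective_resH_of_support (snd A At).left P (Z := {origin At})
    (fun y hy p => subsingleton_stalk_off hφ hP hPξ y hy p) (Set.singleton_subset_iff.2 he) hV.isCompact
    (W := W) (TopologicalSpace.NoetherianSpace.isCompact _) (fun y hy => hy) ?_ i
  refine top_le_iff.1 fun y _ => ?_
  by_cases hy : y = origin At
  · exact Or.inl (hy ▸ he)
  · exact Or.inr hy

include hφ hP hPξ in
/-- **Cohomology vanishes away from the top degree.** -/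
theorem subsingleton_HH_ne {g : ℕ} (hg : topologicalKrullDim A.left = g) {i : ℕ} (hi : i ≠ g) :
    Subsingleton (Coh.HH (A ⊗ At).left P i) := by
  haveI : Coh.IsQCoh P := AmpleLib.isQCoh_of_isInvertible hP
  obtain ⟨V, hV, he⟩ := exists_affine_origin At
  obtain ⟨ψ⟩ := exists_rpush_sections_equiv (snd A At).left hV P i
  haveI := subsingleton_sections_ne hφ hP hPξ hg hi V
  haveI : Subsingleton (Coh.HH ((snd A At).left ⁻¹ᵁ V).toScheme (P.restrict ((snd A At).left ⁻¹ᵁ V).ι) i) :=
    ψ.toEquiv.subsingleton
  haveI : Subsingleton (Sheaf.H' (Coh.toAb P) i ((snd A At).left ⁻¹ᵁ V)) :=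
    (HHonEquiv P _ i).symm.toEquiv.subsingleton
  haveI : Subsingleton (Sheaf.H' (Coh.toAb P) i (⊤ : (A ⊗ At).left.Opens)) :=
    @Function.Injective.subsingleton _ _ _ (bijective_res hφ hP hPξ hV he i).injective
      (HHonEquiv P ((snd A At).left ⁻¹ᵁ V) i).symm.toEquiv.subsingleton
  exact (HHTopEquiv P i).toEquiv.subsingleton

include hφ hP hPξ in
/-- **The top direct image is the skyscraper at the origin.** -/
theorem nonempty_rpush_top_iso {g : ℕ} (hg : topologicalKrullDim A.left = g) :
    Nonempty ((Coh.Rpush (snd A At).left g).obj P ≅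
      (Coh.push η[At].left).obj (Coh.structureModule (Spec (CommRingCat.of k)))) := by
  haveI : Coh.IsQCoh P := AmpleLib.isQCoh_of_isInvertible hP
  haveI : IsClosedImmersion η[At].left := by
    haveI : IsClosedImmersion (η[At].left ≫ At.hom) := by
      rw [show η[At].left ≫ At.hom = 𝟙 _ from Over.w η[At]]; infer_instance
    exact IsClosedImmersion.of_comp _ At.hom
  haveI := isQCoh_rpush (snd A At).left P g
  refine nonempty_iso_push_of_length_one (k := k) η[At].left (fun y hy => subsingleton_stalk_off hφ hP hPξ y hy g) ?_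
  have h := length_stalk_origin hφ hP hPξ hg g
  rwa [if_pos rfl] at h

include hφ hP hPξ in
/-- **The top cohomology is a line.** -/
theorem finrank_HH_top {g : ℕ} (hg : topologicalKrullDim A.left = g) :
    letI : (A ⊗ At).left.Over (Spec (CommRingCat.of k)) := ⟨(A ⊗ At).hom⟩
    Module.finrank k (Coh.HH (A ⊗ At).left P g) = 1 := by
  letI : (A ⊗ At).left.Over (Spec (CommRingCat.of k)) := ⟨(A ⊗ At).hom⟩
  haveI : Coh.IsQCoh P := AmpleLib.isQCoh_of_isInvertible hP
  obtain ⟨V, hV, he⟩ := exists_affine_origin At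
  let q := (snd A At).left
  let U := q ⁻¹ᵁ V
  rw [finrank_HH_restrict P k U g (bijective_res hφ hP hPξ hV he g)]
  letI : U.toScheme.Over (Spec (CommRingCat.of k)) := ⟨U.ι ≫ ((A ⊗ At).left ↘ Spec (CommRingCat.of k))⟩
  letI : U.toScheme.Over (Spec (CommRingCat.of Γ(At.left, V))) := ⟨toSpecSections q hV⟩
  obtain ⟨ψ⟩ := exists_rpush_sections_equiv q hV P g
  let R := (Coh.Rpush q g).obj P
  let L : Coh.HH U.toScheme (P.restrict U.ι) g → R.presheaf.stalk (origin At) := fun z =>
    R.presheaf.germ V (origin At) he (ψ z)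
  have hL : Function.Injective L := by
    refine Function.Injective.comp (fun a b hab => ?_) ψ.injective
    refine TopCat.Presheaf.section_ext (⟨R.presheaf, R.isSheaf⟩ : TopCat.Sheaf Ab At.left) V a b fun y hy => ?_
    by_cases h : y = origin At
    · subst h; exact hab
    · exact (subsingleton_stalk_off hφ hP hPξ y h g).elim _ _
  let a : k → Γ(At.left, V) := fun c => At.left.presheaf.map (homOfLE (le_top (a := V))).op
    (Coh.toGlobal At.hom c)
  have hact : ∀ (c : k) (z : Coh.HH U.toScheme (P.restrict U.ι) g), c • z = a c • z := by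
    intro c z
    have h : Coh.toGlobal (U.ι ≫ ((A ⊗ At).left ↘ Spec (CommRingCat.of k))) c =
        Coh.toGlobal (toSpecSections q hV) (a c) := by
      have hw : (A ⊗ At).hom = q ≫ At.hom := (Over.w (snd A At)).symm
      have h1 : U.ι ≫ (A ⊗ At).hom = (q ∣_ V) ≫ V.ι ≫ At.hom := by
        rw [hw, ← Category.assoc, ← morphismRestrict_ι, Category.assoc]
      show Coh.toGlobal (U.ι ≫ (A ⊗ At).hom) c = _
      rw [h1]
      show ((q ∣_ V) ≫ V.ι ≫ At.hom).appTop ((Scheme.ΓSpecIso (CommRingCat.of k)).inv c) =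
        (toSpecSections q hV).appTop ((Scheme.ΓSpecIso Γ(At.left, V)).inv (a c))
      rw [Scheme.Hom.comp_appTop, Scheme.Hom.comp_appTop, Scheme.Hom.comp_appTop, ConcreteCategory.comp_apply,
        ConcreteCategory.comp_apply, ConcreteCategory.comp_apply, IsAffineOpen.isoSpec_hom_appTop,
        ConcreteCategory.comp_apply, Iso.inv_hom_id_apply]
      refine congrArg (q ∣_ V).appTop ?_
      rw [Scheme.Opens.ι_appTop]
      show _ = V.topIso.inv (At.left.presheaf.map (homOfLE (le_top (a := V))).op (Coh.toGlobal At.hom c))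
      rw [Scheme.Opens.topIso, Functor.mapIso_inv]
      refine Eq.trans ?_ (ConcreteCategory.congr_hom (At.left.presheaf.map_comp (homOfLE (le_top (a := V))).op
        (eqToIso V.ι_image_top.symm).op.inv) (Coh.toGlobal At.hom c))
      rfl
    show Coh.toGlobal (U.ι ≫ ((A ⊗ At).left ↘ Spec (CommRingCat.of k))) c • z =
      Coh.toGlobal (toSpecSections q hV) (a c) • z
    rw [h]
  have hLs : ∀ r z, L (r • z) = At.left.presheaf.germ V (origin At) he r • L z := fun r z => by
    show R.presheaf.germ V (origin At) he (ψ (r • z)) = _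
    rw [ψ.map_smul]
    exact QCohLoc.germ_smul' R he r _
  have h1 : Module.length (At.left.presheaf.stalk (origin At)) (R.presheaf.stalk (origin At)) = 1 := by
    have h := length_stalk_origin hφ hP hPξ hg g
    rwa [if_pos rfl] at h
  haveI : IsSimpleModule (At.left.presheaf.stalk (origin At)) (R.presheaf.stalk (origin At)) :=
    Module.length_eq_one_iff.1 h1
  haveI := IsSimpleModule.nontrivial (At.left.presheaf.stalk (origin At)) (R.presheaf.stalk (origin At))
  obtain ⟨sk⟩ := nonempty_rpush_top_iso hφ hP hPξ hg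
  obtain ⟨m, hm⟩ : ∃ m : Γ(R, V), m ≠ 0 := by
    refine ⟨sk.inv.app V (1 : Γ(Spec (CommRingCat.of k), η[At].left ⁻¹ᵁ V)), fun h => ?_⟩
    have h1 := congrArg (sk.hom.app V) h
    rw [map_zero] at h1
    have h2 : (1 : Γ(Spec (CommRingCat.of k), η[At].left ⁻¹ᵁ V)) = 0 :=
      (congrArg (fun f : (Coh.push η[At].left).obj (Coh.structureModule (Spec (CommRingCat.of k))) ⟶
          (Coh.push η[At].left).obj (Coh.structureModule (Spec (CommRingCat.of k))) => f.app V
        (1 : Γ(Spec (CommRingCat.of k), η[At].left ⁻¹ᵁ V))) sk.inv_hom_id).symm.trans h1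
    haveI : Nonempty (η[At].left ⁻¹ᵁ V) := ⟨⟨IsLocalRing.closedPoint k, he⟩⟩
    exact one_ne_zero h2
  let z0 := ψ.symm m
  have hx0 : L z0 ≠ 0 := fun h => hm (by
    have : z0 = 0 := hL (h.trans (show (0 : R.presheaf.stalk (origin At)) = L 0 by
      show _ = R.presheaf.germ V (origin At) he (ψ 0)
      rw [map_zero]; exact (map_zero _).symm))
    simpa [z0] using this)
  refine finrank_eq_one z0 (fun h => hx0 ?_) fun w => ?_
  · show R.presheaf.germ V (origin At) he (ψ z0) = 0
    rw [h, map_zero]; exact map_zero _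
  obtain ⟨s, hs⟩ := IsSimpleModule.toSpanSingleton_surjective (At.left.presheaf.stalk (origin At)) hx0 (L w)
  rw [LinearMap.toSpanSingleton_apply] at hs
  let pt : Spec (CommRingCat.of k) := IsLocalRing.closedPoint k
  let eta : Spec (CommRingCat.of k) ⟶ At.left := η[At].left
  obtain ⟨W, hW, r, hr⟩ := (Spec (CommRingCat.of k)).presheaf.exists_germ_eq (eta.stalkMap pt s)
  obtain rfl : W = ⊤ := top_le_iff.1 fun y _ => (Subsingleton.elim pt y) ▸ hW
  let c : k := (Scheme.ΓSpecIso (CommRingCat.of k)).hom r
  refine ⟨c, hL ?_⟩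
  rw [hact, hLs, ← hs, ← sub_eq_zero, ← sub_smul]
  refine smul_eq_zero_of_length_one h1 (fun hu => ?_) _
  refine not_isUnit_zero (M₀ := (Spec (CommRingCat.of k)).presheaf.stalk pt) ?_
  have h := hu.map (eta.stalkMap pt).hom
  suffices h0 : eta.stalkMap pt (At.left.presheaf.germ V (origin At) he (a c) - s) = 0 from h0 ▸ h
  erw [map_sub, sub_eq_zero, ← hr]
  have hid : eta ≫ At.hom = 𝟙 _ := Over.w η[At]
  show eta.stalkMap pt (At.left.presheaf.germ V (eta pt) he (At.left.presheaf.map _ (Coh.toGlobal At.hom c))) = _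
  rw [TopCat.Presheaf.germ_res_apply, Scheme.Hom.germ_stalkMap_apply]
  congr 1
  show eta.appTop (At.hom.appTop ((Scheme.ΓSpecIso (CommRingCat.of k)).inv c)) = r
  rw [← ConcreteCategory.comp_apply, ← Scheme.Hom.comp_appTop, hid, Scheme.Hom.id_appTop]
  exact Iso.hom_inv_id_apply (Scheme.ΓSpecIso (CommRingCat.of k)) r

end Groth.Agent.AbCohLib
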