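import Groth.Agent.AbCohLib.EulerDegenerate
import Groth.Agent.AbCohLib.Degree
import Groth.Agent.AbDualLib.DegreeDual
import Groth.Agent.AbVarLib.HomDim
import Groth.Agent.S14127

/-!
# The Euler characteristic of a rigidified family on a product
-/

set_option autoImplicit false
set_option linter.style.haveILetI false
set_option linter.unusedSectionVars false
set_option backward.isDefEq.respectTransparency.types false
set_option maxHeartbeats 1600000

universe u

open CategoryTheory CategoryTheory.Limits MonoidalCategory CartesianMonoidalCategory MonObj GrpObj AlgebraicGeometry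
  Opposite TopologicalSpace
open Groth.Agent Groth.Agent.Coherent Groth.Agent.PicLib Groth.Agent.AbCubeLib Groth.Agent.AmpleLib
  Groth.Agent.EulerLib Groth.Agent.AbDualLib Groth.Agent.S17505 Groth.Agent.DimLib

namespace Groth.Agent.AbCohLib

variable {k : Type u} [Field k] {A B Bt : Over (Spec (CommRingCat.of k))}
  [GrpObj A] [IsProper A.hom] [Smooth A.hom] [GeometricallyConnected A.hom]
  [GrpObj B] [IsProper B.hom] [Smooth B.hom] [GeometricallyConnected B.hom]
  [GrpObj Bt] [IsProper Bt.hom] [Smooth Bt.hom] [GeometricallyConnected Bt.hom]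
  {φ : ∀ T : Over (Spec (CommRingCat.of k)), PicF.Cl (PicF.XT B.hom T) → (T ⟶ Bt)}
  (hφ : AbDual.IsDualAV Scheme.fppfPrecoverage B Bt φ)
  {P : (B ⊗ Bt).left.Modules} (hP : PicF.IsInvertible P) (hPξ : AbDual.IsPoincareCl B Bt φ (PicF.cl P))

include hφ hP hPξ in
/-- `|χ(P)| = 1`. -/
theorem natAbs_eul_poincare {g : ℕ} (hg : topologicalKrullDim B.left = g) :
    (eul k (B ⊗ Bt) (PicM.of hP)).natAbs = 1 := by
  letI : (B ⊗ Bt).left.Over (Spec (CommRingCat.of k)) := ⟨(B ⊗ Bt).hom⟩
  haveI : IsProper ((B ⊗ Bt).left ↘ Spec (CommRingCat.of k)) :=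
    inferInstanceAs (IsProper (pullback.fst B.hom Bt.hom ≫ B.hom))
  haveI := EulerLib.isNoetherian_of_proper (X := (B ⊗ Bt).left) k
  haveI : HasInjectiveResolutions (pullback B.hom Bt.hom).Modules := hasInjectiveResolutions_modules _
  obtain ⟨hv, h1, -, -⟩ := S14127.result k B Bt φ hφ P hP hPξ g hg
  rw [S17505.eul, AbCubeLib.invOf_of, EulerLib.chiCl_mk, euler_congr k (B ⊗ Bt).left (unitTensorIso P),
    EulerLib.euler_eq_sum k (B ⊗ Bt).left P g (fun j hj => hv j (by omega)),
    Finset.sum_eq_single_of_mem g (Finset.mem_range.2 (by omega)) (fun j _ hj => by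
      haveI : Subsingleton (Coh.HH (B ⊗ Bt).left P j) := hv j hj
      rw [Module.finrank_zero_of_subsingleton]; simp), Int.natAbs_mul, Int.natAbs_pow]
  have h1' : Module.finrank k (Coh.HH (B ⊗ Bt).left P g) = 1 := h1
  rw [h1']
  simp

include hφ hP hPξ in
/-- **`|χ(Q)| = 1` exactly for an isomorphism.** -/
theorem natAbs_eul_eq_one_iff {g : ℕ} (hA : topologicalKrullDim A.left = g) (hB : topologicalKrullDim B.left = g)
    (c : PicM (B ⊗ A).left) (h0 : AbDual.IsPicZeroCl B.hom A c.val)
    (hrig : pb (lift (1 : A ⟶ B) (𝟙 A)) c = 1)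
    (hone : pb (lift (fst B (𝟙_ _)) (snd B (𝟙_ _) ≫ η[A])) c = 1) :
    (eul k (B ⊗ A) c).natAbs = 1 ↔ IsIso (φ A c.val) := by
  classical
  haveI : GeometricallyIntegral A.hom := AbVarLib.geometricallyIntegral_of_smooth A.hom
  haveI : GeometricallyIntegral B.hom := AbVarLib.geometricallyIntegral_of_smooth B.hom
  haveI : GeometricallyIntegral Bt.hom := AbVarLib.geometricallyIntegral_of_smooth Bt.hom
  haveI : GeometricallyReduced A.hom := AbSchLib.geometricallyReduced_of_smooth A.hom
  haveI : GeometricallyIntegral (B ⊗ A).hom := AbCubeLib.geometricallyIntegral_tensor' B A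
  haveI : GeometricallyIntegral (B ⊗ Bt).hom := AbCubeLib.geometricallyIntegral_tensor' B Bt
  haveI : IsProper (B ⊗ A).hom := inferInstanceAs (IsProper (pullback.fst B.hom A.hom ≫ B.hom))
  haveI : IsProper (B ⊗ Bt).hom := inferInstanceAs (IsProper (pullback.fst B.hom Bt.hom ≫ B.hom))
  have hBt : topologicalKrullDim Bt.left = g := (dim_dual_eq hφ).symm.trans hB
  let ψ : A ⟶ Bt := φ A c.val
  have h1 : η[A] ≫ ψ = η[Bt] := by
    have h := phi_pb hφ η[A] c h0
    change φ _ (pb (lift (fst B (𝟙_ _)) (snd B (𝟙_ _) ≫ η[A])) c).val = _ at h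
    rw [hone, phi_one hφ] at h
    rw [← h, show (1 : 𝟙_ (Over (Spec (CommRingCat.of k))) ⟶ Bt) = toUnit _ ≫ η[Bt] from rfl,
      toUnit_unique (toUnit (𝟙_ (Over (Spec (CommRingCat.of k))))) (𝟙 _), Category.id_comp]
  haveI : IsMonHom ψ := AbSchLib.isMonHom_of_one A Bt ψ h1
  let f : B ⊗ A ⟶ B ⊗ Bt := B ◁ ψ
  have hc : pb f (PicM.of hP) = c := by
    refine Eq.trans ?_ (ev_eq_of_rigid hφ hP hPξ c h0 hrig)
    show _ = pb (lift (fst B A) (snd B A ≫ ψ)) (PicM.of hP)
    congr 1
  have hBA : topologicalKrullDim (B ⊗ A).left = ((g + g : ℕ) : WithBot ℕ∞) := AbCubeLib.dim_tensor hB hA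
  have hBBt : topologicalKrullDim (B ⊗ Bt).left = ((g + g : ℕ) : WithBot ℕ∞) := AbCubeLib.dim_tensor hB hBt
  by_cases hs : Surjective ψ.left
  · obtain ⟨hfin, hfl⟩ := AbVarLib.isFinite_and_flat_of_surjective ψ (hA.trans hBt.symm)
    haveI := hfin
    haveI := hfl
    haveI : IsFinite f.left := MorphismProperty.of_isPullback (P := @IsFinite) (isPullback_whiskerLeft B ψ).flip hfin
    haveI : Flat f.left := MorphismProperty.of_isPullback (P := @Flat) (isPullback_whiskerLeft B ψ).flip hfl
    haveI : LocallyOfFiniteType ψ.left := inferInstance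
    haveI : IsLocallyNoetherian Bt.left := LocallyOfFiniteType.isLocallyNoetherian Bt.hom
    haveI : LocallyOfFinitePresentation ψ.left := inferInstance
    haveI : IsIntegral Bt.left := GeometricallyIntegral.isIntegral_of_subsingleton Bt.hom
    obtain ⟨d, hd⟩ : ∃ d : ℕ, ∀ y : Bt.left, Scheme.Hom.finrank ψ.left y = d :=
      ⟨_, fun y => (Scheme.Hom.isLocallyConstant_finrank ψ.left).apply_eq_of_preconnectedSpace y
        (genericPoint Bt.left)⟩
    have hdf : ∀ y : (B ⊗ Bt).left, Scheme.Hom.finrank f.left y = d := fun y =>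
      (Scheme.Hom.finrank_of_isPullback (snd B A).left f.left ψ.left (snd B Bt).left
        (isPullback_whiskerLeft B ψ).flip y).trans (hd _)
    have he := S17505.euler_pull k f hdf (PicM.of hP)
    rw [hc] at he
    rw [he, Int.natAbs_mul, natAbs_eul_poincare hφ hP hPξ hB, _root_.mul_one, Int.natAbs_natCast]
    have hiso : IsIso ψ ↔ IsIso ψ.left := by
      refine ⟨fun _ => inferInstanceAs (IsIso ((Over.forget _).map ψ)), fun h => ?_⟩
      haveI : IsIso ((Over.forget _).map ψ) := h
      exact isIso_of_reflects_iso ψ (Over.forget _)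
    rw [hiso, Scheme.Hom.isIso_iff_finrank_eq]
    refine ⟨fun h => funext fun y => (hd y).trans h, fun h => ?_⟩
    exact (hd (genericPoint Bt.left)).symm.trans (congrFun h _)
  · have hns : ¬ IsIso ψ := fun _ => by
      haveI : IsIso ψ.left := inferInstanceAs (IsIso ((Over.forget _).map ψ))
      exact hs inferInstance
    haveI : IsIntegral (B ⊗ Bt).left := GeometricallyIntegral.isIntegral_of_subsingleton (B ⊗ Bt).hom
    haveI : IsProper f.left := AbVarLib.isProper_left f
    have hgen : ∀ z, f.left z ≠ genericPoint (B ⊗ Bt).left := by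
      intro z hz
      refine hs ⟨fun y => ?_⟩
      have hr : Set.range f.left = Set.univ := by
        refine Set.eq_univ_of_univ_subset ?_
        rw [← (genericPoint_spec (B ⊗ Bt).left : closure {genericPoint (B ⊗ Bt).left} = Set.univ), f.left.isClosedMap.isClosed_range.closure_subset_iff,
          Set.singleton_subset_iff]
        exact ⟨z, hz⟩
      let σ : Bt ⟶ B ⊗ Bt := lift (1 : Bt ⟶ B) (𝟙 Bt)
      obtain ⟨w, hw⟩ : σ.left y ∈ Set.range f.left := hr ▸ trivial
      refine ⟨(snd B A).left w, ?_⟩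
      have e : f.left ≫ (snd B Bt).left = (snd B A).left ≫ ψ.left := (isPullback_whiskerLeft B ψ).w
      rw [← Scheme.Hom.comp_apply, ← e, Scheme.Hom.comp_apply, hw, ← Scheme.Hom.comp_apply, ← Over.comp_left]
      simp [σ]
    obtain ⟨H, -, hH⟩ := AbCubeLib.exists_ample (A := B ⊗ Bt)
    have hz : ∀ z : (B ⊗ A).left, ptDim (B ⊗ Bt).hom (f.left z) < g + g := by
      intro z
      have h2 := DimLib.ptDim_lt_of_specializes (B ⊗ Bt).hom (genericPoint_specializes (f.left z)) (hgen z).symm
      have h3 := DimLib.ptDim_le_topologicalKrullDim (B ⊗ Bt).hom (genericPoint (B ⊗ Bt).left)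
      rw [hBBt] at h3
      have h4 : ptDim (B ⊗ Bt).hom (genericPoint (B ⊗ Bt).left) ≤ g + g := by exact_mod_cast h3
      omega
    have h0' : eul k (B ⊗ A) c = 0 := by rw [← hc]; exact eul_pb_eq_zero hBA f hz hH _
    rw [h0']
    exact iff_of_false (by simp) hns

end Groth.Agent.AbCohLib
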