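import Groth.Agent.SpecSeq.Consequences

/-!
# Isolated terms of a spectral sequence with an abutment
-/

set_option autoImplicit false

universe v u

open CategoryTheory CategoryTheory.Limits

namespace Groth.Agent.AbCohLib

variable {C : Type u} [Category.{v} C] [Abelian C] (E : E₂CohomologicalSpectralSequence C)

theorem nonempty_page_iso_of_corner (a c : ℤ)
    (hs : ∀ r : ℤ, 2 ≤ r → IsZero ((E.page 2 le_rfl).X (a - r, c + r - 1)))
    (ht : ∀ r : ℤ, 2 ≤ r → IsZero ((E.page 2 le_rfl).X (a + r, c - r + 1)))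
    (r : ℤ) (hr : 2 ≤ r) :
    Nonempty ((E.page 2 le_rfl).X (a, c) ≅ (E.page r hr).X (a, c)) := by
  obtain ⟨k, rfl⟩ : ∃ k : ℕ, r = 2 + k := ⟨(r - 2).toNat, by lia⟩
  induction k with
  | zero => exact ⟨E.pageXIsoOfEq (a, c) 2 _ (by simp) le_rfl⟩
  | succ k ih =>
    obtain ⟨e⟩ := ih (by lia)
    let K := E.page (2 + (k : ℤ)) (by lia)
    have hin : ∀ i, K.d i (a, c) = 0 := fun i => by
      by_cases hi : i = (a - (2 + (k : ℤ)), c + (2 + (k : ℤ)) - 1)
      · subst hi
        exact (SpecSeq.isZero_page E _ (hs _ (by lia)) _ (by lia)).eq_of_src _ _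
      · apply K.shape
        intro h
        apply hi
        have h1 := congrArg Prod.fst h
        have h2 := congrArg Prod.snd h
        simp only [Prod.fst_add, Prod.snd_add] at h1 h2
        exact Prod.ext (by lia) (by lia)
    have hout : ∀ j, K.d (a, c) j = 0 := fun j => by
      by_cases hj : j = (a + (2 + (k : ℤ)), c - (2 + (k : ℤ)) + 1)
      · subst hj
        exact (SpecSeq.isZero_page E _ (ht _ (by lia)) _ (by lia)).eq_of_tgt _ _
      · apply K.shape
        intro h
        apply hj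
        have h1 := congrArg Prod.fst h
        have h2 := congrArg Prod.snd h
        simp only [Prod.fst_add, Prod.snd_add] at h1 h2
        exact Prod.ext (by lia) (by lia)
    exact ⟨e ≪≫ (ShortComplex.HomologyData.ofZeros (K.sc (a, c)) (hin _)
      (hout _)).left.homologyIso.symm ≪≫ E.iso (2 + (k : ℤ)) _ (a, c) (by push_cast; lia) (by lia)⟩

/-- An isolated term of the second page dies only if the abutment does. -/
theorem isZero_of_isZero_abutment {H : ℤ → C} (A : SpSeq.Abutment E H) (a c n : ℤ) (hn : a + c = n)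
    (hs : ∀ r : ℤ, 2 ≤ r → IsZero ((E.page 2 le_rfl).X (a - r, c + r - 1)))
    (ht : ∀ r : ℤ, 2 ≤ r → IsZero ((E.page 2 le_rfl).X (a + r, c - r + 1)))
    (hH : IsZero (H n)) : IsZero ((E.page 2 le_rfl).X (a, c)) := by
  subst hn
  obtain ⟨e⟩ := nonempty_page_iso_of_corner E a c hs ht _ (A.stat (a, c)).1
  refine IsZero.of_iso ?_ (e ≪≫ A.β (a, c))
  have hsub : IsZero ((A.fil (a + c) a : C)) :=
    IsZero.of_mono (A.fil (a + c) a).arrow hH
  show IsZero (cokernel ((A.fil (a + c) (a + 1)).ofLE (A.fil (a + c) a) (A.anti (a + c) (Int.le_add_one le_rfl))))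
  exact IsZero.of_epi (cokernel.π _) hsub

end Groth.Agent.AbCohLib
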