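import Groth.Agent.AbCohLib.MatHom

/-!
# Exactness at a prime through split exactness at its residue field
-/

set_option autoImplicit false

universe u

open Matrix

namespace Groth.Agent.AbCohLib

variable {p q r : ℕ}

/-- An exact pair of matrices over a field is split exact. -/
theorem exists_splitting {K : Type u} [Field K] {U : Matrix (Fin p) (Fin q) K} {V : Matrix (Fin q) (Fin r) K}
    (hex : ∀ v, U *ᵥ v = 0 → ∃ w, V *ᵥ w = v) :
    ∃ (h : Matrix (Fin q) (Fin p) K) (h' : Matrix (Fin r) (Fin q) K), h * U + V * h' = 1 := by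
  let f := U.mulVecLin
  obtain ⟨π, hπ⟩ := (LinearMap.range f).subtype.exists_leftInverse_of_injective (Submodule.ker_subtype _)
  obtain ⟨ρ, hρ⟩ := f.rangeRestrict.exists_rightInverse_of_surjective (LinearMap.range_rangeRestrict f)
  let h : Matrix (Fin q) (Fin p) K := LinearMap.toMatrix' (ρ.comp π)
  have hUhU : ∀ v, U *ᵥ (h *ᵥ (U *ᵥ v)) = U *ᵥ v := fun v => by
    show f (h *ᵥ f v) = f v
    rw [← Matrix.toLin'_apply, Matrix.toLin'_toMatrix', LinearMap.comp_apply,
      show π (f v) = f.rangeRestrict v from LinearMap.congr_fun hπ (f.rangeRestrict v)]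
    exact congrArg Subtype.val (LinearMap.congr_fun hρ (f.rangeRestrict v))
  let C : Matrix (Fin q) (Fin q) K := 1 - h * U
  choose w hw using fun c : Fin q => hex (C *ᵥ Pi.single c 1) (by
    simp only [C]
    rw [Matrix.sub_mulVec, Matrix.one_mulVec, Matrix.mulVec_sub, ← Matrix.mulVec_mulVec, hUhU, sub_self])
  refine ⟨h, Matrix.of fun y c => w c y, Matrix.ext fun x c => ?_⟩
  have e := congrFun (hw c) x
  rw [Matrix.mulVec_single_one] at e
  have e' : (V * Matrix.of fun y c => w c y) x c = C x c := by
    rw [← show (V *ᵥ w c) x = C x c from e]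
    rfl
  rw [Matrix.add_apply, e']
  simp [C]

variable {R : Type u} [CommRing R]

/-- Common denominators for a matrix over a fraction field. -/
theorem exists_clear (Q : Ideal R) [Q.IsPrime] (h : Matrix (Fin p) (Fin q) Q.ResidueField) :
    ∃ (d : R) (H : Matrix (Fin p) (Fin q) R), d ∉ Q ∧
      H.map (algebraMap R Q.ResidueField) = algebraMap R Q.ResidueField d • h := by
  classical
  obtain ⟨b, hb⟩ := IsLocalization.exist_integer_multiples (nonZeroDivisors (R ⧸ Q)) Finset.univ
    (fun z : Fin p × Fin q => h z.1 z.2)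
  obtain ⟨d, hd⟩ := Ideal.Quotient.mk_surjective (b : R ⧸ Q)
  choose H' hH' using fun (i : Fin p) (j : Fin q) => hb (i, j) (Finset.mem_univ _)
  choose H hH using fun (i : Fin p) (j : Fin q) => Ideal.Quotient.mk_surjective (H' i j)
  refine ⟨d, H, fun hdQ => ?_, Matrix.ext fun i j => ?_⟩
  · refine nonZeroDivisors.coe_ne_zero b ?_
    rw [← hd]
    exact Ideal.Quotient.eq_zero_iff_mem.2 hdQ
  · show algebraMap R Q.ResidueField (H i j) = algebraMap R Q.ResidueField d * h i j
    rw [IsScalarTower.algebraMap_apply R (R ⧸ Q) Q.ResidueField, IsScalarTower.algebraMap_apply R (R ⧸ Q) Q.ResidueField]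
    show algebraMap (R ⧸ Q) Q.ResidueField (Ideal.Quotient.mk Q (H i j)) =
      algebraMap (R ⧸ Q) Q.ResidueField (Ideal.Quotient.mk Q d) * h i j
    rw [hH, hd, hH' i j, Algebra.smul_def]

/-- A splitting at the residue field of a prime gives exactness at the prime. -/
theorem exists_smul_mem_range_of_splitting {U : Matrix (Fin p) (Fin q) R} {V : Matrix (Fin q) (Fin r) R}
    (hUV : U * V = 0) (Q : Ideal R) [Q.IsPrime] {h : Matrix (Fin q) (Fin p) Q.ResidueField}
    {h' : Matrix (Fin r) (Fin q) Q.ResidueField}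
    (he : h * U.map (algebraMap R Q.ResidueField) + V.map (algebraMap R Q.ResidueField) * h' = 1)
    (y : Fin q → R) (hy : app R U y = 0) : ∃ s, s ∉ Q ∧ s • y ∈ LinearMap.range (app R V) := by
  obtain ⟨d, H, hd, hH⟩ := exists_clear Q h
  obtain ⟨d', H', hd', hH'⟩ := exists_clear Q h'
  let φ := algebraMap R Q.ResidueField
  let P : Matrix (Fin q) (Fin q) R := d' • (H * U) + d • (V * H')
  have hP : P.map φ = (φ (d * d')) • 1 := by
    rw [← he]
    have hs : ∀ (c : R) (A : Matrix (Fin q) (Fin q) R), (c • A).map φ = φ c • A.map φ := fun c A => by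
      ext i j; simp [φ]
    simp only [P, Matrix.map_add φ (map_add φ), hs, Matrix.map_mul, φ, map_mul]
    rw [hH, hH']
    simp only [Matrix.smul_mul, Matrix.mul_smul, smul_smul, smul_add]
    rw [mul_comm]
  have hdet : P.det ∉ Q := fun hdQ => by
    have h0 : φ P.det = 0 := Ideal.algebraMap_residueField_eq_zero.2 hdQ
    rw [RingHom.map_det, RingHom.mapMatrix_apply, hP, Matrix.det_smul, Matrix.det_one, mul_one] at h0
    exact (‹Q.IsPrime›.mul_notMem hd hd') (Ideal.algebraMap_residueField_eq_zero.1 (pow_eq_zero_iff'.1 h0).1)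
  have hsm : ∀ (c : R) (A : Matrix (Fin q) (Fin q) R) (z : Fin q → R), app R (c • A) z = c • app R A z :=
    fun c A z => by funext i; simp [app_apply, Finset.mul_sum, mul_assoc]
  have hker : ∀ z, app R U z = 0 → app R U (app R P z) = 0 ∧ app R P z ∈ LinearMap.range (app R V) := fun z hz => by
    have e : app R P z = app R V (d • app R H' z) := by
      show app R (d' • (H * U) + d • (V * H')) z = _
      rw [app_add, hsm, hsm, app_mul, app_mul, hz, map_zero, smul_zero, zero_add, map_smul]
    exact ⟨by rw [e, ← app_mul, hUV, app_zero], _, e.symm⟩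
  have hpow : ∀ n : ℕ, app R U (app R (P ^ n) y) = 0 := fun n => by
    induction n with
    | zero => rw [pow_zero, ← one_smul R (1 : Matrix (Fin q) (Fin q) R), app_smul_one, one_smul, hy]
    | succ n ih => rw [pow_succ', app_mul]; exact (hker _ ih).1
  have hpol : ∀ f : Polynomial R, app R U (app R (Polynomial.aeval P f) y) = 0 := fun f => by
    induction f using Polynomial.induction_on' with
    | add f g hf hg => rw [map_add, app_add, map_add, hf, hg, add_zero]
    | monomial n c =>
      rw [Polynomial.aeval_monomial, ← Algebra.smul_def,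
        show app R (c • P ^ n) y = c • app R (P ^ n) y from by funext i; simp [app_apply, Finset.mul_sum, mul_assoc],
        map_smul, hpow, smul_zero]
  have hCH : P * Polynomial.aeval P P.charpoly.divX + P.charpoly.coeff 0 • 1 = 0 := by
    have h0 := Matrix.aeval_self_charpoly P
    rw [← Polynomial.X_mul_divX_add P.charpoly, map_add, map_mul, Polynomial.aeval_X, Polynomial.aeval_C,
      Algebra.algebraMap_eq_smul_one] at h0
    exact h0
  refine ⟨P.charpoly.coeff 0, fun hmem => hdet ?_, ?_⟩
  · rw [Matrix.det_eq_sign_charpoly_coeff]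
    exact Ideal.mul_mem_left _ _ hmem
  · have h0 := congrArg (fun A => app R A y) hCH
    simp only [app_add, app_smul_one, app_mul, app_zero] at h0
    rw [eq_neg_of_add_eq_zero_right h0]
    exact Submodule.neg_mem _ (hker _ (hpol _)).2

end Groth.Agent.AbCohLib
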