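import Groth.Agent.AbCohLib.Resolution
import Groth.Agent.AbCohLib.FieldLift
import Groth.Agent.CommAlg6.DepthAcyclic

/-!
# Complexes over a regular local ring whose cohomology is that of a Poincaré bundle
-/

set_option autoImplicit false

universe u

open Matrix IsLocalRing RingTheory.Sequence

namespace Groth.Agent.AbCohLib

variable {R : Type u} [CommRing R] {p q r : ℕ}

theorem length_Hm_congr {M M' : Type u} [AddCommGroup M] [Module R M] [AddCommGroup M'] [Module R M'] (e : M ≃ₗ[R] M')
    (U : Matrix (Fin p) (Fin q) R) (V : Matrix (Fin q) (Fin r) R) :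
    Module.length R (Hm U V M) = Module.length R (Hm U V M') :=
  le_antisymm
    (Module.length_le_of_surjective (Hm.map U V e.symm.toLinearMap)
      fun y => ⟨Hm.map _ _ e.toLinearMap y, map_map_eq _ _ (fun x => e.symm_apply_apply x) y⟩)
    (Module.length_le_of_surjective (Hm.map U V e.toLinearMap)
      fun y => ⟨Hm.map _ _ e.symm.toLinearMap y, map_map_eq _ _ (fun x => e.apply_symm_apply x) y⟩)

theorem length_ker_add_range {M N : Type u} [AddCommGroup M] [Module R M] [AddCommGroup N] [Module R N] (f : M →ₗ[R] N) :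
    Module.length R M = Module.length R (LinearMap.ker f) + Module.length R (LinearMap.range f) :=
  Module.length_eq_add_of_exact (LinearMap.ker f).subtype f.rangeRestrict Subtype.val_injective
    (LinearMap.surjective_rangeRestrict f) fun x =>
      ⟨fun h => ⟨⟨x, LinearMap.mem_ker.2 (congrArg Subtype.val h)⟩, rfl⟩,
        fun ⟨y, hy⟩ => Subtype.ext (by rw [← hy]; exact LinearMap.mem_ker.1 y.2)⟩

section Local

variable [IsLocalRing R]

theorem length_range_app (U : Matrix (Fin p) (Fin q) R) :
    Module.length R (LinearMap.range (app (ResidueField R) U)) = (U.map (residue R)).rank := by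
  let W : Submodule (ResidueField R) (Fin p → ResidueField R) := LinearMap.range (U.map (residue R)).mulVecLin
  have h : LinearMap.range (app (ResidueField R) U) = W.restrictScalars R := by
    have e : ∀ v, (U.map (residue R)) *ᵥ v = app (ResidueField R) U v := fun v => by
      funext i
      rw [app_apply]
      simp [Matrix.mulVec, dotProduct, Algebra.smul_def, ResidueField.algebraMap_eq]
    ext x
    exact ⟨fun ⟨v, hv⟩ => ⟨v, (e v).trans hv⟩, fun ⟨v, hv⟩ => ⟨v, (e v).symm.trans hv⟩⟩
  rw [h, show Module.length R (W.restrictScalars R) = Module.length R W from rfl,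
    Module.length_eq_of_surjective (S := R) (R := ResidueField R) (by
      rw [ResidueField.algebraMap_eq]; exact residue_surjective), Module.length_eq_finrank]
  rfl

/-- Transposing does not change the homology over the residue field. -/
theorem length_Hm_transpose {U : Matrix (Fin p) (Fin q) R} {V : Matrix (Fin q) (Fin r) R} (h : U * V = 0) :
    Module.length R (Hm Vᵀ Uᵀ (ResidueField R)) = Module.length R (Hm U V (ResidueField R)) := by
  have key : ∀ (p q r : ℕ) (U : Matrix (Fin p) (Fin q) R) (V : Matrix (Fin q) (Fin r) R), U * V = 0 →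
      Module.length R (Hm U V (ResidueField R)) + (V.map (residue R)).rank + (U.map (residue R)).rank = q := by
    intro p q r U V h
    have h1 := length_ker_add_range (app (ResidueField R) U)
    have h2 : Module.length R (LinearMap.ker (app (ResidueField R) U)) =
        Module.length R (LinearMap.range (app (ResidueField R) V)) + Module.length R (Hm U V (ResidueField R)) := by
      let K := LinearMap.ker (app (ResidueField R) U)
      let B := (LinearMap.range (app (ResidueField R) V)).comap K.subtype
      have eB : B ≃ₗ[R] LinearMap.range (app (ResidueField R) V) :=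
        Submodule.comapSubtypeEquivOfLe (fun x ⟨v, hv⟩ => LinearMap.mem_ker.2 (by rw [← hv, ← app_mul, h, app_zero]))
      have hlen : Module.length R B = Module.length R (LinearMap.range (app (ResidueField R) V)) :=
        LinearEquiv.length_eq (R := R) eB
      rw [← hlen]
      exact Module.length_eq_add_of_exact B.subtype B.mkQ B.injective_subtype B.mkQ_surjective
        (LinearMap.exact_subtype_mkQ B)
    rw [h2, length_range_app, length_range_app, Module.length_pi_of_fintype] at h1
    have h3 : Module.length R (ResidueField R) = 1 := by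
      rw [Module.length_eq_of_surjective (S := R) (R := ResidueField R) (by
        rw [ResidueField.algebraMap_eq]; exact residue_surjective), Module.length_eq_one]
    rw [add_comm ((V.map (residue R)).rank : ℕ∞)] at h1
    simpa [h3] using h1.symm
  have h1 := key p q r U V h
  have h2 := key r q p Vᵀ Uᵀ (mul_transpose_zero h)
  rw [Matrix.transpose_map, Matrix.transpose_map, Matrix.rank_transpose, Matrix.rank_transpose, add_right_comm] at h2
  exact WithTop.add_right_cancel (ENat.natCast_ne_top _) (WithTop.add_right_cancel (ENat.natCast_ne_top _)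
    (h2.trans h1.symm))

end Local

variable [IsRegularLocalRing R]

/-- **The shape of the Poincaré complex.** -/
theorem poincare_complex {g : ℕ} (hg : (maximalIdeal R).spanFinrank = g) {n : ℕ → ℕ}
    {D : ∀ i, Matrix (Fin (n i)) (Fin (n (i + 1))) R}
    (hDD : ∀ i, D i * D (i + 1) = 0) (hn0 : n 0 = 0) (hnv : ∀ i, g + 1 < i → n i = 0)
    (hpunct : ∀ (Q : Ideal R) [Q.IsPrime], Q ≠ maximalIdeal R → ∀ i (v : Fin (n (i + 1)) → Q.ResidueField),
      (D (i + 1))ᵀ.map (algebraMap R Q.ResidueField) *ᵥ v = 0 →
        ∃ w, (D i)ᵀ.map (algebraMap R Q.ResidueField) *ᵥ w = v)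
    (h0 : Module.length R (Hm (D 1)ᵀ (D 0)ᵀ (ResidueField R)) = 1)
    (huniv : ∀ I : Ideal R, I ≤ maximalIdeal R → (∃ N, maximalIdeal R ^ N ≤ I) →
      Nonempty (Hm (D 1)ᵀ (D 0)ᵀ (R ⧸ I) ≃ₗ[R] (R ⧸ I)) → I = maximalIdeal R) :
    (∀ i, Module.length R (Hm (D (i + 1))ᵀ (D i)ᵀ (ResidueField R)) = (Nat.choose g i : ℕ∞)) ∧
    (∀ i, Module.length R (Hm (D (i + 1))ᵀ (D i)ᵀ R) = if i = g then 1 else 0) := by
  obtain ⟨rs, hlen, hrs, hreg⟩ := CAlgH3.exists_isRegular_ofList_eq_maximalIdeal (R := R)
  rw [hg] at hlen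
  haveI : IsEmpty (Fin (n 0)) := by rw [hn0]; infer_instance
  have hloc : ∀ (Q : Ideal R) [Q.IsPrime], Q ≠ maximalIdeal R → ∀ i (y : Fin (n (i + 1)) → R),
      app R (D i) y = 0 → ∃ s, s ∉ Q ∧ s • y ∈ LinearMap.range (app R (D (i + 1))) := by
    intro Q _ hQ i
    obtain ⟨h, h', he⟩ := exists_splitting (hpunct Q hQ i)
    refine exists_smul_mem_range_of_splitting (hDD i) Q (h := h'ᵀ) (h' := hᵀ) ?_
    have := congrArg Matrix.transpose he
    rw [Matrix.transpose_add, Matrix.transpose_mul, Matrix.transpose_mul, Matrix.transpose_one, Matrix.transpose_map,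
      Matrix.transpose_map, Matrix.transpose_transpose, Matrix.transpose_transpose] at this
    exact (add_comm _ _).trans this
  have hex : ∀ i, Subsingleton (Hm (D (i + 1)) (D (i + 2)) R) := fun i => by
    refine subsingleton_of_forall_eq 0 fun x => ?_
    obtain ⟨z, rfl⟩ := Hm.exists_rep x
    rw [Hm.mk_eq_zero_iff]
    have hz : D (i + 1) *ᵥ (z : Fin (n (i + 1 + 1)) → R) = 0 := (mulVec_eq_app _ _).trans (LinearMap.mem_ker.1 z.2)
    obtain ⟨w, hw⟩ := CommAlg6.DepthAcyclic.exact_of_killed (A := R) (e := g)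
      (n := fun j => n (j + 1)) (D := fun j => D (j + 1))
      (by rw [CAlgH3.depth_eq_spanFinrank, hg]) (fun j hj => hnv _ (by omega))
      (fun j => hDD (j + 1))
      (fun Q hQ hne j y hy => by
        obtain ⟨s, hs, w, hw⟩ := hloc Q hne (j + 1) y ((mulVec_eq_app _ _).symm.trans hy)
        exact ⟨s, hs, w, (mulVec_eq_app _ _).trans hw⟩) i _ hz
    exact ⟨w, (mulVec_eq_app _ _).symm.trans hw⟩
  -- the zeroth homology is the residue field
  let K := LinearMap.ker (app R (D 0))
  have hK : ∀ v : Fin (n 1) → R, v ∈ K := fun v => LinearMap.mem_ker.2 (Subsingleton.elim _ _)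
  let N := Hm (D 0) (D 1) R
  have hk1 : Module.length R (Hm (D 0) (D 1) (ResidueField R)) = 1 := by
    rw [← length_Hm_transpose (hDD 0), h0]
  let ρ : N →ₗ[R] Hm (D 0) (D 1) (ResidueField R) := Hm.map _ _ (Algebra.linearMap R (ResidueField R))
  have hρ : Function.Surjective ρ := fun y => by
    obtain ⟨z, rfl⟩ := Hm.exists_rep y
    choose v hv using fun c => residue_surjective ((z : Fin (n 1) → ResidueField R) c)
    exact ⟨Submodule.Quotient.mk ⟨v, hK v⟩, congrArg Submodule.Quotient.mk (Subtype.ext (funext hv))⟩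
  have hρker : LinearMap.ker ρ ≤ maximalIdeal R • ⊤ := by
    intro x hx
    obtain ⟨z, rfl⟩ := Hm.exists_rep x
    obtain ⟨z', hz', hz'e⟩ := Hm.map_mk (D 0) (D 1) (Algebra.linearMap R (ResidueField R)) z
    have hx' : ρ (Submodule.Quotient.mk z) = 0 := hx
    rw [show ρ (Submodule.Quotient.mk z) = _ from hz'e, Hm.mk_eq_zero_iff, hz'] at hx'
    obtain ⟨w, hw⟩ := hx'
    choose v hv using fun c => residue_surjective (w c)
    have hmem : ∀ c, (z : Fin (n 1) → R) c - app R (D 1) v c ∈ maximalIdeal R := fun c => by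
      rw [← residue_eq_zero_iff, map_sub, sub_eq_zero]
      have e := congrFun (app_comp (D 1) (Algebra.linearMap R (ResidueField R)) v) c
      rw [show (Algebra.linearMap R (ResidueField R)) ∘ v = w from funext hv, hw] at e
      exact e
    have e : (Submodule.Quotient.mk z : N) =
        ∑ c, ((z : Fin (n 1) → R) c - app R (D 1) v c) •
          Submodule.Quotient.mk (⟨Pi.single c 1, hK _⟩ : K) := by
      simp only [← Submodule.Quotient.mk_smul]
      rw [← Submodule.mkQ_apply]
      simp only [← Submodule.mkQ_apply, ← map_sum]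
      rw [Submodule.mkQ_apply, Submodule.mkQ_apply, Submodule.Quotient.eq]
      refine ⟨v, ?_⟩
      funext x
      simp [Submodule.coe_sum, Finset.sum_apply, Pi.single_apply]
    rw [e]
    exact Submodule.sum_mem _ fun c _ => Submodule.smul_mem_smul (hmem c) Submodule.mem_top
  obtain ⟨y, hy⟩ : ∃ y : N, Submodule.span R {y} = ⊤ := by
    haveI : IsSimpleModule R (Hm (D 0) (D 1) (ResidueField R)) := Module.length_eq_one_iff.1 hk1
    haveI := IsSimpleModule.nontrivial R (Hm (D 0) (D 1) (ResidueField R))
    obtain ⟨y', hy'⟩ := exists_ne (0 : Hm (D 0) (D 1) (ResidueField R))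
    obtain ⟨y, rfl⟩ := hρ y'
    refine ⟨y, Submodule.eq_top_iff'.2 fun x => ?_⟩
    haveI : Module.Finite R N := inferInstance
    have hle : (⊤ : Submodule R N) ≤ Submodule.span R {y} ⊔ maximalIdeal R • ⊤ := fun x _ => by
      have htop := IsSimpleModule.span_singleton_eq_top R hy'
      obtain ⟨c, hc⟩ := Submodule.mem_span_singleton.1 (htop ▸ Submodule.mem_top (x := ρ x))
      exact Submodule.mem_sup.2 ⟨c • y, Submodule.smul_mem _ _ (Submodule.mem_span_singleton_self y), x - c • y,
        hρker (by rw [LinearMap.mem_ker, map_sub, map_smul, hc, sub_self]), add_sub_cancel _ _⟩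
    exact Submodule.le_of_le_smul_of_le_jacobson_bot (Module.finite_def.1 inferInstance)
      (maximalIdeal_le_jacobson ⊥) hle Submodule.mem_top
  let I : Ideal R := LinearMap.ker (LinearMap.toSpanSingleton R N y)
  have hsurj : Function.Surjective (LinearMap.toSpanSingleton R N y) := fun x =>
    Submodule.mem_span_singleton.1 (hy ▸ Submodule.mem_top (x := x))
  let e : (R ⧸ I) ≃ₗ[R] N := LinearMap.quotKerEquivOfSurjective _ hsurj
  have hImem : ∀ a, a ∈ I ↔ a • y = 0 := fun a => LinearMap.mem_ker
  have hI : I ≤ maximalIdeal R := le_maximalIdeal fun htop => by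
    haveI : Subsingleton N := by
      refine subsingleton_of_forall_eq 0 fun x => ?_
      obtain ⟨a, ha⟩ := hsurj x
      rw [← ha, LinearMap.toSpanSingleton_apply, (hImem a).1 (by rw [htop]; exact Submodule.mem_top)]
    haveI := Function.Surjective.subsingleton hρ
    rw [Module.length_eq_zero] at hk1
    exact zero_ne_one hk1
  have hpow : ∃ M, maximalIdeal R ^ M ≤ I := by
    obtain ⟨z, rfl⟩ := Hm.exists_rep y
    obtain ⟨M, hM⟩ := CommAlg6.DepthAcyclic.pow_mem_of_killed (LinearMap.range (app R (D 1)))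
      (z : Fin (n 1) → R) fun Q hQ hne => hloc Q hne 0 _ (LinearMap.mem_ker.1 z.2)
    exact ⟨M, fun a ha => (hImem a).2 (by
      rw [← Submodule.Quotient.mk_smul, Hm.mk_eq_zero_iff]; exact hM a ha)⟩
  let u : Fin (n 1) → R ⧸ I := fun c => e.symm (Submodule.Quotient.mk ⟨Pi.single c 1, hK _⟩)
  let π : (Fin (n 1) → R) →ₗ[R] R ⧸ I :=
    e.symm.toLinearMap.comp ((Submodule.mkQ _).comp (LinearMap.id.codRestrict K hK))
  have hπu : ∀ w, π w = ∑ c, w c • u c := fun w => by
    conv_lhs => rw [show w = ∑ c, w c • (Pi.single c 1 : Fin (n 1) → R) from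
      funext fun x => by simp [Finset.sum_apply, Pi.single_apply], map_sum]
    exact Finset.sum_congr rfl fun c _ => by rw [map_smul]; rfl
  have hu : app (R ⧸ I) (D 1)ᵀ u = 0 := by
    funext x
    rw [app_apply]
    show ∑ c, D 1 c x • u c = 0
    rw [← hπu (fun c => D 1 c x)]
    show e.symm (Submodule.Quotient.mk _) = 0
    rw [LinearEquiv.map_eq_zero_iff, Hm.mk_eq_zero_iff]
    exact ⟨Pi.single x 1, by funext c; simp [app_apply, Pi.single_apply]⟩
  have hquot : ∀ (M : Type u) [AddCommGroup M] [Module R M] (w : Fin (n 1) → M),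
      w ∈ LinearMap.range (app M (D 0)ᵀ) → w = 0 := fun M _ _ w ⟨t, ht⟩ => by
    rw [← ht, Subsingleton.elim t 0, map_zero]
  have hnat : ∀ (a : R ⧸ I), app (R ⧸ I) (D 1)ᵀ (fun c => u c * a) = 0 := fun a => by
    funext x
    have := congrFun hu x
    rw [app_apply] at this ⊢
    simp only [← smul_mul_assoc, ← Finset.sum_mul, this, Pi.zero_apply, zero_mul]
  let F : (R ⧸ I) →ₗ[R] Hm (D 1)ᵀ (D 0)ᵀ (R ⧸ I) :=
    (Submodule.mkQ _).comp ((LinearMap.pi fun c => LinearMap.mulLeft R (u c)).codRestrict _ fun a =>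
      LinearMap.mem_ker.2 (hnat a))
  have hF : Function.Bijective F := by
    refine ⟨(injective_iff_map_eq_zero F).2 fun a ha => ?_, fun x => ?_⟩
    · have h1 := hquot _ _ ((Hm.mk_eq_zero_iff _).1 ha)
      obtain ⟨w, hw⟩ := Submodule.mkQ_surjective _ (e 1)
      have e1 : (1 : R ⧸ I) = π w.1 := by
        show 1 = e.symm (Submodule.Quotient.mk w)
        rw [← Submodule.mkQ_apply, hw, LinearEquiv.symm_apply_apply]
      rw [← one_mul a, e1, hπu, Finset.sum_mul]
      exact Finset.sum_eq_zero fun c _ => by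
        rw [smul_mul_assoc, show u c * a = 0 from congrFun h1 c, smul_zero]
    · obtain ⟨⟨v, hv⟩, rfl⟩ := Hm.exists_rep x
      let ψ : (Fin (n 1) → R) →ₗ[R] R ⧸ I := ∑ c, (LinearMap.proj c).smulRight (v c)
      have hψ : ∀ w, ψ w = ∑ c, w c • v c := fun w => by simp [ψ]
      have hle : LinearMap.ker π ≤ LinearMap.ker ψ := fun w hw => by
        have hw' : (Submodule.Quotient.mk ⟨w, hK w⟩ : N) = 0 := e.symm.map_eq_zero_iff.1 hw
        obtain ⟨t, rfl⟩ := (Hm.mk_eq_zero_iff _).1 hw'
        rw [LinearMap.mem_ker, hψ]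
        simp only [app_apply, Finset.sum_smul]
        rw [Finset.sum_comm]
        refine Finset.sum_eq_zero fun x _ => ?_
        have h2 : ∑ c, D 1 c x • v c = 0 := by
          have := congrFun (LinearMap.mem_ker.1 hv) x
          rwa [app_apply] at this
        simp only [smul_eq_mul, mul_comm (D 1 _ x), mul_smul, ← Finset.smul_sum, h2, smul_zero]
      have hπs : Function.Surjective π := fun a => by
        obtain ⟨w, hw⟩ := Submodule.mkQ_surjective _ (e a)
        exact ⟨w.1, (congrArg e.symm hw).trans (e.symm_apply_apply a)⟩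
      let lam := ((LinearMap.ker π).liftQ ψ hle).comp (π.quotKerEquivOfSurjective hπs).symm.toLinearMap
      have hlam : ∀ w, lam (π w) = ψ w := fun w => by
        show (LinearMap.ker π).liftQ ψ hle ((π.quotKerEquivOfSurjective hπs).symm (π w)) = ψ w
        rw [show π w = π.quotKerEquivOfSurjective hπs (Submodule.Quotient.mk w) from rfl,
          LinearEquiv.symm_apply_apply, Submodule.liftQ_apply]
      refine ⟨lam 1, congrArg Submodule.Quotient.mk (Subtype.ext (funext fun c => ?_))⟩
      show u c * lam 1 = v c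
      obtain ⟨s, hs⟩ := Ideal.Quotient.mk_surjective (u c)
      have hu' : u c = π (Pi.single c 1) := rfl
      have hs' : u c = s • (1 : R ⧸ I) := by rw [← hs, Algebra.smul_def, mul_one]; rfl
      calc u c * lam 1 = s • lam 1 := by rw [hs', smul_mul_assoc, one_mul]
        _ = lam (π (Pi.single c 1)) := by rw [← map_smul, ← hs', hu']
        _ = v c := by rw [hlam, hψ]; simp [Pi.single_apply]
  have hIm : I = maximalIdeal R := huniv I hI hpow ⟨(LinearEquiv.ofBijective F hF).symm⟩
  have hlenk : Module.length R (ResidueField R) = 1 := by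
    rw [Module.length_eq_of_surjective (S := R) (R := ResidueField R) (by
      rw [ResidueField.algebraMap_eq]; exact residue_surjective), Module.length_eq_one]
  have hN1 : Module.length R N = 1 := by
    rw [← e.length_eq, (Submodule.quotEquivOfEq I (maximalIdeal R) hIm).length_eq]
    exact hlenk
  have hkill : ∀ a ∈ maximalIdeal R, ∀ x : N, a • x = 0 := fun a ha x => by
    obtain ⟨b, rfl⟩ := hsurj x
    rw [LinearMap.toSpanSingleton_apply, smul_comm, (hImem a).1 (hIm ▸ ha), smul_zero]
  have hhom : ∀ a ∈ maximalIdeal R, ∃ h : ∀ i, Matrix (Fin (n (i + 1))) (Fin (n i)) R,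
      ∀ i, h i * D i + D (i + 1) * h (i + 1) = a • 1 := fun a ha =>
    exists_homotopy hDD hn0 (hkill a ha) hex
  -- the stages
  have eg : Stage rs rs.length ≃ₗ[R] ResidueField R :=
    (Submodule.quotEquivOfEq _ (maximalIdeal R) (by rw [List.take_length, hrs, smul_eq_mul, Ideal.mul_top]))
  have e0 : Stage rs 0 ≃ₗ[R] R := Submodule.quotEquivOfEqBot _ (by simp)
  have hk : ∀ i, Module.length R (Hm (D (i + 1))ᵀ (D i)ᵀ (ResidueField R)) = (Nat.choose g i : ℕ∞) := fun i => by
    rw [length_Hm_transpose (hDD i), ← length_Hm_congr eg,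
      length_chain hDD hn0 hhom hrs hreg.toIsWeaklyRegular hex hN1 rs.length le_rfl i, hlen]
  refine ⟨hk, fun i => ?_⟩
  have := length_cochain hDD hn0 hhom hrs hreg.toIsWeaklyRegular (fun i hi => hnv i (hlen ▸ hi))
    (fun i => by rw [length_Hm_congr eg, hk, hlen]) rs.length le_rfl i
  rw [Nat.sub_self, length_Hm_congr e0] at this
  rw [this, hlen]
  split_ifs with h1 h2 h2
  · subst h2; simp
  · rw [Nat.choose_eq_zero_of_lt (by omega), Nat.cast_zero]
  · omega
  · rfl

end Groth.Agent.AbCohLib
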