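import Groth.Agent.AbCohLib.IndexRay
import Groth.Agent.AbCubeLib.InterDegPullback
import Groth.Agent.AmpleLib.Generated
import Groth.Agent.EulerLib.HilbPoly

/-!
# Classes pulled back from a smaller variety have Euler characteristic zero
-/

set_option autoImplicit false
set_option linter.style.haveILetI false
set_option linter.unusedSectionVars false
set_option backward.isDefEq.respectTransparency.types false
set_option maxHeartbeats 1600000

universe u

open CategoryTheory CategoryTheory.Limits MonoidalCategory CartesianMonoidalCategory MonObj GrpObj AlgebraicGeometry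
  Opposite TopologicalSpace fwdDiff
open Groth.Agent Groth.Agent.Coherent Groth.Agent.PicLib Groth.Agent.AbCubeLib Groth.Agent.AmpleLib
  Groth.Agent.EulerLib Groth.Agent.S17505 Groth.Agent.DimLib

namespace Groth.Agent.AbCohLib

variable {k : Type u} [Field k] {X Y : Over (Spec (CommRingCat.of k))} [GrpObj X] [IsProper X.hom]
  [GeometricallyIntegral X.hom] [IsProper Y.hom] {d : ℕ} (hd : topologicalKrullDim X.left = d) (f : X ⟶ Y)
  (hf : ∀ z : X.left, ptDim Y.hom (f.left z) < d)

include hd hf in
theorem eul_pb_ample_eq_zero {H : Y.left.Modules} (hH : CohB1.IsAmple H) :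
    eul k X (pb f (PicM.of hH.1)) = 0 := by
  classical
  letI : X.left.Over (Spec (CommRingCat.of k)) := ⟨X.hom⟩
  letI : Y.left.Over (Spec (CommRingCat.of k)) := ⟨Y.hom⟩
  haveI : IsProper (X.left ↘ Spec (CommRingCat.of k)) := ‹IsProper X.hom›
  haveI : IsProper (Y.left ↘ Spec (CommRingCat.of k)) := ‹IsProper Y.hom›
  haveI := EulerLib.isNoetherian_of_proper (X := X.left) k
  let c := pb f (PicM.of hH.1)
  obtain ⟨c', hc⟩ := PicM.exists_mul_eq_one c
  have h := AbCubeLib.interDeg_pull_eq_zero k f.left hH d (Coh.structureModule X.left)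
    (Coherent.isCoh_structureModule _) ((Topology.IsInducing.subtypeVal.topologicalKrullDim_le).trans hd.le)
    (fun z _ => hf z)
  rw [interDeg_const_eq] at h
  have hP : ∀ m : ℕ, ((chiCl k (Coh.structureModule X.left) (invOf c ^ m) : ℤ) : ℚ) =
      (Polynomial.C (eul k X c : ℚ) * Polynomial.X ^ d).eval (m : ℚ) := by
    intro m
    rw [← map_pow]
    show ((eul k X (c ^ m) : ℤ) : ℚ) = _
    rw [eul_pow hd hc m]
    simp
    ring
  have h2 := cast_fwdDiff_iter hP d 0
  have h2' := congrArg (fun z : ℤ => (z : ℚ)) h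
  rw [coeff_smul_factorial (Polynomial.natDegree_C_mul_X_pow_le _ _), h2'.trans Int.cast_zero, StabCat.alpha,
    Polynomial.coeff_C_mul_X_pow, if_pos rfl] at h2
  rcases mul_eq_zero.1 h2.symm with h3 | h3
  · exact absurd h3 (Nat.cast_ne_zero.2 (Nat.factorial_ne_zero d))
  · exact_mod_cast h3

include hd hf in
/-- **Euler characteristics of classes with small image vanish.** -/
theorem eul_pb_eq_zero {H : Y.left.Modules} (hH : CohB1.IsAmple H) (c : PicM Y.left) :
    eul k X (pb f c) = 0 := by
  classical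
  obtain ⟨M, hM, rfl⟩ := PicM.exists_eq_of c
  obtain ⟨N, -, hN⟩ := AmpleLib.eventually_ample_and_generated hH hM
  let l := pb f (PicM.of hM)
  let h := pb f (PicM.of hH.1)
  obtain ⟨l', hl⟩ := PicM.exists_mul_eq_one l
  obtain ⟨h', hh⟩ := PicM.exists_mul_eq_one h
  obtain ⟨Φ, -, hΦ⟩ := exists_ray_poly hd hl hh
  have hzero : ∀ n, N ≤ n → eul k X (l ^ 1 * h ^ n) = 0 := by
    intro n hn
    obtain ⟨hA, -⟩ := hN n hn
    have e : l ^ 1 * h ^ n = pb f (PicM.of hA.1) := by
      show PicM.pull f.left (PicM.of hM) ^ 1 * PicM.pull f.left (PicM.of hH.1) ^ n = PicM.pull f.left _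
      rw [pow_one, ← map_pow, ← map_mul, ← PicM.of_tensorPow hH.1,
        ← PicM.of_mul (isInvertible_tensorPow hH.1 n) hM, _root_.mul_comm]
    rw [e]
    exact eul_pb_ample_eq_zero hd f hf hA
  have hΦ0 : Φ.map (algebraMap ℚ ℝ) = 0 :=
    Polynomial.eq_zero_of_infinite_isRoot _ (Set.infinite_of_injective_forall_mem
      (f := fun n : ℕ => ((n + N : ℕ) : ℝ)) (Nat.cast_injective.comp (add_left_injective N)) fun n => by
      have e := hΦ 1 (n + N) one_pos
      rw [hzero _ (Nat.le_add_left _ _)] at e
      simpa using e.symm)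
  have e := hΦ 1 0 one_pos
  rw [hΦ0, Polynomial.eval_zero, mul_zero, pow_one, pow_zero, _root_.mul_one] at e
  exact_mod_cast e

end Groth.Agent.AbCohLib
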