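import Groth.Agent.CohEdge27.FibreCrit

/-!
# Fibre dimensions at field valued points
-/

set_option autoImplicit false
set_option linter.style.haveILetI false
set_option backward.isDefEq.respectTransparency.types false
set_option maxHeartbeats 1600000

universe u

open CategoryTheory CategoryTheory.Limits AlgebraicGeometry TopologicalSpace Opposite
open Groth.Agent.Coherent Groth.Agent.Coherent.CohBC Groth.Agent.PicLib Groth.Agent.CohEdge27

namespace Groth.Agent.AbCohLib

/-- A fibre has no cohomology iff the fibre over a field valued point there has none. -/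
theorem fiberRank_eq_zero_iff_of_isPullback {X S : Scheme.{u}} (f : X ⟶ S) [IsProper f] (G : X.Modules)
    (hG : Coh.IsCoh G) {K : Type u} [Field K] {Z : Scheme.{u}} (q : Z ⟶ Spec (CommRingCat.of K))
    {t : Spec (CommRingCat.of K) ⟶ S} {σ : Z ⟶ X} (hsq : IsPullback σ q f t) (p : ℕ) :
    CohIII.fiberRank f G p (t (IsLocalRing.closedPoint K)) = 0 ↔
      Subsingleton (Coh.HH Z ((Scheme.Modules.pullback σ).obj G) p) := by
  haveI : IsProper q := MorphismProperty.of_isPullback (P := @IsProper) hsq inferInstance
  haveI : Coh.IsQCoh G := hG.1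
  let G' := (Scheme.Modules.pullback σ).obj G
  haveI : Coh.IsQCoh G' := EGA43.InjFibre.isQCoh_pullback _ _
  have hG' : Coh.IsCoh G' := ⟨inferInstance, isFT_pullback_qcoh _ hG.1 hG.2⟩
  rw [← fiberRank_pullback hsq G p (IsLocalRing.closedPoint K), ← subsingleton_fiberH_iff_fiberRank q G' hG']
  let ι := q.fiberι (IsLocalRing.closedPoint K)
  haveI : IsIso ((Spec (CommRingCat.of K)).fromSpecResidueField (IsLocalRing.closedPoint K)) := by
    haveI : IsClosedImmersion ((Spec (CommRingCat.of K)).fromSpecResidueField (IsLocalRing.closedPoint K)) := by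
      refine IsClosedImmersion.of_isPreimmersion _ ?_
      rw [Scheme.range_fromSpecResidueField]
      exact isClosed_discrete _
    haveI : Surjective ((Spec (CommRingCat.of K)).fromSpecResidueField (IsLocalRing.closedPoint K)) :=
      ⟨fun x => ⟨IsLocalRing.closedPoint _, (Scheme.fromSpecResidueField_apply _ _).trans
        (Subsingleton.elim (α := PrimeSpectrum K) _ _)⟩⟩
    exact isIso_of_isClosedImmersion_of_surjective _
  haveI : IsIso ι := inferInstanceAs (IsIso (pullback.fst _ _))
  constructor
  · intro h
    haveI : IsProper (ι ≫ q) := inferInstance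
    haveI : Coh.IsQCoh ((Scheme.Modules.pullback ι).obj G') := EGA43.InjFibre.isQCoh_pullback _ _
    have h' := subsingleton_HH_pullback_iso (inv ι) (ι ≫ q) ((Scheme.Modules.pullback ι).obj G') p h
    exact FlatMorStrat.subsingleton_HH_of_iso ((Scheme.Modules.pullbackComp (inv ι) ι).app G' ≪≫
      (Scheme.Modules.pullbackCongr (IsIso.inv_hom_id ι)).app G' ≪≫ (Scheme.Modules.pullbackId _).app G') p h'
  · intro h
    exact subsingleton_HH_pullback_iso ι q G' p h

end Groth.Agent.AbCohLib
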