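import Groth.Agent.AbCohLib.StalkRel
import Groth.Agent.EulerLib.Degree
import Groth.Agent.EulerLib.HilbPoly
import Groth.Agent.PicLib.PicMonoid
import Groth.Agent.SerreDual.ExtLocFree

/-!
# Growth of the cohomology of twists by powers of two invertible modules
-/

set_option autoImplicit false
set_option linter.style.haveILetI false
set_option linter.unusedSectionVars false
set_option backward.isDefEq.respectTransparency.types false
set_option maxHeartbeats 1600000

universe u

open CategoryTheory CategoryTheory.Limits AlgebraicGeometry Opposite TopologicalSpace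
open Groth.Agent Groth.Agent.Coherent Groth.Agent.PicLib Groth.Agent.AmpleLib Groth.Agent.EulerLib Groth.Agent.AssSch12

namespace Groth.Agent.AbCohLib

/-- `O((a + b + 1)^(r - 1))`, and zero for `r = 0`, in each degree. -/
def bddSub (r : ℕ) : AddSubgroup (ℕ → ℕ → ℕ → ℤ) where
  carrier := {f | ∀ q, ∃ C : ℕ, ∀ a b, |f q a b| ≤ (C * r * (a + b + 1) ^ (r - 1) : ℕ)}
  zero_mem' q := ⟨0, fun a b => by simp⟩
  add_mem' {f g} hf hg q := by
    obtain ⟨C, hC⟩ := hf q
    obtain ⟨D, hD⟩ := hg q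
    refine ⟨C + D, fun a b => (abs_add_le _ _).trans ?_⟩
    have := add_le_add (hC a b) (hD a b)
    push_cast at this ⊢
    linarith
  neg_mem' {f} hf q := by
    obtain ⟨C, hC⟩ := hf q
    exact ⟨C, fun a b => by simpa using hC a b⟩

theorem mem_bddSub {r : ℕ} {f : ℕ → ℕ → ℕ → ℤ} :
    f ∈ bddSub r ↔ ∀ q, ∃ C : ℕ, ∀ a b, |f q a b| ≤ (C * r * (a + b + 1) ^ (r - 1) : ℕ) := Iff.rfl

theorem bddSub_of_abs_le {r : ℕ} {f f₁ f₂ : ℕ → ℕ → ℕ → ℤ} (h₁ : f₁ ∈ bddSub r) (h₂ : f₂ ∈ bddSub r)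
    (h : ∀ q a b, |f q a b| ≤ |f₁ q a b| + |f₂ q a b|) : f ∈ bddSub r := fun q => by
  obtain ⟨C, hC⟩ := h₁ q
  obtain ⟨D, hD⟩ := h₂ q
  refine ⟨C + D, fun a b => (h q a b).trans ?_⟩
  have := add_le_add (hC a b) (hD a b)
  push_cast at this ⊢
  linarith

/-- Shifting the degree keeps the bound. -/
theorem shift_mem_bddSub {r : ℕ} {f : ℕ → ℕ → ℕ → ℤ} (hf : f ∈ bddSub r) (s : ℕ → ℕ) :
    (fun q => f (s q)) ∈ bddSub r := fun q => hf (s q)

/-- Summing bounded differences. -/
theorem succ_mem_bddSub {r : ℕ} {f : ℕ → ℕ → ℕ → ℤ}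
    (h₁ : (fun q a b => f q (a + 1) b - f q a b) ∈ bddSub r)
    (h₂ : (fun q a b => f q a (b + 1) - f q a b) ∈ bddSub r) : f ∈ bddSub (r + 1) := by
  intro q
  obtain ⟨C, hC⟩ := h₁ q
  obtain ⟨D, hD⟩ := h₂ q
  refine ⟨(f q 0 0).natAbs + C * r + D * r, fun a b => ?_⟩
  let E : ℕ → ℤ := fun N => (((f q 0 0).natAbs + C * r + D * r) * (N + 1) ^ r : ℕ)
  have hpow : ∀ n N : ℕ, n ≤ N → (n + 1) ^ (r - 1) ≤ (N + 1) ^ (r - 1) := fun n N h =>
    Nat.pow_le_pow_left (by omega) _
  have ha : ∀ m, m ≤ a → |f q m 0 - f q 0 0| ≤ ((m * (C * r * (a + b + 1) ^ (r - 1)) : ℕ) : ℤ) := by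
    intro m hm
    induction m with
    | zero => simp
    | succ m ih =>
      have e : f q (m + 1) 0 - f q 0 0 = (f q (m + 1) 0 - f q m 0) + (f q m 0 - f q 0 0) := by ring
      rw [e]
      refine (abs_add_le _ _).trans ?_
      have h3 : |f q (m + 1) 0 - f q m 0| ≤ ((C * r * (a + b + 1) ^ (r - 1) : ℕ) : ℤ) :=
        (hC m 0).trans (by exact_mod_cast Nat.mul_le_mul_left _ (hpow (m + 0) (a + b) (by omega)))
      have := add_le_add h3 (ih (by omega))
      refine this.trans (le_of_eq ?_)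
      push_cast
      ring
  have hb : ∀ m, m ≤ b → |f q a m - f q a 0| ≤ ((m * (D * r * (a + b + 1) ^ (r - 1)) : ℕ) : ℤ) := by
    intro m hm
    induction m with
    | zero => simp
    | succ m ih =>
      have e : f q a (m + 1) - f q a 0 = (f q a (m + 1) - f q a m) + (f q a m - f q a 0) := by ring
      rw [e]
      refine (abs_add_le _ _).trans ?_
      have h3 : |f q a (m + 1) - f q a m| ≤ ((D * r * (a + b + 1) ^ (r - 1) : ℕ) : ℤ) :=
        (hD a m).trans (by exact_mod_cast Nat.mul_le_mul_left _ (hpow (a + m) (a + b) (by omega)))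
      have := add_le_add h3 (ih (by omega))
      refine this.trans (le_of_eq ?_)
      push_cast
      ring
  have e : f q a b = (f q a b - f q a 0) + (f q a 0 - f q 0 0) + f q 0 0 := by ring
  have hAB : |f q a b| ≤ ((b * (D * r * (a + b + 1) ^ (r - 1)) + a * (C * r * (a + b + 1) ^ (r - 1)) +
      (f q 0 0).natAbs : ℕ) : ℤ) := by
    rw [e]
    refine (abs_add_three _ _ _).trans ?_
    have := add_le_add (add_le_add (hb b le_rfl) (ha a le_rfl)) (Int.natCast_natAbs (f q 0 0)).ge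
    push_cast at this ⊢
    exact this
  refine hAB.trans (Int.ofNat_le.2 ?_)
  rw [Nat.add_sub_cancel]
  rcases Nat.eq_zero_or_pos r with rfl | hr
  · simp
  · obtain ⟨s, rfl⟩ : ∃ s, r = s + 1 := ⟨r - 1, by omega⟩
    simp only [Nat.add_sub_cancel]
    have h1 : (f q 0 0).natAbs ≤ (f q 0 0).natAbs * (a + b + 1) ^ (s + 1) :=
      Nat.le_mul_of_pos_right _ (by positivity)
    have h2 : (b * (D * (s + 1)) + a * (C * (s + 1))) * (a + b + 1) ^ s ≤
        (D * (s + 1) + C * (s + 1)) * (a + b + 1) * (a + b + 1) ^ s := by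
      refine Nat.mul_le_mul_right _ ?_
      rw [add_mul (D * (s + 1)), Nat.mul_comm b, Nat.mul_comm a]
      exact add_le_add (Nat.mul_le_mul_left _ (by omega)) (Nat.mul_le_mul_left _ (by omega))
    calc b * (D * (s + 1) * (a + b + 1) ^ s) + a * (C * (s + 1) * (a + b + 1) ^ s) + (f q 0 0).natAbs
        = (b * (D * (s + 1)) + a * (C * (s + 1))) * (a + b + 1) ^ s + (f q 0 0).natAbs := by ring
      _ ≤ (D * (s + 1) + C * (s + 1)) * (a + b + 1) * (a + b + 1) ^ s +
          (f q 0 0).natAbs * (a + b + 1) ^ (s + 1) := add_le_add h2 h1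
      _ = ((f q 0 0).natAbs + C * (s + 1) + D * (s + 1)) * (a + b + 1) ^ (s + 1) := by ring
      _ ≤ _ := by
        have : ((f q 0 0).natAbs + C * (s + 1) + D * (s + 1)) * 1 ≤
            ((f q 0 0).natAbs + C * (s + 1) + D * (s + 1)) * (s + 1 + 1) := Nat.mul_le_mul_left _ (by omega)
        exact Nat.mul_le_mul_right _ (by rwa [mul_one] at this)

variable (k : Type u) [Field k] {X : Scheme.{u}} [X.Over (Spec (CommRingCat.of k))]
  [IsProper (X ↘ Spec (CommRingCat.of k))]

/-- A representative of a class. -/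
noncomputable def rep (c : PicM X) : X.Modules := (PicM.exists_eq_of c).choose

theorem isInvertible_rep (c : PicM X) : PicF.IsInvertible (rep c) := (PicM.exists_eq_of c).choose_spec.choose

theorem of_rep (c : PicM X) : c = PicM.of (isInvertible_rep c) := (PicM.exists_eq_of c).choose_spec.choose_spec

/-- The dimension of the cohomology of a twist. -/
noncomputable def hdim (F : X.Modules) (q : ℕ) (c : PicM X) : ℤ :=
  (Module.finrank k (Coh.HH X (CohB1.tensorMod F (rep c)) q) : ℤ)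

theorem hdim_eq (F : X.Modules) (q : ℕ) {N : X.Modules} (hN : PicF.IsInvertible N) :
    hdim k F q (PicM.of hN) = (Module.finrank k (Coh.HH X (CohB1.tensorMod F N) q) : ℤ) := by
  obtain ⟨e⟩ := (PicM.of_eq_iff (isInvertible_rep (PicM.of hN)) hN).1 (of_rep _).symm
  rw [hdim, (SerreDual.hmapIso k (tensorIso (Iso.refl F) e) q).finrank_eq]

theorem hdim_congr {F G : X.Modules} (e : F ≅ G) (q : ℕ) (c : PicM X) : hdim k F q c = hdim k G q c := by
  rw [hdim, hdim, (SerreDual.hmapIso k (tensorIso e (Iso.refl (rep c))) q).finrank_eq]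

theorem hdim_tensor (F : X.Modules) {L : X.Modules} (hL : PicF.IsInvertible L) (q : ℕ) (c : PicM X) :
    hdim k (CohB1.tensorMod F L) q c = hdim k F q (PicM.of hL * c) := by
  obtain ⟨e⟩ := exists_assocIso' F hL (isInvertible_rep c)
  rw [hdim, (SerreDual.hmapIso k e q).finrank_eq]
  conv_rhs => rw [of_rep c, PicM.of_mul hL (isInvertible_rep c), hdim_eq]

/-- The cohomology dimensions of the twists by `L₁^a ⊗ L₂^b`. -/
noncomputable def hfun (l₁ l₂ : PicM X) (F : X.Modules) : ℕ → ℕ → ℕ → ℤ :=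
  fun q a b => hdim k F q (l₁ ^ a * l₂ ^ b)

/-- The three inequalities of a long exact sequence. -/
theorem hdim_ses (S : ShortComplex X.Modules) (hS : S.ShortExact)
    (h₁ : Coh.IsCoh S.X₁) (h₂ : Coh.IsCoh S.X₂) (h₃ : Coh.IsCoh S.X₃) (q : ℕ) (c : PicM X) :
    hdim k S.X₂ q c ≤ hdim k S.X₁ q c + hdim k S.X₃ q c ∧
      hdim k S.X₃ q c ≤ hdim k S.X₂ q c + hdim k S.X₁ (q + 1) c ∧
      hdim k S.X₁ (q + 1) c ≤ hdim k S.X₃ q c + hdim k S.X₂ (q + 1) c ∧
      hdim k S.X₁ 0 c ≤ hdim k S.X₂ 0 c := by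
  haveI := EulerLib.isNoetherian_of_proper k (X := X)
  have hS' := twistSeq_shortExact (isInvertible_rep c) hS
  have hfin : ∀ {M : X.Modules}, Coh.IsCoh M → ∀ i, Module.Finite k (HA (baseHom k X) (CohB1.tensorMod M (rep c)) (⊤ : X.Opens) i) :=
    fun {M} hM i => by
      haveI : Module.Finite k (Coh.HH X (CohB1.tensorMod M (rep c)) i) := (finite_HH_iff k _ i).2
        (finCoh_of_isProper (X ↘ Spec (CommRingCat.of k)) _ (isCoh_twist (isInvertible_rep c) hM) i)
      exact Module.Finite.equiv (HHBaseEquiv k _ i)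
  haveI := hfin h₁
  haveI := hfin h₂
  haveI := hfin h₃
  haveI : ∀ i, Module.Finite k (HA (baseHom k X) (twistSeq S (rep c)).X₁ (⊤ : X.Opens) i) := hfin h₁
  haveI : ∀ i, Module.Finite k (HA (baseHom k X) (twistSeq S (rep c)).X₂ (⊤ : X.Opens) i) := hfin h₂
  haveI : ∀ i, Module.Finite k (HA (baseHom k X) (twistSeq S (rep c)).X₃ (⊤ : X.Opens) i) := hfin h₃
  have hd : ∀ (M : X.Modules) i, hdim k M i c =
      (Module.finrank k (HA (baseHom k X) (CohB1.tensorMod M (rep c)) (⊤ : X.Opens) i) : ℤ) := fun M i => by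
    rw [hdim, (HHBaseEquiv k _ i).finrank_eq]
  have ef : ∀ i, Module.finrank k (LinearMap.range (postA (baseHom k X) (twistSeq S (rep c)).f (⊤ : X.Opens) i)) +
      Module.finrank k (LinearMap.ker (postA (baseHom k X) (twistSeq S (rep c)).f (⊤ : X.Opens) i)) = _ :=
    fun i => LinearMap.finrank_range_add_finrank_ker _
  have eg : ∀ i, Module.finrank k (LinearMap.range (postA (baseHom k X) (twistSeq S (rep c)).g (⊤ : X.Opens) i)) +
      Module.finrank k (LinearMap.ker (postA (baseHom k X) (twistSeq S (rep c)).g (⊤ : X.Opens) i)) = _ :=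
    fun i => LinearMap.finrank_range_add_finrank_ker _
  have ed : ∀ i, Module.finrank k (LinearMap.range (deltaA (baseHom k X) hS' (⊤ : X.Opens) i)) +
      Module.finrank k (LinearMap.ker (deltaA (baseHom k X) hS' (⊤ : X.Opens) i)) = _ :=
    fun i => LinearMap.finrank_range_add_finrank_ker _
  have x1 := LinearMap.exact_iff.1 (exact_postA (baseHom k X) hS' (⊤ : X.Opens) q)
  have x2 := LinearMap.exact_iff.1 (exact_postA_deltaA (baseHom k X) hS' (⊤ : X.Opens) q)
  have x3 := LinearMap.exact_iff.1 (exact_deltaA_postA (baseHom k X) hS' (⊤ : X.Opens) q)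
  have x1' := LinearMap.exact_iff.1 (exact_postA (baseHom k X) hS' (⊤ : X.Opens) (q + 1))
  have x0 := LinearMap.finrank_le_finrank_of_injective (postA_zero_injective (baseHom k X) hS' (⊤ : X.Opens))
  have f1 := ef q
  have g1 := eg q
  have d1 := ed q
  have f2 := ef (q + 1)
  have g2 := eg (q + 1)
  rw [x1] at g1
  rw [x2] at d1
  rw [x1'] at g2
  rw [x3] at f2
  refine ⟨?_, ?_, ?_, ?_⟩ <;> rw [hd, hd]
  · rw [hd]
    norm_cast
    change Module.finrank k (HA (baseHom k X) (twistSeq S (rep c)).X₂ _ q) ≤ Module.finrank k (HA (baseHom k X) (twistSeq S (rep c)).X₁ _ q) +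
      Module.finrank k (HA (baseHom k X) (twistSeq S (rep c)).X₃ _ q)
    omega
  · rw [hd]
    norm_cast
    change Module.finrank k (HA (baseHom k X) (twistSeq S (rep c)).X₃ _ q) ≤ Module.finrank k (HA (baseHom k X) (twistSeq S (rep c)).X₂ _ q) +
      Module.finrank k (HA (baseHom k X) (twistSeq S (rep c)).X₁ _ (q + 1))
    omega
  · rw [hd]
    norm_cast
    change Module.finrank k (HA (baseHom k X) (twistSeq S (rep c)).X₁ _ (q + 1)) ≤ Module.finrank k (HA (baseHom k X) (twistSeq S (rep c)).X₃ _ q) +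
      Module.finrank k (HA (baseHom k X) (twistSeq S (rep c)).X₂ _ (q + 1))
    omega
  · exact_mod_cast x0

theorem hdim_nonneg (F : X.Modules) (q : ℕ) (c : PicM X) : 0 ≤ hdim k F q c := Int.natCast_nonneg _

variable (l₁ l₂ : PicM X)

/-- A small submodule or quotient does not matter. -/
theorem hfun_ses {r : ℕ} (S : ShortComplex X.Modules) (hS : S.ShortExact)
    (h₁ : Coh.IsCoh S.X₁) (h₂ : Coh.IsCoh S.X₂) (h₃ : Coh.IsCoh S.X₃) :
    (hfun k l₁ l₂ S.X₁ ∈ bddSub r → hfun k l₁ l₂ S.X₂ - hfun k l₁ l₂ S.X₃ ∈ bddSub r) ∧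
      (hfun k l₁ l₂ S.X₃ ∈ bddSub r → hfun k l₁ l₂ S.X₁ - hfun k l₁ l₂ S.X₂ ∈ bddSub r) := by
  refine ⟨fun h => bddSub_of_abs_le h (shift_mem_bddSub h (· + 1)) fun q a b => ?_,
    fun h => bddSub_of_abs_le h (shift_mem_bddSub h (· - 1)) fun q a b => ?_⟩
  · obtain ⟨e1, e2, -, -⟩ := hdim_ses k S hS h₁ h₂ h₃ q (l₁ ^ a * l₂ ^ b)
    have n1 := hdim_nonneg k S.X₁ q (l₁ ^ a * l₂ ^ b)
    have n2 := hdim_nonneg k S.X₁ (q + 1) (l₁ ^ a * l₂ ^ b)
    simp only [hfun, Pi.sub_apply] at *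
    rw [abs_of_nonneg n1, abs_of_nonneg n2, abs_le]
    constructor <;> linarith
  · simp only [hfun, Pi.sub_apply] at *
    rw [abs_of_nonneg (hdim_nonneg k _ _ _), abs_of_nonneg (hdim_nonneg k _ _ _), abs_le]
    cases q with
    | zero =>
      obtain ⟨e1, -, -, e0⟩ := hdim_ses k S hS h₁ h₂ h₃ 0 (l₁ ^ a * l₂ ^ b)
      have n1 := hdim_nonneg k S.X₃ 0 (l₁ ^ a * l₂ ^ b)
      simp only [Nat.zero_sub]
      constructor <;> linarith
    | succ q =>
      obtain ⟨-, -, e3, -⟩ := hdim_ses k S hS h₁ h₂ h₃ q (l₁ ^ a * l₂ ^ b)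
      obtain ⟨e1, -, -, -⟩ := hdim_ses k S hS h₁ h₂ h₃ (q + 1) (l₁ ^ a * l₂ ^ b)
      have n1 := hdim_nonneg k S.X₃ (q + 1) (l₁ ^ a * l₂ ^ b)
      have n2 := hdim_nonneg k S.X₃ q (l₁ ^ a * l₂ ^ b)
      simp only [Nat.add_sub_cancel]
      constructor <;> linarith

theorem hfun_congr {F G : X.Modules} (e : F ≅ G) : hfun k l₁ l₂ F = hfun k l₁ l₂ G :=
  funext fun q => funext fun a => funext fun b => hdim_congr k e q _

theorem hfun_of_support_empty (F : X.Modules) (h : CohB1.support F = ∅) : hfun k l₁ l₂ F = 0 := by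
  haveI := EulerLib.isNoetherian_of_proper k (X := X)
  funext q a b
  have hz : IsZero (CohB1.tensorMod F (rep (l₁ ^ a * l₂ ^ b))) :=
    ModStalk.isZero_of_stalks fun y => (notMem_support_iff _ y).1 (by
      rw [support_twist (isInvertible_rep _) F, h]
      exact Set.notMem_empty y)
  haveI : Subsingleton (Coh.HH X (CohB1.tensorMod F (rep (l₁ ^ a * l₂ ^ b))) q) := EulerLib.subsingleton_HH_of_isZero hz q
  show (Module.finrank k _ : ℤ) = 0
  rw [Module.finrank_zero_of_subsingleton]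
  rfl

/-- **Cohomology of twists grows no faster than the dimension of the support.** -/
theorem hfun_mem_bddSub : ∀ (r : ℕ) (F : X.Modules), Coh.IsCoh F →
    topologicalKrullDim (CohB1.support F) < r → hfun k l₁ l₂ F ∈ bddSub r := by
  haveI := EulerLib.isNoetherian_of_proper (X := X) k
  intro r
  induction r with
  | zero =>
    intro F hF hr
    rw [hfun_of_support_empty k l₁ l₂ F (Set.eq_empty_iff_forall_notMem.2 fun y hy => by
      haveI : Nonempty (IrreducibleCloseds (CohB1.support F)) :=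
        ⟨⟨closure {⟨y, hy⟩}, isIrreducible_singleton.closure, isClosed_closure⟩⟩
      exact not_le.2 hr (Order.krullDim_nonneg))]
    exact zero_mem _
  | succ r ih =>
    intro F hF hr
    let K : X.Modules → Prop := fun M => hfun k l₁ l₂ M ∈ bddSub (r + 1)
    have hK : DevClass K :=
      { iso := fun e h => by
          show hfun k l₁ l₂ _ ∈ bddSub _
          rw [← hfun_congr k l₁ l₂ e]
          exact h
        zero := fun M hM => by
          show hfun k l₁ l₂ _ ∈ bddSub _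
          rw [hfun_of_support_empty k l₁ l₂ M (Set.subset_empty_iff.1 (support_of_isZero hM ∅))]
          exact zero_mem _
        ses := fun S hS h₁ h₂ h₃ => by
          have e := hfun_ses k l₁ l₂ (r := r + 1) S hS h₁ h₂ h₃
          refine ⟨fun a b => ?_, fun a b => ?_, fun a b => ?_⟩ <;> show hfun k l₁ l₂ _ ∈ bddSub _
          · simpa using sub_mem b (e.1 a)
          · simpa using add_mem (e.1 a) b
          · simpa using add_mem (e.2 b) a }
    have hcl : IsClosed (CohB1.support F) := isClosed_support F (locallyFinGen_of_isFT F hF.2)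
    refine mem_of_support hK.toExt (CohB1.support F) (fun Z hZ hZi hZX y hy Z₀ hZ₀ hsm => ?_)
      ⟨_, hcl⟩ subset_rfl F hF subset_rfl
    have hdim' : topologicalKrullDim Z ≤ (r : ℕ) := by
      refine (dim_mono hZX).trans ?_
      generalize topologicalKrullDim (CohB1.support F) = a at hr
      match a with
      | ⊥ => exact bot_le
      | (a : ℕ∞) =>
        rw [Nat.cast_succ] at hr
        exact WithBot.coe_le_coe.2 (ENat.lt_natCast_add_one_iff.1 (WithBot.coe_lt_coe.1 hr))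
    have hG : Coh.IsCoh (clM y) := isCoh_clM y
    have hGZ : CohB1.support (clM y) ⊆ Z := hy ▸ support_clM_subset y
    have hsmall : ∀ M : X.Modules, Coh.IsCoh M → CohB1.support M ⊆ Z → y ∉ CohB1.support M →
        hfun k l₁ l₂ M ∈ bddSub r := fun M hM hMZ hyM =>
      ih M hM (dim_lt_of_notMem (isClosed_support M (locallyFinGen_of_isFT M hM.2)) hMZ hZ hy hyM hdim')
    have hstep : ∀ (l : PicM X), (fun q a b => hdim k (clM y) q (l * (l₁ ^ a * l₂ ^ b))) -
        hfun k l₁ l₂ (clM y) ∈ bddSub r := by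
      intro l
      obtain ⟨L, hL, rfl⟩ := PicM.exists_eq_of l
      obtain ⟨W, hyW, g, hg⟩ := exists_isGen hL y
      let ψ : X.Modules → (ℕ → ℕ → ℕ → ℤ) ⧸ bddSub r := fun M => QuotientAddGroup.mk (hfun k l₁ l₂ M)
      have h := eq_of_stalk_iso (ψ := ψ) (y := y) (Z := Z)
        (fun S hS h₁ h₂ h₃ hsZ hyS => QuotientAddGroup.eq_iff_sub_mem.2
          ((hfun_ses k l₁ l₂ S hS h₁ h₂ h₃).1 (hsmall _ h₁ hsZ hyS)))
        (fun S hS h₁ h₂ h₃ hsZ hyS => QuotientAddGroup.eq_iff_sub_mem.2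
          ((hfun_ses k l₁ l₂ S hS h₁ h₂ h₃).2 (hsmall _ h₃ hsZ hyS)))
        (isCoh_twist hL hG) hG ((support_twist hL _).le.trans hGZ) hGZ (twistStalkIso hyW hg (clM y)).symm (k := 1)
        (killed_clM y)
      convert QuotientAddGroup.eq_iff_sub_mem.1 h using 1
      funext q a b
      simp only [Pi.sub_apply, hfun]
      rw [hdim_tensor k _ hL]
    refine oneK_of_length_one hK hsm hG ?_ (hGZ.trans hZ₀) (length_stalk_clM y)
    refine succ_mem_bddSub ?_ ?_
    · convert hstep l₁ using 1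
      funext q a b
      simp only [Pi.sub_apply, hfun, pow_succ]
      congr 2
      ac_rfl
    · convert hstep l₂ using 1
      funext q a b
      simp only [Pi.sub_apply, hfun, pow_succ]
      congr 2
      ac_rfl

theorem killed_genericPoint [IsIntegral X] (G : X.Modules) : Coherent.Killed (genericPoint X) 1 G := by
  intro r hr a
  rw [pow_one] at hr
  letI : Field (X.presheaf.stalk (genericPoint X)) := inferInstanceAs (Field X.functionField)
  rw [IsLocalRing.maximalIdeal_eq_bot, Ideal.mem_bot] at hr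
  rw [hr, zero_smul]

/-- **Twists of modules with isomorphic generic stalks have cohomology agreeing to leading order.** -/
theorem hfun_sub_mem_of_stalk_iso [IsIntegral X] {g : ℕ} (hg : topologicalKrullDim X = g) {F G : X.Modules}
    (hF : Coh.IsCoh F) (hG : Coh.IsCoh G)
    (e : (DerSch.stalkFunctor X (genericPoint X)).obj F ≅ (DerSch.stalkFunctor X (genericPoint X)).obj G) :
    hfun k l₁ l₂ F - hfun k l₁ l₂ G ∈ bddSub g := by
  haveI := EulerLib.isNoetherian_of_proper (X := X) k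
  have hsmall : ∀ M : X.Modules, Coh.IsCoh M → CohB1.support M ⊆ Set.univ → genericPoint X ∉ CohB1.support M →
      hfun k l₁ l₂ M ∈ bddSub g := fun M hM hMZ hyM =>
    hfun_mem_bddSub k l₁ l₂ g M hM (dim_lt_of_notMem (isClosed_support M (locallyFinGen_of_isFT M hM.2)) hMZ
      isClosed_univ (genericPoint_closure X) hyM
      ((Topology.IsInducing.subtypeVal.topologicalKrullDim_le).trans hg.le))
  let ψ : X.Modules → (ℕ → ℕ → ℕ → ℤ) ⧸ bddSub g := fun M => QuotientAddGroup.mk (hfun k l₁ l₂ M)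
  have h := eq_of_stalk_iso (ψ := ψ) (y := genericPoint X) (Z := Set.univ)
    (fun S hS h₁ h₂ h₃ hsZ hyS => QuotientAddGroup.eq_iff_sub_mem.2
      ((hfun_ses k l₁ l₂ S hS h₁ h₂ h₃).1 (hsmall _ h₁ hsZ hyS)))
    (fun S hS h₁ h₂ h₃ hsZ hyS => QuotientAddGroup.eq_iff_sub_mem.2
      ((hfun_ses k l₁ l₂ S hS h₁ h₂ h₃).2 (hsmall _ h₃ hsZ hyS)))
    hF hG (Set.subset_univ _) (Set.subset_univ _) e (k := 1) (killed_genericPoint G)
  exact QuotientAddGroup.eq_iff_sub_mem.1 h

end Groth.Agent.AbCohLib
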