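import Groth.Agent.AbCohLib.IndexRootsField
import Groth.Agent.AmpleLib.Relative2
import Groth.Agent.SerreDual.PushEquiv
import Groth.Agent.Coherent.ProjFormula

/-!
# The index is subadditive
-/

set_option autoImplicit false
set_option linter.style.haveILetI false
set_option linter.unusedSectionVars false
set_option backward.isDefEq.respectTransparency.types false
set_option maxHeartbeats 1600000

universe u

open CategoryTheory CategoryTheory.Limits MonoidalCategory CartesianMonoidalCategory MonObj GrpObj AlgebraicGeometry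
  Opposite TopologicalSpace
open Groth.Agent Groth.Agent.Coherent Groth.Agent.PicLib Groth.Agent.AbCubeLib Groth.Agent.AmpleLib
  Groth.Agent.EulerLib Groth.Agent.S17505

namespace Groth.Agent.AbCohLib

/-- A box product vanishes in a degree if all the corner terms of that degree do. -/
theorem subsingleton_boxM_of_diag {k : Type u} [Field k] (X Y : Over (Spec (CommRingCat.of k))) [IsProper X.hom]
    [IsProper Y.hom] (M : X.left.Modules) (L : Y.left.Modules) (hM : PicF.IsInvertible M) (hL : PicF.IsInvertible L)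
    (n : ℕ) (h : ∀ i j : ℕ, i + j = n → Subsingleton (Coh.HH X.left M i) ∨ Subsingleton (Coh.HH Y.left L j)) :
    Subsingleton (Coh.HH (pullback X.hom Y.hom) (boxM X Y M L) n) := by
  obtain ⟨H, E, A, hfin, hz, hH⟩ := exists_boxSS X Y M L hM hL
  have cp : SpecSeq.ClassPair
      (C := Sheaf (Opens.grothendieckTopology (Spec (CommRingCat.of k)).toTopCat) AddCommGrpCat.{u})
      IsZero (fun _ => True) :=
    { le := fun _ _ => trivial
      isoP := fun e h => h.of_iso e.symm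
      isoQ := fun _ _ => trivial
      zeroP := fun _ h => h
      kerP := fun φ h _ => IsZero.of_mono (kernel.ι φ) h
      cokerP := fun φ _ h => IsZero.of_epi (cokernel.π φ) h
      kerQ := fun _ _ _ => trivial
      cokerQ := fun _ _ _ => trivial
      extP := fun S hS h1 h3 => hS.exact.isZero_of_both_zeros (h1.eq_of_src _ _) (h3.eq_of_tgt _ _) }
  refine (hH n).1 (SpecSeq.mem_of_abutment cp E A n (hfin _) (fun _ => trivial) fun p => (hz _ _).2 fun hp hq => ?_)
  exact h _ _ (by omega)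

/-- Box products of ample modules are ample. -/
theorem isAmple_boxM {k : Type u} [Field k] (X Y : Over (Spec (CommRingCat.of k))) [IsProper X.hom]
    [IsProper Y.hom] {H₁ : X.left.Modules} {H₂ : Y.left.Modules} (h₁ : CohB1.IsAmple H₁) (h₂ : CohB1.IsAmple H₂) :
    CohB1.IsAmple (boxM X Y H₁ H₂) := by
  let p := pullback.fst X.hom Y.hom
  let q := pullback.snd X.hom Y.hom
  haveI : CompactSpace (pullback X.hom Y.hom : Scheme.{u}) :=
    QuasiCompact.compactSpace_of_compactSpace (pullback.fst X.hom Y.hom ≫ X.hom)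
  refine isAmple_tensor_of_joint (PicLoc.isInvertible_pullback p h₁.1) (PicLoc.isInvertible_pullback q h₂.1) fun z => ?_
  obtain ⟨m, hm, b, hb, -, hA⟩ := (isAmple_iff_affGlocus.1 h₁).2.2 (p z)
  obtain ⟨n, hn, c, hc, -, hB⟩ := (isAmple_iff_affGlocus.1 h₂).2.2 (q z)
  obtain ⟨eb, -⟩ := exists_pullPowIso p h₁.1 m
  obtain ⟨ec, -⟩ := exists_pullPowIso q h₂.1 n
  refine ⟨m, hm, n, hn, eb.hom.app ⊤ (pullSec p b), ec.hom.app ⊤ (pullSec q c), ?_⟩
  rw [glocus_map_iso, glocus_map_iso, glocus_pullSec p (isInvertible_tensorPow h₁.1 m),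
    glocus_pullSec q (isInvertible_tensorPow h₂.1 n)]
  exact ⟨⟨hb, hc⟩, isAffineOpen_fst_inf_snd X.hom Y.hom (isAffineOpen_top _) hA hB le_top le_top⟩

variable {k : Type u} [Field k] [IsAlgClosed k] {A : Over (Spec (CommRingCat.of k))} [GrpObj A] [IsProper A.hom]
  [GeometricallyIntegral A.hom]

/-- High powers absorb a fixed twist. -/
theorem exists_index_twist {g : ℕ} (hg : topologicalKrullDim A.left = g) {c c' u u' : PicM A.left}
    (hc : c * c' = 1) (hu : u * u' = 1) (hne : eul k A c ≠ 0) {i : ℕ} (hi : IsIdx A c i) :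
    ∀ e : ℕ, ∃ N : ℕ, ∀ n, N ≤ n → IsIdx A (c ^ n * u ^ e) i := by
  classical
  let l := c * u
  have hl : l * (c' * u') = 1 := by
    calc c * u * (c' * u') = c * c' * (u * u') := by ac_rfl
      _ = 1 := by rw [hc, hu, _root_.one_mul]
  have hh : u' * u = 1 := (_root_.mul_comm u' u).trans hu
  obtain ⟨Φ, -, hΦ⟩ := exists_ray_poly hg (h := u') hl hh
  have hinv : ∀ a b : ℕ, l ^ a * u' ^ b * ((c' * u') ^ a * u ^ b) = 1 := fun a b => by
    calc l ^ a * u' ^ b * ((c' * u') ^ a * u ^ b) = (l * (c' * u')) ^ a * (u' * u) ^ b := by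
          rw [mul_pow l, mul_pow u']; ac_rfl
      _ = 1 := by rw [hl, hh, one_pow, one_pow, _root_.one_mul]
  have hsplit : ∀ n e : ℕ, e ≤ n → l ^ n * u' ^ (n - e) = c ^ n * u ^ e := fun n e he => by
    calc (c * u) ^ n * u' ^ (n - e) = c ^ n * (u ^ (e + (n - e)) * u' ^ (n - e)) := by
          rw [mul_pow, Nat.add_sub_cancel' he]; ac_rfl
      _ = c ^ n * u ^ e * (u * u') ^ (n - e) := by rw [pow_add, mul_pow]; ac_rfl
      _ = _ := by rw [hu, one_pow, _root_.mul_one]
  let P := Φ.map (algebraMap ℚ ℝ)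
  have h1 : P.eval 1 ≠ 0 := by
    intro h0
    have h2 := hΦ 1 1 one_pos
    have h3 := hsplit 1 0 (by omega)
    rw [Nat.sub_zero, pow_zero, _root_.mul_one, pow_one c] at h3
    rw [h3, Nat.cast_one, div_one, h0, mul_zero, Int.cast_eq_zero] at h2
    exact hne h2
  obtain ⟨ε, hε, hball⟩ := Metric.isOpen_iff.1
    (isOpen_ne_fun (Polynomial.continuous P) continuous_const) (1 : ℝ) h1
  obtain ⟨M, hM⟩ := exists_nat_gt (1 / ε)
  intro e
  refine ⟨M * e + e + 1, fun n hn => ?_⟩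
  have hn0 : 0 < n := by omega
  have hen : e ≤ n := by omega
  have hnR : (0 : ℝ) < n := Nat.cast_pos.2 hn0
  have hlow : ∀ t : ℝ, ((n - e : ℕ) : ℝ) / n ≤ t → t ≤ ((1 : ℕ) : ℝ) / ((1 : ℕ) : ℝ) → P.eval t ≠ 0 := by
    intro t t1 t2
    refine hball ?_
    rw [Nat.cast_one, div_one] at t2
    rw [Metric.mem_ball, Real.dist_eq, abs_of_nonpos (by linarith)]
    rw [Nat.cast_sub hen, sub_div, div_self hnR.ne'] at t1
    have h2 : (e : ℝ) / n < ε := by
      rw [div_lt_iff₀ hnR]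
      rw [div_lt_iff₀ hε] at hM
      have h3 : ((M * e + e + 1 : ℕ) : ℝ) ≤ n := Nat.cast_le.2 hn
      push_cast at h3
      nlinarith [(Nat.cast_nonneg e : (0 : ℝ) ≤ e), (Nat.cast_nonneg M : (0 : ℝ) ≤ M)]
    linarith
  have hne' : eul k A (l ^ n * u' ^ (n - e)) ≠ 0 := by
    intro h0
    have h2 := hΦ n (n - e) hn0
    rw [h0, Int.cast_zero] at h2
    rcases mul_eq_zero.1 h2.symm with h5 | h5
    · exact pow_ne_zero _ hnR.ne' h5
    · exact hlow _ le_rfl (by
        rw [Nat.cast_one, div_one, div_le_one hnR]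
        exact_mod_cast Nat.sub_le n e) h5
  obtain ⟨j, -, hj⟩ := exists_isIdx hg (hinv n (n - e)) hne'
  have hic : IsIdx A (l ^ 1 * u' ^ 1) i := by
    have h3 := hsplit 1 0 (by omega)
    rw [Nat.sub_zero, pow_zero, _root_.mul_one, pow_one c] at h3
    rwa [h3]
  have := index_eq_of_no_root hg hl hh hΦ hn0 one_pos (by simp) hlow hj hic
  rw [← hsplit n e hen]
  exact this ▸ hj

/-- **The index is subadditive.** -/
theorem IsIdx.le_add {g : ℕ} (hg : topologicalKrullDim A.left = g) {c₁ c₁' c₂ c₂' : PicM A.left}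
    (hc₁ : c₁ * c₁' = 1) (hc₂ : c₂ * c₂' = 1) (hn₁ : eul k A c₁ ≠ 0) (hn₂ : eul k A c₂ ≠ 0)
    (hn : eul k A (c₁ * c₂) ≠ 0) {i₁ i₂ i : ℕ} (hi₁ : IsIdx A c₁ i₁) (hi₂ : IsIdx A c₂ i₂)
    (hi : IsIdx A (c₁ * c₂) i) : i ≤ i₁ + i₂ := by
  classical
  by_contra hlt
  push Not at hlt
  obtain ⟨H, -, hH⟩ := AbCubeLib.exists_ample (A := A)
  obtain ⟨hu', hhu⟩ := exists_inverse hH.1
  letI : A.left.Over (Spec (CommRingCat.of k)) := ⟨A.hom⟩
  haveI : IsProper (A.left ↘ Spec (CommRingCat.of k)) := ‹IsProper A.hom›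
  let W := pullback A.hom A.hom
  letI : W.Over (Spec (CommRingCat.of k)) := ⟨pullback.fst A.hom A.hom ≫ A.hom⟩
  haveI : IsProper (W ↘ Spec (CommRingCat.of k)) := inferInstanceAs (IsProper (pullback.fst A.hom A.hom ≫ A.hom))
  haveI := EulerLib.isNoetherian_of_proper (X := W) k
  haveI := EulerLib.isNoetherian_of_proper (X := A.left) k
  let p := pullback.fst A.hom A.hom
  let q := pullback.snd A.hom A.hom
  have hB := isAmple_boxM A A hH hH
  have hBof : PicM.of hB.1 = PicM.pull p (PicM.of hH.1) * PicM.pull q (PicM.of hH.1) := by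
    rw [PicM.pull_of, PicM.pull_of, PicM.of_mul (PicLoc.isInvertible_pullback p hH.1)
      (PicLoc.isInvertible_pullback q hH.1)]
  let mb := PicM.pull p c₁ * PicM.pull q c₂
  let ub := PicM.pull p hu' * PicM.pull q hu'
  have hub : PicM.of hB.1 * ub = 1 := by
    rw [hBof]
    calc _ = PicM.pull p (PicM.of hH.1 * hu') * PicM.pull q (PicM.of hH.1 * hu') := by
          simp only [ub, map_mul]; ac_rfl
      _ = 1 := by rw [hhu, map_one, map_one, _root_.one_mul]
  obtain ⟨d, hd⟩ : ∃ d : ℕ, topologicalKrullDim (W : Scheme.{u}) ≤ d := by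
    obtain ⟨d, hd⟩ := EulerLib.exists_dim_le (X := W) k Set.univ
    exact ⟨d, ((IsHomeomorph.topologicalKrullDim_eq _ (Homeomorph.Set.univ _).isHomeomorph)).symm.le.trans hd⟩
  have hu : hu' * PicM.of hH.1 = 1 := (_root_.mul_comm _ _).trans hhu
  have hO : ∀ e r, i₁ + i₂ < r → ∃ N, ∀ n, N ≤ n →
      hdim k (Coh.structureModule (W : Scheme.{u})) r (mb ^ n * ub ^ e) = 0 := by
    intro e r hr
    obtain ⟨N₁, hN₁⟩ := exists_index_twist hg hc₁ hu hn₁ hi₁ e
    obtain ⟨N₂, hN₂⟩ := exists_index_twist hg hc₂ hu hn₂ hi₂ e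
    refine ⟨max N₁ N₂, fun n hn => ?_⟩
    obtain ⟨L₁, hL₁, e₁⟩ := PicM.exists_eq_of (c₁ ^ n * hu' ^ e)
    obtain ⟨L₂, hL₂, e₂⟩ := PicM.exists_eq_of (c₂ ^ n * hu' ^ e)
    have h1 := hN₁ n (le_of_max_le_left hn)
    have h2 := hN₂ n (le_of_max_le_right hn)
    rw [e₁] at h1
    rw [e₂] at h2
    have hbox := AmpleLib.isInvertible_tensorMod (PicLoc.isInvertible_pullback p hL₁) (PicLoc.isInvertible_pullback q hL₂)
    have hcl : mb ^ n * ub ^ e = PicM.of hbox := by
      rw [← PicM.of_mul (PicLoc.isInvertible_pullback p hL₁) (PicLoc.isInvertible_pullback q hL₂),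
        ← PicM.pull_of p hL₁, ← PicM.pull_of q hL₂, ← e₁, ← e₂]
      simp only [mb, ub, map_mul, map_pow, mul_pow]
      ac_rfl
    have hsub := subsingleton_boxM_of_diag A A L₁ L₂ hL₁ hL₂ r fun a b hab => by
      rcases eq_or_ne a i₁ with rfl | ha
      · exact Or.inr ((hcl_eq_zero_iff b hL₂).1 (by rw [h2 b, if_neg (by omega)]))
      · exact Or.inl ((hcl_eq_zero_iff a hL₁).1 (by rw [h1 a, if_neg ha]))
    rw [hcl, hdim_eq k _ _ hbox]
    haveI : Subsingleton (Coh.HH (W : Scheme.{u}) (CohB1.tensorMod (Coh.structureModule (W : Scheme.{u})) (boxM A A L₁ L₂)) r) :=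
      FlatMorStrat.subsingleton_HH_of_iso (unitTensorIso (boxM A A L₁ L₂)).symm r hsub
    rw [Module.finrank_zero_of_subsingleton]
    rfl
  -- restrict to the diagonal
  let δ : A.left ⟶ W := pullback.lift (𝟙 _) (𝟙 _) rfl
  have hδ : δ ≫ (W ↘ Spec (CommRingCat.of k)) = A.left ↘ Spec (CommRingCat.of k) := by
    show pullback.lift (𝟙 A.left) (𝟙 A.left) rfl ≫ pullback.fst A.hom A.hom ≫ A.hom = A.hom
    rw [pullback.lift_fst_assoc, Category.id_comp]
  haveI : IsClosedImmersion δ := by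
    haveI : IsClosedImmersion (δ ≫ p) := by rw [pullback.lift_fst]; infer_instance
    exact IsClosedImmersion.of_comp δ p
  have hOA : Coh.IsCoh (Coh.structureModule A.left) := Coherent.isCoh_structureModule _
  obtain ⟨N, hN⟩ := exists_hdim_eq_zero k hB mb ub hub (i₁ + i₂) hd hO _ (isCoh_push_finite δ hOA) i hlt 0
  let n := N + 1
  have h0 := hN n (Nat.le_succ N)
  rw [pow_zero, _root_.mul_one] at h0
  obtain ⟨B, hBi, eB⟩ := PicM.exists_eq_of (mb ^ n)
  rw [eB, hdim_eq k _ _ hBi] at h0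
  have hB' := PicLoc.isInvertible_pullback δ hBi
  haveI : Coh.IsQCoh ((Scheme.Modules.pullback δ).obj B) := isQCoh_of_isInvertible hB'
  haveI := isIso_projHom (f := δ) (Coherent.isFinLocFree_of_invertible hBi) (Coh.structureModule A.left)
  let eP : CohB1.tensorMod ((Coh.push δ).obj (Coh.structureModule A.left)) B ≅
      (Coh.push δ).obj ((Scheme.Modules.pullback δ).obj B) :=
    AmpleLib.tensorComm _ _ ≪≫ asIso (projHom δ B (Coh.structureModule A.left)) ≪≫
      (Scheme.Modules.pushforward δ).mapIso (AmpleLib.tensorComm _ _ ≪≫ unitTensorIso _)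
  rw [(SerreDual.hmapIso k eP i).finrank_eq, ← (SerreDual.hpush δ k hδ _ i).finrank_eq, ← hcl_eq_finrank i hB',
    ← PicM.pull_of δ hBi, ← eB] at h0
  have hmb : PicM.pull δ (mb ^ n) = (c₁ * c₂) ^ n := by
    simp only [mb, map_pow, map_mul, PicM.pull_pull]
    rw [show δ ≫ p = 𝟙 _ from pullback.lift_fst _ _ _, show δ ≫ q = 𝟙 _ from pullback.lift_snd _ _ _,
      PicM.pull_id, PicM.pull_id]
  rw [hmb] at h0
  have hc : c₁ * c₂ * (c₁' * c₂') = 1 := by
    calc c₁ * c₂ * (c₁' * c₂') = c₁ * c₁' * (c₂ * c₂') := by ac_rfl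
      _ = 1 := by rw [hc₁, hc₂, _root_.one_mul]
  obtain ⟨I, hI⟩ := exists_index_pow hg hc hn
  have h1 := hI 1 one_pos
  rw [pow_one] at h1
  obtain rfl := hi.unique hn h1
  rw [hI n (Nat.succ_pos _) i, if_pos rfl, abs_eq_zero, eul_pow hg hc] at h0
  exact mul_ne_zero (pow_ne_zero _ (by exact_mod_cast (Nat.succ_ne_zero N))) hn h0

end Groth.Agent.AbCohLib
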