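import Groth.Agent.AbCohLib.IndexPow

/-!
# Index of powers of modules
-/

set_option autoImplicit false
set_option linter.style.haveILetI false
set_option linter.unusedSectionVars false
set_option backward.isDefEq.respectTransparency.types false
set_option maxHeartbeats 1600000

universe u

open CategoryTheory CategoryTheory.Limits MonoidalCategory CartesianMonoidalCategory MonObj GrpObj AlgebraicGeometry
  Opposite TopologicalSpace
open Groth.Agent Groth.Agent.Coherent Groth.Agent.PicLib Groth.Agent.AbCubeLib Groth.Agent.AmpleLib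
  Groth.Agent.EulerLib Groth.Agent.S17505

namespace Groth.Agent.AbCohLib

variable {k : Type u} [Field k] {A : Over (Spec (CommRingCat.of k))} [GrpObj A] [IsProper A.hom]
  [GeometricallyIntegral A.hom]

theorem exists_inverse {L : A.left.Modules} (hL : PicF.IsInvertible L) :
    ∃ m' : PicM A.left, PicM.of hL * m' = 1 := PicM.exists_mul_eq_one _

/-- A module with cohomology in one degree only has nonzero Euler characteristic. -/
theorem eul_ne_zero_of_concentrated {L : A.left.Modules} (hL : PicF.IsInvertible L) {i : ℕ}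
    (hvan : ∀ j : ℕ, j ≠ i → Subsingleton (Coh.HH A.left L j)) (hne : Nontrivial (Coh.HH A.left L i)) :
    eul k A (PicM.of hL) ≠ 0 := by
  letI : A.left.Over (Spec (CommRingCat.of k)) := ⟨A.hom⟩
  haveI : IsProper (A.left ↘ Spec (CommRingCat.of k)) := ‹IsProper A.hom›
  haveI := EulerLib.isNoetherian_of_proper (X := A.left) k
  have h0 : hcl A i (PicM.of hL) ≠ 0 := fun h =>
    not_subsingleton_iff_nontrivial.2 hne ((hcl_eq_zero_iff i hL).1 h)
  rw [eul_of hL, EulerLib.euler_eq_sum k A.left L i (fun j hj => hvan j (by omega)),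
    Finset.sum_eq_single_of_mem i (Finset.mem_range.2 (by omega)) (fun j _ hj => by
      haveI := hvan j hj
      rw [Module.finrank_zero_of_subsingleton]; simp)]
  rw [hcl_eq_finrank i hL] at h0
  exact mul_ne_zero (pow_ne_zero _ (by norm_num)) h0

theorem IsIdx.concentrated {L : A.left.Modules} (hL : PicF.IsInvertible L) {I : ℕ}
    (h : IsIdx A (PicM.of hL) I) (hne : eul k A (PicM.of hL) ≠ 0) :
    (∀ j : ℕ, j ≠ I → Subsingleton (Coh.HH A.left L j)) ∧ Nontrivial (Coh.HH A.left L I) := by
  refine ⟨fun j hj => (hcl_eq_zero_iff j hL).1 (by rw [h j, if_neg hj]), ?_⟩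
  rw [← not_subsingleton_iff_nontrivial]
  intro hs
  have h1 := (hcl_eq_zero_iff I hL).2 hs
  rw [h I, if_pos rfl, abs_eq_zero] at h1
  exact hne h1

variable [IsAlgClosed k]

/-- **Powers have the same index.** -/
theorem concentrated_tensorPow {L : A.left.Modules} (hL : PicF.IsInvertible L) {i : ℕ}
    (hvan : ∀ j : ℕ, j ≠ i → Subsingleton (Coh.HH A.left L j)) (hne : Nontrivial (Coh.HH A.left L i))
    {a : ℕ} (ha : 0 < a) :
    (∀ j : ℕ, j ≠ i → Subsingleton (Coh.HH A.left (CohB1.tensorPow L a) j)) ∧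
      Nontrivial (Coh.HH A.left (CohB1.tensorPow L a) i) := by
  obtain ⟨g, hg⟩ := AbCubeLib.exists_dim_eq A
  obtain ⟨m', hm'⟩ := exists_inverse hL
  have hne' := eul_ne_zero_of_concentrated hL hvan hne
  obtain ⟨I, hI⟩ := exists_index_pow hg hm' hne'
  have h1 := hI 1 one_pos
  rw [pow_one] at h1
  obtain ⟨hvI, hnI⟩ := h1.concentrated hL hne'
  obtain rfl : i = I := by
    by_contra h
    exact not_subsingleton_iff_nontrivial.2 hne (hvI i h)
  have ha' := hI a ha
  rw [← PicM.of_tensorPow hL] at ha'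
  refine ha'.concentrated (isInvertible_tensorPow hL a) ?_
  rw [PicM.of_tensorPow hL]
  have h := eul_pow_mul hg hm' a 0
  rw [pow_zero, _root_.mul_one] at h
  rw [h]
  exact mul_ne_zero (pow_ne_zero _ (by exact_mod_cast ha.ne')) hne'

/-- **Non-degenerate modules: vanishing in each degree is unchanged by powers.** -/
theorem subsingleton_tensorPow_iff {L : A.left.Modules} (hL : PicF.IsInvertible L)
    (hfin : Set.Finite {x : 𝟙_ (Over (Spec (CommRingCat.of k))) ⟶ A |
      Nonempty ((Scheme.Modules.pullback (𝟙 A * (toUnit A ≫ x)).left).obj L ≅ L)})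
    {a : ℕ} (ha : 0 < a) (j : ℕ) :
    Subsingleton (Coh.HH A.left L j) ↔ Subsingleton (Coh.HH A.left (CohB1.tensorPow L a) j) := by
  obtain ⟨g, hg⟩ := AbCubeLib.exists_dim_eq A
  obtain ⟨m', hm'⟩ := exists_inverse hL
  obtain ⟨L', hL', rfl⟩ := PicM.exists_eq_of m'
  obtain ⟨i, hi, hvan, hne⟩ := exists_index hL hL' hm' hfin hg
  obtain ⟨hv, hn⟩ := concentrated_tensorPow hL hvan hne ha
  rcases eq_or_ne j i with rfl | h
  · exact ⟨fun h => absurd h (not_subsingleton_iff_nontrivial.2 hne),
      fun h => absurd h (not_subsingleton_iff_nontrivial.2 hn)⟩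
  · exact ⟨fun _ => hv j h, fun _ => hvan j h⟩

end Groth.Agent.AbCohLib
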