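import Groth.Agent.AbCohLib.Local
import Groth.Agent.AbCohLib.FibreAt
import Groth.Agent.AbCohLib.Setup
import Groth.Agent.AbDualLib.Universal
import Groth.Agent.AbDualLib.Points
import Groth.Agent.AbDualLib.Translation
import Groth.Agent.AbDualLib.DegreeDual

/-!
# The given Poincaré class of a dual abelian variety satisfies the hypotheses of Mumford's computation
-/

set_option autoImplicit false
set_option linter.style.haveILetI false
set_option backward.isDefEq.respectTransparency.types false
set_option maxHeartbeats 1600000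

universe u

open CategoryTheory CategoryTheory.Limits MonoidalCategory CartesianMonoidalCategory MonObj GrpObj AlgebraicGeometry
open Groth.Agent Groth.Agent.PicLib Groth.Agent.AbCubeLib Groth.Agent.AbDualLib

namespace Groth.Agent.AbCohLib

variable {k : Type u} [Field k] {A At : Over (Spec (CommRingCat.of k))}
  [GrpObj A] [IsProper A.hom] [Smooth A.hom] [GeometricallyConnected A.hom]
  [GrpObj At] [IsProper At.hom] [Smooth At.hom] [GeometricallyConnected At.hom]
  {φ : ∀ T : Over (Spec (CommRingCat.of k)), PicF.Cl (PicF.XT A.hom T) → (T ⟶ At)}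

/-- The swapped module. -/
noncomputable abbrev swapP (P : (A ⊗ At).left.Modules) : (At ⊗ A).left.Modules :=
  (Scheme.Modules.pullback (lift (snd At A) (fst At A)).left).obj P

section

variable (hφ : AbDual.IsDualAV Scheme.fppfPrecoverage A At φ) {P : (A ⊗ At).left.Modules}
  (hP : PicF.IsInvertible P) (hPξ : AbDual.IsPoincareCl A At φ (PicF.cl P))
include hφ hP hPξ

/-- Points of the dual as classes. -/
theorem point_class {T : Over (Spec (CommRingCat.of k))} (t : T ⟶ At) :
    AbDual.IsPicZeroCl A.hom T (ev (PicM.of hP) (fst A T) (snd A T ≫ t)).val ∧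
      φ T (ev (PicM.of hP) (fst A T) (snd A T ≫ t)).val = t ∧
      PicM.pull (lift (1 : T ⟶ A) (𝟙 T)).left (ev (PicM.of hP) (fst A T) (snd A T ≫ t)) = 1 := by
  obtain ⟨h0, hid, htriv⟩ := hPξ
  refine poincare_point hφ (P := PicM.of hP) h0 hid ?_ t
  have hs : PicF.secT A.hom η[A].left (Over.w η[A]) At = (lift (1 : At ⟶ A) (𝟙 At)).left := by
    refine RigDesc27.hom_ext_XT ?_ ?_
    · rw [RigDesc27.secT_fst]
      show At.hom ≫ η[A].left = (lift (1 : At ⟶ A) (𝟙 At)).left ≫ (fst A At).left
      rw [← Over.comp_left, lift_fst, show (1 : At ⟶ A) = toUnit At ≫ η[A] from rfl, Over.comp_left]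
      exact congrArg (· ≫ η[A].left) ((Category.comp_id _).symm.trans (Over.w (toUnit At))).symm
    · rw [RigDesc27.secT_proj]
      show 𝟙 At.left = (lift (1 : At ⟶ A) (𝟙 At)).left ≫ (snd A At).left
      rw [← Over.comp_left, lift_snd]; rfl
  show PicM.pull (lift (1 : At ⟶ A) (𝟙 At)).left (PicM.of hP) = 1
  rw [← hs]
  exact PicM.ext htriv

/-- Only the trivial point has trivial class. -/
theorem eq_one_of_class {T : Over (Spec (CommRingCat.of k))} (t : T ⟶ At)
    (h : ev (PicM.of hP) (fst A T) (snd A T ≫ t) = 1) : t = toUnit T ≫ η[At] := by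
  obtain ⟨-, h2, -⟩ := point_class hφ hP hPξ t
  rw [h, phi_one hφ] at h2
  exact h2.symm

/-- The trivial point has trivial class. -/
theorem class_one (T : Over (Spec (CommRingCat.of k))) :
    ev (PicM.of hP) (fst A T) (snd A T ≫ toUnit T ≫ η[At]) = 1 := by
  obtain ⟨h1, h2, h3⟩ := point_class hφ hP hPξ (toUnit T ≫ η[At])
  exact eq_of_phi_eq hφ _ _ h1 (AbCubeLib.isPicZeroCl_one T) h3 (map_one _)
    (h2.trans (phi_one hφ T).symm)

theorem swap_h0 :
    pb (lift (toUnit A ≫ η[At]) (𝟙 A)) (PicM.of (PicLoc.isInvertible_pullback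
      (lift (snd At A) (fst At A)).left hP)) = 1 := by
  rw [← PicM.pull_of _ hP]
  show pb _ (pb (lift (snd At A) (fst At A)) (PicM.of hP)) = 1
  have h := congrArg (pb (lift (𝟙 A) (toUnit A))) (class_one hφ hP hPξ (𝟙_ (Over (Spec (CommRingCat.of k)))))
  rw [show pb (lift (𝟙 A) (toUnit A)) (1 : PicM (A ⊗ 𝟙_ (Over (Spec (CommRingCat.of k)))).left) = 1 from map_one _] at h
  rw [pb_pb]
  refine Eq.trans ?_ h
  show _ = pb _ (pb (lift (fst A (𝟙_ _)) (snd A (𝟙_ _) ≫ toUnit (𝟙_ _) ≫ η[At])) (PicM.of hP))
  rw [pb_pb]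
  refine congrArg (fun g => pb g (PicM.of hP)) (CartesianMonoidalCategory.hom_ext _ _ ?_ ?_)
  · simp
  · simp [toUnit_unique (toUnit (𝟙_ (Over (Spec (CommRingCat.of k))))) (𝟙 _)]

theorem swap_huniv (T : Over (Spec (CommRingCat.of k))) (t : T ⟶ At)
    (h : pb (t ▷ A) (PicM.of (PicLoc.isInvertible_pullback (lift (snd At A) (fst At A)).left hP)) = 1) :
    t = toUnit T ≫ η[At] := by
  refine eq_one_of_class hφ hP hPξ t ?_
  rw [← PicM.pull_of _ hP] at h
  change pb (t ▷ A) (pb (lift (snd At A) (fst At A)) (PicM.of hP)) = 1 at h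
  have h' : pb (lift (snd A T) (fst A T)) (pb (t ▷ A) (pb (lift (snd At A) (fst At A)) (PicM.of hP))) = 1 := by
    rw [h]; exact map_one _
  rw [pb_pb, pb_pb] at h'
  refine Eq.trans ?_ h'
  show pb (lift (fst A T) (snd A T ≫ t)) (PicM.of hP) = _
  congr 2
  ext1 <;> simp

/-- **Acyclic fibres off the origin.** -/
theorem swap_fiberRank (y : At.left)
    (hy : y ≠ (η[At] : 𝟙_ (Over (Spec (CommRingCat.of k))) ⟶ At).left (IsLocalRing.closedPoint k)) (p : ℕ) :
    CohIII.fiberRank (fst At A).left (swapP P) p y = 0 := by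
  haveI : GeometricallyIntegral A.hom := AbVarLib.geometricallyIntegral_of_smooth A.hom
  haveI : IsProper (fst At A).left := inferInstanceAs (IsProper (pullback.fst At.hom A.hom))
  let K := AlgebraicClosure (At.left.residueField y)
  let tl : Spec (CommRingCat.of K) ⟶ At.left :=
    Spec.map (CommRingCat.ofHom (algebraMap (At.left.residueField y) K)) ≫ At.left.fromSpecResidueField y
  have htl : tl (IsLocalRing.closedPoint K) = y := by
    show At.left.fromSpecResidueField y ((Spec.map (CommRingCat.ofHom (algebraMap (At.left.residueField y) K))) _) = y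
    exact Scheme.fromSpecResidueField_apply y _
  let s : Spec (CommRingCat.of K) ⟶ Spec (CommRingCat.of k) := tl ≫ At.hom
  let T : Over (Spec (CommRingCat.of k)) := Over.mk s
  let t : T ⟶ At := Over.homMk tl rfl
  let c := ev (PicM.of hP) (fst A T) (snd A T ≫ t)
  obtain ⟨hc0, hcφ, hcr⟩ := point_class hφ hP hPξ t
  let A' := (Over.pullback s).obj A
  letI : GrpObj A' := Functor.grpObjObj
  haveI : IsProper A'.hom := inferInstanceAs (IsProper (pullback.snd A.hom s))
  haveI : Smooth A'.hom := inferInstanceAs (Smooth (pullback.snd A.hom s))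
  haveI : GeometricallyIntegral A'.hom := inferInstanceAs (GeometricallyIntegral (pullback.snd A.hom s))
  haveI : IsCommMonObj A' := isCommMonObj_of_isProper_of_geometricallyIntegral A'
  obtain ⟨L, hcL, hL, hfib⟩ := id hc0
  have hcof : c = PicM.of hL := PicM.ext hcL.symm
  let pr : PicF.XT A.hom T ⟶ Spec (CommRingCat.of K) := PicF.XTproj A.hom T
  letI : (pullback pr (𝟙 _)).Over (Spec (CommRingCat.of K)) := ⟨pullback.snd _ _⟩
  have halg0 := hfib (IsLocalRing.closedPoint K) K (𝟙 _)
    (Set.eq_singleton_iff_unique_mem.2 ⟨⟨_, rfl⟩, fun z _ => Subsingleton.elim (α := PrimeSpectrum K) _ _⟩)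
  let e : A'.left ⟶ pullback pr (𝟙 _) := pullback.lift (𝟙 _) pr (by rw [Category.id_comp, Category.comp_id])
  have halg : Pic13.IsAlgEquivZero K A'.left L := by
    refine AbDualLib.isAlgEquivZero_congr (Nonempty.some ?_) (AbCubeLib.isAlgEquivZero_pullback (X := pullback pr (𝟙 _)) e
      (pullback.lift_snd _ _ _) halg0)
    refine (PicM.of_eq_iff (PicLoc.isInvertible_pullback _ (PicLoc.isInvertible_pullback _ hL)) hL).1 ?_
    rw [← PicM.pull_of e (PicLoc.isInvertible_pullback _ hL), ← PicM.pull_of (pullback.fst pr (𝟙 _)) hL,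
      PicM.pull_pull, pullback.lift_fst]
    exact PicM.pull_id _
  have hinv : ∀ a : 𝟙_ (Over (Spec (CommRingCat.of K))) ⟶ A',
      pb (𝟙 A' * (toUnit A' ≫ a)) (PicM.of hL) = PicM.of hL := by
    intro a
    obtain ⟨i⟩ := S12008.result K A' L hL halg a
    exact (PicM.pull_of _ hL).trans ((PicM.of_eq_iff (PicLoc.isInvertible_pullback _ hL) hL).2 ⟨i⟩)
  have hne : PicM.of hL ≠ 1 := by
    intro h
    have ht := eq_one_of_class hφ hP hPξ t (hcof.trans h)
    refine hy ?_
    rw [← htl]
    show t.left (IsLocalRing.closedPoint K) = _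
    rw [ht]
    show η[At].left ((toUnit T).left (IsLocalRing.closedPoint K)) = _
    rw [Subsingleton.elim (α := PrimeSpectrum k) ((toUnit T).left (IsLocalRing.closedPoint K)) (IsLocalRing.closedPoint k)]
  let σ : A'.left ⟶ (At ⊗ A).left := (lift (snd A T ≫ t) (fst A T)).left
  have hsq : IsPullback σ (pullback.snd A.hom s) (fst At A).left tl := by
    refine IsPullback.of_right ?_ ?_ (IsPullback.of_hasPullback At.hom A.hom).flip
    · rw [show σ ≫ pullback.snd At.hom A.hom = pullback.fst A.hom s from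
        (congrArg (fun z => Over.Hom.left z) (lift_snd (snd A T ≫ t) (fst A T)))]
      exact IsPullback.of_hasPullback A.hom s
    · exact congrArg (fun z => Over.Hom.left z) (lift_fst (snd A T ≫ t) (fst A T))
  have hcoh : Coh.IsCoh (swapP P) := by
    haveI : IsLocallyNoetherian (At ⊗ A).left := by
      haveI : LocallyOfFiniteType (At ⊗ A).hom := inferInstanceAs (LocallyOfFiniteType (pullback.fst At.hom A.hom ≫ At.hom))
      exact LocallyOfFiniteType.isLocallyNoetherian (At ⊗ A).hom
    exact PicLib.isCoh_of_isInvertible (PicLoc.isInvertible_pullback _ hP)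
  rw [← htl, fiberRank_eq_zero_iff_of_isPullback (fst At A).left (swapP P) hcoh (pullback.snd A.hom s) hsq p]
  have hiso : PicM.of hL = PicM.of (PicLoc.isInvertible_pullback σ (PicLoc.isInvertible_pullback
      (lift (snd At A) (fst At A)).left hP)) := by
    rw [← hcof, ← PicM.pull_of σ (PicLoc.isInvertible_pullback (lift (snd At A) (fst At A)).left hP),
      ← PicM.pull_of _ hP]
    show pb (lift (fst A T) (snd A T ≫ t)) (PicM.of hP) = pb (lift (snd A T ≫ t) (fst A T)) (pb _ (PicM.of hP))
    rw [pb_pb]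
    congr 2
    ext1 <;> simp
  obtain ⟨i⟩ := (PicM.of_eq_iff hL (PicLoc.isInvertible_pullback σ (PicLoc.isInvertible_pullback
      (lift (snd At A) (fst At A)).left hP))).1 hiso
  have := subsingleton_HH_of_invariant (A := A') hL hinv hne p
  exact FlatMorStrat.subsingleton_HH_of_iso i p this

/-- **Mumford's computation for the given dual.** -/
theorem poincare_dual_local {g : ℕ} (hg : topologicalKrullDim A.left = g) :
    haveI : GeometricallyIntegral A.hom := AbVarLib.geometricallyIntegral_of_smooth A.hom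
    haveI : GeometricallyIntegral At.hom := AbVarLib.geometricallyIntegral_of_smooth At.hom
    letI : A.left.Over (Spec (CommRingCat.of k)) := ⟨A.hom⟩
    (∀ i, Module.finrank k (Coh.HH A.left (Coh.structureModule A.left) i) = g.choose i) ∧
    (∀ i, Module.length (originRing At)
      (Coh.HH ((nhdOne At) ⊗ A).left ((Scheme.Modules.pullback (toAh At ▷ A).left).obj (swapP P)) i) =
        if i = g then 1 else 0) := by
  haveI : GeometricallyIntegral A.hom := AbVarLib.geometricallyIntegral_of_smooth A.hom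
  haveI : GeometricallyIntegral At.hom := AbVarLib.geometricallyIntegral_of_smooth At.hom
  exact poincare_local' hg ((dim_dual_eq hφ).symm.trans hg) (PicLoc.isInvertible_pullback _ hP)
    (swap_h0 hφ hP hPξ) (fun y hy p => swap_fiberRank hφ hP hPξ y hy p)
    (fun T _ t h => swap_huniv hφ hP hPξ T t h)

end

end Groth.Agent.AbCohLib
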