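import Groth.Agent.AbCohLib.Setup
import Groth.Agent.AbCohLib.PoincareDual
import Groth.Agent.AbDualLib.DegreeDual
import Groth.Agent.AbSchLib.RigidityOver

/-!
# Existence of a Poincaré class for a given dual abelian variety
-/

set_option autoImplicit false
set_option linter.style.haveILetI false
set_option backward.isDefEq.respectTransparency.types false
set_option maxHeartbeats 1600000

universe u

open CategoryTheory CategoryTheory.Limits MonoidalCategory CartesianMonoidalCategory MonObj GrpObj AlgebraicGeometry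
open Groth.Agent Groth.Agent.PicLib Groth.Agent.AbCubeLib Groth.Agent.AbDualLib

namespace Groth.Agent.AbCohLib

variable {k : Type u} [Field k] [IsAlgClosed k] {A At : Over (Spec (CommRingCat.of k))}
  [GrpObj A] [IsProper A.hom] [Smooth A.hom] [GeometricallyConnected A.hom]
  [GrpObj At] [IsProper At.hom] [Smooth At.hom] [GeometricallyConnected At.hom]
  {φ : ∀ T : Over (Spec (CommRingCat.of k)), PicF.Cl (PicF.XT A.hom T) → (T ⟶ At)}

/-- **Every dual abelian variety has a Poincaré class.** -/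
theorem exists_isPoincareCl (hφ : AbDual.IsDualAV Scheme.fppfPrecoverage A At φ) :
    ∃ (P : (A ⊗ At).left.Modules) (_ : PicF.IsInvertible P), AbDual.IsPoincareCl A At φ (PicF.cl P) := by
  haveI : GeometricallyIntegral A.hom := AbVarLib.geometricallyIntegral_of_smooth A.hom
  haveI : GeometricallyIntegral At.hom := AbVarLib.geometricallyIntegral_of_smooth At.hom
  haveI := isCommMonObj_of_isProper_of_geometricallyIntegral A
  haveI := isCommMonObj_of_isProper_of_geometricallyIntegral At
  obtain ⟨g, hg⟩ := AbCubeLib.exists_dim_eq A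
  obtain ⟨Ah, iAh, hAp, hAg, P₀, hP₀, hdim, h0, -, huniv, -, hrig, hd0⟩ := exists_poincare_setup'' A hg
  haveI : Smooth Ah.hom := NeronLib.smooth_of_geometricallyIntegral Ah
  haveI : GeometricallyConnected Ah.hom := AbSchLib.geometricallyConnected_of_irreducible Ah.hom
  haveI : Flat Ah.hom := inferInstance
  haveI := isCommMonObj_of_isProper_of_geometricallyIntegral Ah
  let d : PicM (A ⊗ Ah).left := pb (lift (snd A Ah) (fst A Ah)) (PicM.of hP₀)
  let m : Ah ⟶ At := φ Ah d.val
  -- pull backs of the family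
  have hev : ∀ {T : Over (Spec (CommRingCat.of k))} (t : T ⟶ Ah),
      AbDual.IsPicZeroCl A.hom T (pb (lift (fst A T) (snd A T ≫ t)) d).val ∧
      φ T (pb (lift (fst A T) (snd A T ≫ t)) d).val = t ≫ m ∧
      pb (lift (1 : T ⟶ A) (𝟙 T)) (pb (lift (fst A T) (snd A T ≫ t)) d) = 1 := by
    intro T t
    refine ⟨isPicZeroCl_pb t _ (lift_snd _ _) hd0, phi_pb hφ t d hd0, ?_⟩
    rw [pb_pb, show lift (1 : T ⟶ A) (𝟙 T) ≫ lift (fst A T) (snd A T ≫ t) = t ≫ lift (1 : Ah ⟶ A) (𝟙 Ah) by simp,
      ← pb_pb, hrig]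
    exact map_one _
  have hm1 : η[Ah] ≫ m = η[At] := by
    obtain ⟨-, h, -⟩ := hev η[Ah]
    have h1 : pb (lift (fst A (𝟙_ _)) (snd A (𝟙_ _) ≫ η[Ah])) d = 1 := by
      rw [pb_pb, show lift (fst A (𝟙_ _)) (snd A (𝟙_ _) ≫ η[Ah]) ≫ lift (snd A Ah) (fst A Ah) =
          fst A (𝟙_ _) ≫ lift (toUnit A ≫ η[Ah]) (𝟙 A) by
        ext1
        · simp [← Category.assoc, toUnit_unique (fst A (𝟙_ (Over (Spec (CommRingCat.of k)))) ≫ toUnit A) (snd A _)]
        · simp, ← pb_pb, h0]
      exact map_one _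
    rw [h1, phi_one hφ] at h
    rw [← h, show (1 : 𝟙_ (Over (Spec (CommRingCat.of k))) ⟶ At) = toUnit _ ≫ η[At] from rfl,
      toUnit_unique (toUnit (𝟙_ (Over (Spec (CommRingCat.of k))))) (𝟙 _), Category.id_comp]
  haveI : IsMonHom m := AbSchLib.isMonHom_of_one Ah At m hm1
  haveI : Mono m := by
    refine ⟨fun {T} s t hst => ?_⟩
    have h1 : (s * t⁻¹) ≫ m = 1 := by
      rw [MonObj.mul_comp, GrpObj.inv_comp, hst, mul_inv_cancel]
    obtain ⟨i1, i2, i3⟩ := hev (s * t⁻¹)
    rw [h1] at i2
    have e := eq_of_phi_eq hφ _ _ i1 (AbCubeLib.isPicZeroCl_one T) i3 (map_one _) (i2.trans (phi_one hφ T).symm)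
    have h2 := huniv T (s * t⁻¹) (by
      have e' := congrArg (pb (lift (snd T A) (fst T A))) e
      rw [show pb (lift (snd T A) (fst T A)) (1 : PicM (A ⊗ T).left) = 1 from map_one _, pb_pb, pb_pb] at e'
      refine Eq.trans ?_ e'
      congr 1
      ext1 <;> simp)
    exact mul_inv_eq_one.1 h2
  haveI : Mono m.left := Over.mono_left_of_mono m
  haveI : IsProper m.left := by
    haveI : IsProper (m.left ≫ At.hom) := by rw [Over.w m]; infer_instance
    exact IsProper.of_comp m.left At.hom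
  haveI : IsClosedImmersion m.left := (IsClosedImmersion.iff_isProper_and_mono m.left).2 ⟨inferInstance, inferInstance⟩
  haveI : Surjective m.left :=
    (AbVarLib.surjective_and_flat_of_isFinite m (hdim.trans (hg.symm.trans (dim_dual_eq hφ)))).1
  haveI : IsIntegral At.left := GeometricallyIntegral.isIntegral_of_subsingleton At.hom
  haveI : IsIso m.left := isIso_of_isClosedImmersion_of_surjective m.left
  haveI : IsIso m := by
    haveI : IsIso ((Over.forget _).map m) := ‹IsIso m.left›
    exact isIso_of_reflects_iso m (Over.forget _)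
  obtain ⟨i1, i2, i3⟩ := hev (inv m)
  obtain ⟨P, hP, hPe⟩ := PicM.exists_eq_of (pb (lift (fst A At) (snd A At ≫ inv m)) d)
  rw [hPe] at i1 i2 i3
  refine ⟨P, hP, i1, i2.trans (IsIso.inv_hom_id m), ?_⟩
  have hs : PicF.secT A.hom η[A].left (Over.w η[A]) At = (lift (1 : At ⟶ A) (𝟙 At)).left := by
    refine RigDesc27.hom_ext_XT ?_ ?_
    · rw [RigDesc27.secT_fst]
      show At.hom ≫ η[A].left = (lift (1 : At ⟶ A) (𝟙 At)).left ≫ (fst A At).left
      rw [← Over.comp_left, lift_fst, show (1 : At ⟶ A) = toUnit At ≫ η[A] from rfl, Over.comp_left]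
      exact congrArg (· ≫ η[A].left) ((Category.comp_id _).symm.trans (Over.w (toUnit At))).symm
    · rw [RigDesc27.secT_proj]
      show 𝟙 At.left = (lift (1 : At ⟶ A) (𝟙 At)).left ≫ (snd A At).left
      rw [← Over.comp_left, lift_snd]; rfl
  rw [hs]
  exact congrArg PicM.val i3

end Groth.Agent.AbCohLib
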