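import Groth.Agent.AbCohLib.Degree
import Groth.Agent.AbCohLib.PoincareExists
import Groth.Agent.AbCohLib.Index

/-!
# Non-degenerate invertible modules: index and degree
-/

set_option autoImplicit false
set_option linter.style.haveILetI false
set_option backward.isDefEq.respectTransparency.types false
set_option maxHeartbeats 1600000

universe u

open CategoryTheory CategoryTheory.Limits MonoidalCategory CartesianMonoidalCategory MonObj GrpObj AlgebraicGeometry
open Groth.Agent Groth.Agent.PicLib Groth.Agent.AbCubeLib Groth.Agent.AbDualLib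

namespace Groth.Agent.AbCohLib

variable {k : Type u} [Field k] [IsAlgClosed k] {A At : Over (Spec (CommRingCat.of k))}
  [GrpObj A] [IsProper A.hom] [Smooth A.hom] [GeometricallyConnected A.hom]
  [GrpObj At] [IsProper At.hom] [Smooth At.hom] [GeometricallyConnected At.hom]
  {φ : ∀ T : Over (Spec (CommRingCat.of k)), PicF.Cl (PicF.XT A.hom T) → (T ⟶ At)}

/-- A finite classifying map has only finitely many fixing points. -/
theorem finite_fixing_of_isFinite (hφ : AbDual.IsDualAV Scheme.fppfPrecoverage A At φ) {L L' : A.left.Modules}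
    (hL : PicF.IsInvertible L) (hL' : PicF.IsInvertible L') (hll : PicM.of hL * PicM.of hL' = 1)
    (c : PicM (A ⊗ A).left)
    (hc : c = pb μ[A] (PicM.of hL) * pb (fst A A) (PicM.of hL') * pb (snd A A) (PicM.of hL'))
    (h0 : AbDual.IsPicZeroCl A.hom A c.val) [IsFinite (φ A c.val).left] :
    Set.Finite {x : 𝟙_ (Over (Spec (CommRingCat.of k))) ⟶ A |
      Nonempty ((Scheme.Modules.pullback (𝟙 A * (toUnit A ≫ x)).left).obj L ≅ L)} := by
  refine Set.Finite.of_injOn (f := fun x => x.left (IsLocalRing.closedPoint k))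
    (t := (φ A c.val).left ⁻¹' {(1 : 𝟙_ (Over (Spec (CommRingCat.of k))) ⟶ At).left (IsLocalRing.closedPoint k)})
    ?_ (fun x _ y _ h => point_ext h) ((φ A c.val).left.finite_preimage_singleton _)
  rintro x ⟨e⟩
  have he : pb (𝟙 A * (toUnit A ≫ x)) (PicM.of hL) = PicM.of hL :=
    (PicM.pull_of _ hL).trans ((PicM.of_eq_iff (PicLoc.isInvertible_pullback _ hL) hL).2 ⟨e⟩)
  have h1 : pb (lift (fst A (𝟙_ _)) (snd A (𝟙_ _) ≫ x)) c = 1 := by
    rw [hc, pb, map_mul, map_mul]
    show pb _ (pb _ _) * pb _ (pb _ _) * pb _ (pb _ _) = 1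
    rw [pb_pb, pb_pb, pb_pb, lift_fst, lift_snd, show μ[A] = fst A A * snd A A by
      rw [Hom.mul_def, lift_fst_snd, Category.id_comp], comp_mul, lift_fst, lift_snd,
      show fst A (𝟙_ _) * (snd A (𝟙_ _) ≫ x) = fst A (𝟙_ _) ≫ (𝟙 A * (toUnit A ≫ x)) by
        rw [comp_mul, Category.comp_id, ← Category.assoc, toUnit_unique (fst A (𝟙_ _) ≫ toUnit A) (snd A _)],
      ← pb_pb, he, ← pb_pb (snd A (𝟙_ _)) x, show pb x (PicM.of hL') = 1 from PicM.eq_one_of_field k _]
    show PicM.pull _ _ * PicM.pull _ _ * PicM.pull _ 1 = 1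
    rw [map_one, _root_.mul_one, ← map_mul, hll, map_one]
  have h2 := phi_pb hφ x c h0
  change φ _ (pb (lift (fst A (𝟙_ _)) (snd A (𝟙_ _) ≫ x)) c).val = _ at h2
  rw [h1, phi_one hφ] at h2
  show (φ A c.val).left (x.left _) = _
  rw [h2, Over.comp_left]
  rfl

/-- **Non-degenerate modules have a single cohomology group, of dimension squared the degree.** -/
theorem exists_index_sq_eq_degree (hφ : AbDual.IsDualAV Scheme.fppfPrecoverage A At φ) {g : ℕ}
    (hg : topologicalKrullDim A.left = g) {L L' : A.left.Modules}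
    (hL : PicF.IsInvertible L) (hL' : PicF.IsInvertible L') (hll : PicM.of hL * PicM.of hL' = 1)
    (c : PicM (A ⊗ A).left)
    (hc : c = pb μ[A] (PicM.of hL) * pb (fst A A) (PicM.of hL') * pb (snd A A) (PicM.of hL'))
    (h0 : AbDual.IsPicZeroCl A.hom A c.val) [hfi : IsFinite (φ A c.val).left] [hfl : Flat (φ A c.val).left]
    (d : ℕ) (hd : ∀ y : At.left, Scheme.Hom.finrank (φ A c.val).left y = d) :
    ∃ i : ℕ, i ≤ g ∧ (∀ j : ℕ, j ≠ i → Subsingleton (Coh.HH A.left L j)) ∧
      @Module.finrank k (Coh.HH A.left L i) _ _ (@Coh.moduleOver k _ A.left ⟨A.hom⟩ L i) ^ 2 = d := by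
  haveI : GeometricallyIntegral A.hom := AbVarLib.geometricallyIntegral_of_smooth A.hom
  obtain ⟨P, hP, hPξ⟩ := exists_isPoincareCl hφ
  have hsq := euler_sq_eq_degree hφ hP hPξ hg hL hL' hll c hc h0 d hd
  obtain ⟨i, hi, hvan, -⟩ := exists_index hL hL' hll (finite_fixing_of_isFinite hφ hL hL' hll c hc h0) hg
  refine ⟨i, hi, hvan, ?_⟩
  letI : A.left.Over (Spec (CommRingCat.of k)) := ⟨A.hom⟩
  rw [EulerLib.euler_eq_sum k A.left L g (fun q hq => hvan q (by omega)),
    Finset.sum_eq_single_of_mem i (Finset.mem_range.2 (by omega)) (fun q _ hq => by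
      haveI := hvan q hq
      rw [Module.finrank_zero_of_subsingleton]; simp), mul_pow, ← pow_mul,
    Even.neg_one_pow ⟨i, by ring⟩, _root_.one_mul] at hsq
  exact_mod_cast hsq

end Groth.Agent.AbCohLib
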