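import Groth.Agent.AbCohLib.IndexApply
import Groth.Agent.Coherent.FlatBaseChangeMain
import Groth.Agent.AmpleLib.Ample

/-!
# Index of powers over any field
-/

set_option autoImplicit false
set_option linter.style.haveILetI false
set_option backward.isDefEq.respectTransparency.types false
set_option maxHeartbeats 1600000

universe u

open CategoryTheory CategoryTheory.Limits MonoidalCategory CartesianMonoidalCategory MonObj GrpObj AlgebraicGeometry
  Opposite TopologicalSpace TensorProduct
open Groth.Agent Groth.Agent.Coherent Groth.Agent.PicLib Groth.Agent.AmpleLib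

namespace Groth.Agent.AbCohLib

/-- Vanishing of cohomology is insensitive to extension of the field. -/
theorem subsingleton_HH_bc_iff (k K : Type u) [Field k] [Field K] [Algebra k K]
    (A : Over (Spec (CommRingCat.of k))) [IsProper A.hom] (M : A.left.Modules) (hM : PicF.IsInvertible M) (q : ℕ) :
    Subsingleton (Coh.HH A.left M q) ↔ Subsingleton (Coh.HH (pullback A.hom (Spec.map (CommRingCat.ofHom (algebraMap k K))))
      ((Scheme.Modules.pullback (pullback.fst A.hom (Spec.map (CommRingCat.ofHom (algebraMap k K))))).obj M) q) := by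
  letI : A.left.Over (Spec (CommRingCat.of k)) := ⟨A.hom⟩
  let X' := pullback A.hom (Spec.map (CommRingCat.ofHom (algebraMap k K)))
  letI : X'.Over (Spec (CommRingCat.of K)) := ⟨pullback.snd _ _⟩
  haveI : IsProper (A.left ↘ Spec (CommRingCat.of k)) := ‹IsProper A.hom›
  haveI : CompactSpace A.left := QuasiCompact.compactSpace_of_compactSpace (A.left ↘ Spec (CommRingCat.of k))
  haveI : QuasiSeparatedSpace A.left :=
    (HasAffineProperty.iff_of_isAffine (P := @QuasiSeparated) (f := A.left ↘ Spec (CommRingCat.of k))).mp inferInstance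
  haveI : Coh.IsQCoh M := isQCoh_of_isInvertible hM
  obtain ⟨e⟩ := nonempty_flat_base_change (A := k) (B := K) (X' := X') (M := M)
    (g := pullback.fst A.hom (Spec.map (CommRingCat.ofHom (algebraMap k K)))) (IsPullback.of_hasPullback _ _) q
  refine ⟨fun h => ?_, fun h => ?_⟩
  · haveI : Subsingleton (K ⊗[k] Coh.HH A.left M q) := subsingleton_of_forall_eq 0 fun x => by
      induction x using TensorProduct.induction_on with
      | zero => rfl
      | tmul a b => rw [Subsingleton.elim b 0, tmul_zero]
      | add x y hx hy => rw [hx, hy, add_zero]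
    exact e.symm.toEquiv.subsingleton
  · have h2 : Subsingleton (K ⊗[k] Coh.HH A.left M q) := @Equiv.subsingleton _ _ e.toEquiv h
    by_contra hne
    rw [not_subsingleton_iff_nontrivial] at hne
    exact not_subsingleton (K ⊗[k] Coh.HH A.left M q) h2

/-- **Powers have the same index, over any field.** -/
theorem concentrated_tensorPow_field {k : Type u} [Field k] {A : Over (Spec (CommRingCat.of k))} [GrpObj A]
    [IsProper A.hom] [GeometricallyIntegral A.hom] {L : A.left.Modules} (hL : PicF.IsInvertible L) {i : ℕ}
    (hvan : ∀ j : ℕ, j ≠ i → Subsingleton (Coh.HH A.left L j)) (hne : Nontrivial (Coh.HH A.left L i))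
    {a : ℕ} (ha : 0 < a) :
    (∀ j : ℕ, j ≠ i → Subsingleton (Coh.HH A.left (CohB1.tensorPow L a) j)) ∧
      Nontrivial (Coh.HH A.left (CohB1.tensorPow L a) i) := by
  let K := AlgebraicClosure k
  let s := Spec.map (CommRingCat.ofHom (algebraMap k K))
  let A' := (Over.pullback s).obj A
  letI : GrpObj A' := Functor.grpObjObj
  haveI : IsProper A'.hom := inferInstanceAs (IsProper (pullback.snd A.hom s))
  haveI : GeometricallyIntegral A'.hom := inferInstanceAs (GeometricallyIntegral (pullback.snd A.hom s))
  let π : A'.left ⟶ A.left := pullback.fst A.hom s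
  have hLa := isInvertible_tensorPow hL a
  obtain ⟨e, -⟩ := exists_pullPowIso π hL a
  obtain ⟨h1, h2⟩ := concentrated_tensorPow (A := A') (PicLoc.isInvertible_pullback π hL)
    (fun j hj => (subsingleton_HH_bc_iff k K A L hL j).1 (hvan j hj))
    (not_subsingleton_iff_nontrivial.1 fun h =>
      not_subsingleton_iff_nontrivial.2 hne ((subsingleton_HH_bc_iff k K A L hL i).2 h)) ha
  refine ⟨fun j hj => (subsingleton_HH_bc_iff k K A _ hLa j).2 (FlatMorStrat.subsingleton_HH_of_iso e.symm j (h1 j hj)),
    not_subsingleton_iff_nontrivial.1 fun h => not_subsingleton_iff_nontrivial.2 h2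
      (FlatMorStrat.subsingleton_HH_of_iso e i ((subsingleton_HH_bc_iff k K A _ hLa i).1 h))⟩

end Groth.Agent.AbCohLib
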