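import Groth.Agent.AbCohLib.IndexApply
import Groth.Agent.AbVarLib.HomDim
import Groth.Agent.AbCohLib.EulerBox

/-!
# The index is unchanged by isogenies
-/

set_option autoImplicit false
set_option linter.style.haveILetI false
set_option linter.unusedSectionVars false
set_option backward.isDefEq.respectTransparency.types false
set_option maxHeartbeats 1600000

universe u

open CategoryTheory CategoryTheory.Limits MonoidalCategory CartesianMonoidalCategory MonObj GrpObj AlgebraicGeometry
  Opposite TopologicalSpace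
open Groth.Agent Groth.Agent.Coherent Groth.Agent.PicLib Groth.Agent.AbCubeLib Groth.Agent.AmpleLib
  Groth.Agent.EulerLib Groth.Agent.S17505

namespace Groth.Agent.AbCohLib

/-- Twists of free modules vanish where twists of the structure sheaf do. -/
theorem hdim_freeMod_eq_zero (k : Type u) [Field k] {X : Scheme.{u}} [X.Over (Spec (CommRingCat.of k))]
    [IsProper (X ↘ Spec (CommRingCat.of k))] (q : ℕ) (c : PicM X)
    (h : hdim k (Coh.structureModule X) q c = 0) : ∀ n, hdim k (FlatMod.freeMod X n) q c = 0 := by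
  haveI := EulerLib.isNoetherian_of_proper k (X := X)
  intro n
  induction n with
  | zero =>
    have hz : IsZero (FlatMod.freeMod X 0) := by
      rw [IsZero.iff_id_eq_zero]
      exact Sigma.hom_ext (f := fun _ : Fin 0 => Coh.structureModule X) _ _ fun i => i.elim0
    have h' := hfun_of_support_empty k c c (FlatMod.freeMod X 0) (Set.subset_empty_iff.1 (support_of_isZero hz ∅))
    have h'' := congrFun (congrFun (congrFun h' q) 1) 0
    simpa [hfun] using h''
  | succ n ih =>
    classical
    let O : Fin (n + 1) → X.Modules := fun _ => Coh.structureModule X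
    let O' : Fin n → X.Modules := fun _ => Coh.structureModule X
    let f : ∐ O' ⟶ ∐ O := Sigma.desc fun i => Sigma.ι O i.castSucc
    let g : ∐ O ⟶ Coh.structureModule X := Sigma.desc fun i => if i = Fin.last n then 𝟙 _ else 0
    let r : ∐ O ⟶ ∐ O' := Sigma.desc (Fin.lastCases (motive := fun i => O i ⟶ ∐ O') 0 fun i => Sigma.ι O' i)
    let S := ShortComplex.mk f g (Sigma.hom_ext _ _ fun i => by
      simp [f, g, (Fin.castSucc_lt_last i).ne])
    let sp : S.Splitting :=
      { r := r
        s := Sigma.ι O (Fin.last n)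
        f_r := Sigma.hom_ext _ _ fun i => by simp [S, f, r]
        s_g := by simp [S, g]; rfl
        id := Sigma.hom_ext _ _ fun i => by
          induction i using Fin.lastCases with
          | last => simp [S, f, g, r]
          | cast i => simp [S, f, g, r, (Fin.castSucc_lt_last i).ne] }
    have hc : ∀ m, Coh.IsCoh (FlatMod.freeMod X m) := fun m =>
      CohBC.isCoh_of_isFinLocFree (VarietyLib.isFinLocFree_of_rank (VarietyLib.isFinLocFreeOfRank_freeMod m))
    obtain ⟨h1, -, -, -⟩ := hdim_ses k S sp.shortExact (hc n) (hc (n + 1)) (isCoh_structureModule X) q c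
    change hdim k (FlatMod.freeMod X (n + 1)) q c ≤
      hdim k (FlatMod.freeMod X n) q c + hdim k (Coh.structureModule X) q c at h1
    have := hdim_nonneg k (FlatMod.freeMod X (n + 1)) q c
    omega

/-- **Isogenies preserve the index.** -/
theorem index_pullback {k : Type u} [Field k] [IsAlgClosed k] {A B : Over (Spec (CommRingCat.of k))}
    [GrpObj A] [IsProper A.hom] [GeometricallyIntegral A.hom] [GrpObj B] [IsProper B.hom] [GeometricallyIntegral B.hom]
    (f : A ⟶ B) [IsMonHom f] [IsFinite f.left] [Flat f.left] [Surjective f.left] {m m' : PicM B.left}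
    (hm : m * m' = 1) (hne : eul k B m ≠ 0) :
    eul k A (pb f m) ≠ 0 ∧ ∃ I, IsIdx B m I ∧ IsIdx A (pb f m) I := by
  letI : A.left.Over (Spec (CommRingCat.of k)) := ⟨A.hom⟩
  letI : B.left.Over (Spec (CommRingCat.of k)) := ⟨B.hom⟩
  haveI : IsProper (A.left ↘ Spec (CommRingCat.of k)) := ‹IsProper A.hom›
  haveI : IsProper (B.left ↘ Spec (CommRingCat.of k)) := ‹IsProper B.hom›
  haveI : IsIntegral B.left := GeometricallyIntegral.isIntegral_of_subsingleton B.hom
  haveI := EulerLib.isNoetherian_of_proper (X := B.left) k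
  haveI := EulerLib.isSeparated_of_proper (X := B.left) k
  haveI : LocallyOfFinitePresentation f.left := AbCubeLib.locallyOfFinitePresentation_of_noetherian_base f.left
  obtain ⟨g, hg⟩ := AbCubeLib.exists_dim_eq B
  have hgA : topologicalKrullDim A.left = g := (AbVarLib.dim_eq_of_isFinite f).trans hg
  let d := genRank ((Coh.push f.left).obj (Coh.structureModule A.left))
  have hd : ∀ y, Scheme.Hom.finrank f.left y = d := fun y => finrank_eq_genRank f.left y
  have hd0 : 0 < d := by
    rw [← hd (genericPoint B.left)]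
    exact (Scheme.Hom.one_le_finrank_iff_surjective (f := f.left)).2 ‹_› (genericPoint B.left)
  have hmA : pb f m * pb f m' = 1 := by rw [pb, ← map_mul, hm, map_one]
  have heA : eul k A (pb f m) = (d : ℤ) * eul k B m := euler_pull k f hd m
  have hneA : eul k A (pb f m) ≠ 0 := by
    rw [heA]; exact mul_ne_zero (by exact_mod_cast hd0.ne') hne
  refine ⟨hneA, ?_⟩
  obtain ⟨I, hI⟩ := exists_index_pow hg hm hne
  obtain ⟨J, hJ⟩ := exists_index_pow hgA hmA hneA
  have hI1 := hI 1 one_pos
  have hJ1 := hJ 1 one_pos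
  rw [pow_one] at hI1 hJ1
  refine ⟨I, hI1, ?_⟩
  suffices h : J = I by rwa [h] at hJ1
  by_contra hJI
  -- the direct image against a free module
  let F := DQCoh.pushStr f.left
  obtain ⟨e⟩ := WeilFin.nonempty_pushStr_iso f.left
  have hFf : FlatMod.IsFinLocFree F :=
    DQCoh.isFinLocFree_push f.left ⟨inferInstance, inferInstance, inferInstance⟩
      (CohBC.isFinLocFree_structureModule A.left)
  have hF : Coh.IsCoh F := CohBC.isCoh_of_isFinLocFree hFf
  have hG : Coh.IsCoh (FlatMod.freeMod B.left d) :=
    CohBC.isCoh_of_isFinLocFree (VarietyLib.isFinLocFree_of_rank (VarietyLib.isFinLocFreeOfRank_freeMod d))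
  letI : Field (B.left.presheaf.stalk (genericPoint B.left)) := inferInstanceAs (Field B.left.functionField)
  haveI := AssSch12.finite_stalk hF (genericPoint B.left)
  haveI := AssSch12.finite_stalk hG (genericPoint B.left)
  have hrk : Module.finrank (B.left.presheaf.stalk (genericPoint B.left)) (F.presheaf.stalk (genericPoint B.left)) =
      Module.finrank (B.left.presheaf.stalk (genericPoint B.left))
        ((FlatMod.freeMod B.left d).presheaf.stalk (genericPoint B.left)) := by
    rw [VarietyLib.finrank_stalk_of_rank (VarietyLib.isFinLocFreeOfRank_freeMod d) (genericPoint B.left)]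
    rfl
  have est : (DerSch.stalkFunctor B.left (genericPoint B.left)).obj F ≅
      (DerSch.stalkFunctor B.left (genericPoint B.left)).obj (FlatMod.freeMod B.left d) :=
    (LinearEquiv.ofFinrankEq (F.presheaf.stalk (genericPoint B.left))
      ((FlatMod.freeMod B.left d).presheaf.stalk (genericPoint B.left)) hrk).toModuleIso
  obtain ⟨C, hC⟩ := hfun_sub_mem_of_stalk_iso k m 1 hg hF hG est J
  let a := C * g * 2 ^ (g - 1) + 1
  have h1 := hC a 0
  simp only [Pi.sub_apply, hfun, pow_zero, _root_.mul_one] at h1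
  have hfree : hdim k (FlatMod.freeMod B.left d) J (m ^ a) = 0 := by
    refine hdim_freeMod_eq_zero k J _ ?_ d
    have h2 := hI a (Nat.succ_pos _) J
    rwa [if_neg hJI] at h2
  have hpush : hdim k F J (m ^ a) = hcl A J (pb f m ^ a) := by
    obtain ⟨N, hN, hNe⟩ := PicM.exists_eq_of (m ^ a)
    rw [hNe, hdim_eq k F J hN, show pb f m ^ a = pb f (m ^ a) from (map_pow _ _ _).symm, hNe, pb, PicM.pull_of _ hN,
      hcl_eq_finrank J (PicLoc.isInvertible_pullback f.left hN)]
    haveI : Coh.IsQCoh N := isQCoh_of_isInvertible hN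
    haveI : Coh.IsQCoh ((Scheme.Modules.pullback f.left).obj N) := EGA43.InjFibre.isQCoh_pullback _ _
    haveI := DQCoh.isIso_unitBilin f.left N
    rw [(SerreDual.hmapIso k (asIso (DQCoh.unitBilin f.left N).desc) J).finrank_eq,
      (SerreDual.hpush f.left k (Over.w f) _ J).finrank_eq]
  rw [hfree, sub_zero, hpush, hJ a (Nat.succ_pos _) J, if_pos rfl] at h1
  have heA' : eul k A (pb f m ^ a) = (a : ℤ) ^ g * eul k A (pb f m) := by
    have h := eul_pow_mul hgA hmA a 0
    rwa [pow_zero, _root_.mul_one] at h
  rw [abs_abs, heA', abs_mul, abs_pow, Nat.abs_cast] at h1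
  have h2 : a ^ g ≤ C * g * (a + 0 + 1) ^ (g - 1) := by
    have := le_trans (le_mul_of_one_le_right (by positivity) (Int.one_le_abs hneA)) h1
    exact_mod_cast this
  rcases Nat.eq_zero_or_pos g with hg0 | hg0
  · subst hg0; simp at h2
  · have h3 : a ^ g ≤ C * g * 2 ^ (g - 1) * a ^ (g - 1) := by
      refine h2.trans ?_
      rw [Nat.mul_assoc (C * g), ← Nat.mul_pow]
      exact Nat.mul_le_mul_left _ (Nat.pow_le_pow_left (by omega) _)
    have h4 : a ^ g = a * a ^ (g - 1) := by rw [← pow_succ', Nat.sub_add_cancel hg0]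
    rw [h4] at h3
    have h5 := Nat.le_of_mul_le_mul_right h3 (pow_pos (Nat.succ_pos _) _)
    omega

/-- **Non-degeneracy and vanishing are unchanged by isogenies.** -/
theorem nondegenerate_pullback {k : Type u} [Field k] [IsAlgClosed k] {A B : Over (Spec (CommRingCat.of k))}
    [GrpObj A] [IsProper A.hom] [GeometricallyIntegral A.hom] [GrpObj B] [IsProper B.hom] [GeometricallyIntegral B.hom]
    (f : A ⟶ B) [IsMonHom f] [IsFinite f.left] [Flat f.left] [Surjective f.left] {L : B.left.Modules}
    (hL : PicF.IsInvertible L) (hnd : Set.Finite {x : 𝟙_ (Over (Spec (CommRingCat.of k))) ⟶ B |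
      Nonempty ((Scheme.Modules.pullback (𝟙 B * (toUnit B ≫ x)).left).obj L ≅ L)}) :
    Set.Finite {x : 𝟙_ (Over (Spec (CommRingCat.of k))) ⟶ A |
      Nonempty ((Scheme.Modules.pullback (𝟙 A * (toUnit A ≫ x)).left).obj ((Scheme.Modules.pullback f.left).obj L) ≅
        ((Scheme.Modules.pullback f.left).obj L))} ∧
      ∀ j : ℕ, Subsingleton (Coh.HH B.left L j) ↔
        Subsingleton (Coh.HH A.left ((Scheme.Modules.pullback f.left).obj L) j) := by
  obtain ⟨g, hg⟩ := AbCubeLib.exists_dim_eq B
  obtain ⟨m', hm'⟩ := exists_inverse hL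
  obtain ⟨L', hL', rfl⟩ := PicM.exists_eq_of m'
  obtain ⟨i, -, hvan, hne⟩ := exists_index hL hL' hm' hnd hg
  obtain ⟨hneA, I, hB, hA⟩ := index_pullback f hm' (eul_ne_zero_of_concentrated hL hvan hne)
  have hfL := PicLoc.isInvertible_pullback f.left hL
  rw [pb, PicM.pull_of _ hL] at hA hneA
  refine ⟨?_, fun j => ?_⟩
  · by_contra h
    exact hneA ((eul_of hfL).trans (S17505.result k A _ hfL h))
  · obtain ⟨hvB, hnB⟩ := hB.concentrated hL (eul_ne_zero_of_concentrated hL hvan hne)
    obtain ⟨hvA, hnA⟩ := hA.concentrated hfL hneA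
    rcases eq_or_ne j I with rfl | h
    · exact ⟨fun h => absurd h (not_subsingleton_iff_nontrivial.2 hnB),
        fun h => absurd h (not_subsingleton_iff_nontrivial.2 hnA)⟩
    · exact ⟨fun _ => hvA j h, fun _ => hvB j h⟩

end Groth.Agent.AbCohLib
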