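import Groth.Agent.AbCohLib.IndexRay
import Groth.Agent.Coherent.Serre.AmpleAffine
import Groth.Agent.AbCohLib.IndexIsogeny

/-!
# The jump of the index at a root is at most its multiplicity
-/

set_option autoImplicit false
set_option linter.style.haveILetI false
set_option linter.unusedSectionVars false
set_option backward.isDefEq.respectTransparency.types false
set_option maxHeartbeats 1600000

universe u

open CategoryTheory CategoryTheory.Limits MonoidalCategory CartesianMonoidalCategory MonObj GrpObj AlgebraicGeometry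
  Opposite TopologicalSpace
open Groth.Agent Groth.Agent.Coherent Groth.Agent.PicLib Groth.Agent.AbCubeLib Groth.Agent.AmpleLib
  Groth.Agent.EulerLib Groth.Agent.AssSch12 Groth.Agent.S17505

namespace Groth.Agent.AbCohLib

section Scheme

variable (k : Type u) [Field k] {X : Scheme.{u}} [X.Over (Spec (CommRingCat.of k))]
  [IsProper (X ↘ Spec (CommRingCat.of k))]

/-- **`q`-ampleness from the vanishing on the structure sheaf.** -/
theorem exists_hdim_eq_zero {H : X.Modules} (hH : CohB1.IsAmple H) (m u : PicM X) (hu : PicM.of hH.1 * u = 1)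
    (i : ℕ) {d : ℕ} (hdim' : topologicalKrullDim X ≤ d)
    (hO : ∀ e q, i < q → ∃ N, ∀ n, N ≤ n → hdim k (Coh.structureModule X) q (m ^ n * u ^ e) = 0) :
    ∀ (G : X.Modules), Coh.IsCoh G → ∀ q, i < q → ∀ s, ∃ N, ∀ n, N ≤ n → hdim k G q (m ^ n * u ^ s) = 0 := by
  haveI := EulerLib.isNoetherian_of_proper k (X := X)
  haveI := EulerLib.isSeparated_of_proper k (X := X)
  suffices key : ∀ j : ℕ, ∀ (G : X.Modules), Coh.IsCoh G → ∀ q, i < q → d + 1 ≤ q + j →
      ∀ s, ∃ N, ∀ n, N ≤ n → hdim k G q (m ^ n * u ^ s) = 0 from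
    fun G hG q hq s => key (d + 1) G hG q hq (Nat.le_add_left _ _) s
  intro j
  induction j with
  | zero =>
    intro G hG q _ hq s
    refine ⟨0, fun n _ => ?_⟩
    haveI : Coh.IsQCoh (CohB1.tensorMod G (rep (m ^ n * u ^ s))) := (isCoh_twist (isInvertible_rep _) hG).1
    haveI := EulerLib.subsingleton_HH_of_dim (CohB1.tensorMod G (rep (m ^ n * u ^ s))) hdim'
      (show d < q by omega)
    rw [hdim, Module.finrank_zero_of_subsingleton]
    rfl
  | succ j ih =>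
    intro G hG q hq hqj s
    obtain ⟨e, he⟩ := Serre.exists_epi_free_twist hH G hG
    obtain ⟨I, _, π, hπ⟩ := he e le_rfl
    haveI := hπ
    classical
    let σ : FlatMod.freeMod X (Fintype.card I) ≅ Coherent.freeMod X I :=
      { hom := Sigma.desc fun i => freeInj ((Fintype.equivFin I).symm i)
        inv := freeDesc fun i => Sigma.ι (fun _ : Fin (Fintype.card I) => Coh.structureModule X) (Fintype.equivFin I i)
        hom_inv_id := Sigma.hom_ext _ _ fun i => by simp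
        inv_hom_id := freeMod_hom_ext fun i => by simp }
    have hHe := isInvertible_tensorPow hH.1 e
    let π' := σ.hom ≫ π
    haveI : IsIso σ.hom := σ.isIso_hom
    haveI : Epi π' := epi_comp _ _
    have hGe : Coh.IsCoh (CohB1.tensorMod G (CohB1.tensorPow H e)) := isCoh_twist hHe hG
    have hfree : Coh.IsCoh (FlatMod.freeMod X (Fintype.card I)) :=
      CohBC.isCoh_of_isFinLocFree (VarietyLib.isFinLocFree_of_rank (VarietyLib.isFinLocFreeOfRank_freeMod _))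
    have hker : Coh.IsCoh (kernel π') := isCoh_kernel π' hfree hGe.1
    obtain ⟨N₁, hN₁⟩ := ih (kernel π') hker (q + 1) (by omega) (by omega) (s + e)
    obtain ⟨N₂, hN₂⟩ := hO (s + e) q hq
    refine ⟨max N₁ N₂, fun n hn => ?_⟩
    obtain ⟨-, h2, -, -⟩ := hdim_ses k _ (Serre.kerSeqEpi_shortExact π') hker hfree hGe q (m ^ n * u ^ (s + e))
    change hdim k (CohB1.tensorMod G (CohB1.tensorPow H e)) q _ ≤ hdim k (FlatMod.freeMod X _) q _ +
      hdim k (kernel π') (q + 1) _ at h2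
    rw [hdim_freeMod_eq_zero k q _ (hN₂ n (le_of_max_le_right hn)), hN₁ n (le_of_max_le_left hn),
      hdim_tensor k G hHe, PicM.of_tensorPow hH.1] at h2
    have h3 : PicM.of hH.1 ^ e * (m ^ n * u ^ (s + e)) = m ^ n * u ^ s := by
      calc PicM.of hH.1 ^ e * (m ^ n * u ^ (s + e)) = m ^ n * u ^ s * (PicM.of hH.1 * u) ^ e := by
            rw [pow_add, mul_pow]; ac_rfl
        _ = _ := by rw [hu, one_pow, _root_.mul_one]
    rw [h3] at h2
    have := hdim_nonneg k G q (m ^ n * u ^ s)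
    omega

/-- Functions of degree, direction, scale and shift with `|f| = O((4n+1)^(r-1) (k+1)^(e-(q-i)))`. -/
def jumpSub (k₀ i r e : ℕ) : AddSubgroup (ℕ → ℕ → ℕ → ℕ → ℤ) where
  carrier := {f | ∀ q, ∃ C : ℕ, ∀ κ, k₀ ≤ κ → ∃ N, ∀ n, N ≤ n → ∀ s, s ≤ 4 * n →
    |f q κ n s| ≤ ((C * r * ((4 * n + 1) ^ (r - 1) * (κ + 1) ^ (e - (q - i))) : ℕ) : ℤ)}
  zero_mem' q := ⟨0, fun κ _ => ⟨0, fun n _ s _ => by simp⟩⟩
  add_mem' {f g} hf hg q := by
    obtain ⟨C, hC⟩ := hf q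
    obtain ⟨D, hD⟩ := hg q
    refine ⟨C + D, fun κ hκ => ?_⟩
    obtain ⟨N, hN⟩ := hC κ hκ
    obtain ⟨M, hM⟩ := hD κ hκ
    refine ⟨max N M, fun n hn s hs => (abs_add_le _ _).trans ?_⟩
    have := add_le_add (hN n (le_of_max_le_left hn) s hs) (hM n (le_of_max_le_right hn) s hs)
    push_cast at this ⊢
    linarith
  neg_mem' {f} hf q := by
    obtain ⟨C, hC⟩ := hf q
    refine ⟨C, fun κ hκ => ?_⟩
    obtain ⟨N, hN⟩ := hC κ hκ
    exact ⟨N, fun n hn s hs => by simpa using hN n hn s hs⟩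

theorem jumpSub_of_abs_le {k₀ i r e : ℕ} {f f₁ f₂ : ℕ → ℕ → ℕ → ℕ → ℤ} (h₁ : f₁ ∈ jumpSub k₀ i r e)
    (h₂ : f₂ ∈ jumpSub k₀ i r e) (h : ∀ q κ n s, |f q κ n s| ≤ |f₁ q κ n s| + |f₂ q κ n s|) :
    f ∈ jumpSub k₀ i r e := fun q => by
  obtain ⟨C, hC⟩ := h₁ q
  obtain ⟨D, hD⟩ := h₂ q
  refine ⟨C + D, fun κ hκ => ?_⟩
  obtain ⟨N, hN⟩ := hC κ hκ
  obtain ⟨M, hM⟩ := hD κ hκ
  refine ⟨max N M, fun n hn s hs => (h q κ n s).trans ?_⟩
  have := add_le_add (hN n (le_of_max_le_left hn) s hs) (hM n (le_of_max_le_right hn) s hs)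
  push_cast at this ⊢
  linarith

theorem jumpSub_shift {k₀ i r : ℕ} {f : ℕ → ℕ → ℕ → ℕ → ℤ} (hf : f ∈ jumpSub k₀ i r (r - 1)) (σ : ℕ → ℕ)
    (hσ : ∀ q, q ≤ σ q + 1) : (fun q => f (σ q)) ∈ jumpSub k₀ i r r := fun q => by
  obtain ⟨C, hC⟩ := hf (σ q)
  refine ⟨C, fun κ hκ => ?_⟩
  obtain ⟨N, hN⟩ := hC κ hκ
  refine ⟨N, fun n hn s hs => (hN n hn s hs).trans (Int.ofNat_le.2 ?_)⟩
  rcases Nat.eq_zero_or_pos r with rfl | hr
  · simp
  · refine Nat.mul_le_mul_left _ (Nat.mul_le_mul_left _ (Nat.pow_le_pow_right (Nat.succ_pos κ) ?_))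
    have := hσ q
    omega

variable (mc : ℕ → PicM X) (u : PicM X)

/-- The cohomology dimensions below the ends `mc κ ^ n`. -/
noncomputable def jfun (F : X.Modules) : ℕ → ℕ → ℕ → ℕ → ℤ :=
  fun q κ n s => hdim k F q (mc κ ^ n * u ^ s)

theorem jfun_ses {k₀ i r : ℕ} (S : ShortComplex X.Modules) (hS : S.ShortExact)
    (h₁ : Coh.IsCoh S.X₁) (h₂ : Coh.IsCoh S.X₂) (h₃ : Coh.IsCoh S.X₃) :
    (jfun k mc u S.X₁ ∈ jumpSub k₀ i r (r - 1) → jfun k mc u S.X₂ - jfun k mc u S.X₃ ∈ jumpSub k₀ i r r) ∧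
      (jfun k mc u S.X₃ ∈ jumpSub k₀ i r (r - 1) → jfun k mc u S.X₁ - jfun k mc u S.X₂ ∈ jumpSub k₀ i r r) := by
  refine ⟨fun h => jumpSub_of_abs_le (jumpSub_shift h id fun q => Nat.le_succ q)
      (jumpSub_shift h (· + 1) fun q => by show q ≤ q + 1 + 1; omega) fun q a b s => ?_,
    fun h => jumpSub_of_abs_le (jumpSub_shift h id fun q => Nat.le_succ q)
      (jumpSub_shift h (· - 1) fun q => by show q ≤ q - 1 + 1; omega) fun q a b s => ?_⟩
  · obtain ⟨e1, e2, -, -⟩ := hdim_ses k S hS h₁ h₂ h₃ q (mc a ^ b * u ^ s)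
    have n1 := hdim_nonneg k S.X₁ q (mc a ^ b * u ^ s)
    have n2 := hdim_nonneg k S.X₁ (q + 1) (mc a ^ b * u ^ s)
    simp only [jfun, Pi.sub_apply, id] at *
    rw [abs_of_nonneg n1, abs_of_nonneg n2, abs_le]
    constructor <;> linarith
  · simp only [jfun, Pi.sub_apply, id] at *
    rw [abs_of_nonneg (hdim_nonneg k _ _ _), abs_of_nonneg (hdim_nonneg k _ _ _), abs_le]
    cases q with
    | zero =>
      obtain ⟨e1, -, -, e0⟩ := hdim_ses k S hS h₁ h₂ h₃ 0 (mc a ^ b * u ^ s)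
      have n1 := hdim_nonneg k S.X₃ 0 (mc a ^ b * u ^ s)
      simp only [Nat.zero_sub]
      constructor <;> linarith
    | succ q =>
      obtain ⟨-, -, e3, -⟩ := hdim_ses k S hS h₁ h₂ h₃ q (mc a ^ b * u ^ s)
      obtain ⟨e1, -, -, -⟩ := hdim_ses k S hS h₁ h₂ h₃ (q + 1) (mc a ^ b * u ^ s)
      have n1 := hdim_nonneg k S.X₃ (q + 1) (mc a ^ b * u ^ s)
      have n2 := hdim_nonneg k S.X₃ q (mc a ^ b * u ^ s)
      simp only [Nat.add_sub_cancel]
      constructor <;> linarith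

theorem jfun_congr {F G : X.Modules} (e : F ≅ G) : jfun k mc u F = jfun k mc u G :=
  funext fun q => funext fun a => funext fun b => funext fun s => hdim_congr k e q _

/-- **Cohomology below vanishing ends.** -/
theorem jfun_mem_jumpSub (k₀ i : ℕ)
    (hend : ∀ F : X.Modules, Coh.IsCoh F → ∀ q, i < q → ∀ κ, k₀ ≤ κ → ∃ N, ∀ n, N ≤ n → hdim k F q (mc κ ^ n) = 0)
    (hgen : ∀ (r : ℕ) (F : X.Modules), Coh.IsCoh F → topologicalKrullDim (CohB1.support F) < r → ∀ q, q ≤ i →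
      ∃ C : ℕ, ∀ κ, k₀ ≤ κ → ∀ n s, s ≤ 4 * n → hdim k F q (mc κ ^ n * u ^ s) ≤
        ((C * r * ((4 * n + 1) ^ (r - 1) * (κ + 1) ^ (r - 1)) : ℕ) : ℤ)) :
    ∀ (r : ℕ) (F : X.Modules), Coh.IsCoh F → topologicalKrullDim (CohB1.support F) < r →
      jfun k mc u F ∈ jumpSub k₀ i r (r - 1) := by
  haveI := EulerLib.isNoetherian_of_proper (X := X) k
  have hempty : ∀ (F : X.Modules) r e, CohB1.support F = ∅ → jfun k mc u F ∈ jumpSub k₀ i r e := by
    intro F r e h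
    rw [show jfun k mc u F = 0 from ?_]
    · exact zero_mem _
    funext q a b s
    have h' := congrFun (congrFun (congrFun
      (hfun_of_support_empty k (mc a ^ b * u ^ s) 1 F h) q) 1) 0
    simpa [hfun, jfun] using h'
  intro r
  induction r with
  | zero =>
    intro F hF hr
    refine hempty F _ _ (Set.eq_empty_iff_forall_notMem.2 fun y hy => ?_)
    haveI : Nonempty (IrreducibleCloseds (CohB1.support F)) :=
      ⟨⟨closure {⟨y, hy⟩}, isIrreducible_singleton.closure, isClosed_closure⟩⟩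
    exact not_le.2 hr (Order.krullDim_nonneg)
  | succ r ih =>
    intro F hF hr
    let K : X.Modules → Prop := fun M => jfun k mc u M ∈ jumpSub k₀ i (r + 1) r
    have hK : ExtClass K :=
      { iso := fun e h => by
          show jfun k mc u _ ∈ jumpSub _ _ _ _
          rw [← jfun_congr k mc u e]
          exact h
        zero := fun M hM => hempty M _ _ (Set.subset_empty_iff.1 (support_of_isZero hM ∅))
        ext := fun S hS h₁ h₂ h₃ a b => jumpSub_of_abs_le a b fun q κ n s => by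
          obtain ⟨e1, -, -, -⟩ := hdim_ses k S hS h₁ h₂ h₃ q (mc κ ^ n * u ^ s)
          simp only [jfun]
          rw [abs_of_nonneg (hdim_nonneg k _ _ _), abs_of_nonneg (hdim_nonneg k _ _ _),
            abs_of_nonneg (hdim_nonneg k _ _ _)]
          exact e1 }
    refine mem_of_ideals hK (CohB1.support F) (fun y hyF I φ hφ hI _ => ?_) F hF subset_rfl
    let j₀ := (clI y).subschemeι
    haveI := hφ
    haveI : Mono ((Coh.push j₀).map φ) :=
      haveI : (Coh.push j₀).IsRightAdjoint :=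
        (Scheme.Modules.pullbackPushforwardAdjunction j₀).isRightAdjoint
      inferInstance
    haveI := hI
    haveI : Coh.IsQCoh ((Coh.push j₀).obj I) := isQCoh_push j₀ I
    let G := (Coh.push j₀).obj I
    have hG : Coh.IsCoh G :=
      isCoh_of_mono (show G ⟶ clM y from (Coh.push j₀).map φ) (isCoh_clM y) inferInstance
    let j : G ⟶ clM y := (Coh.push j₀).map φ
    haveI : Mono j := inferInstanceAs (Mono ((Coh.push j₀).map φ))
    have hkill : Coherent.Killed y 1 G := by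
      refine killed_of_killedByIdeal isClosed_closure subset_rfl hG ?_
      have h := killedByIdeal_of_mono (clI y).subschemeι (Coh.structureModule _) j
      rwa [Scheme.IdealSheafData.ker_subschemeι] at h
    have hGZ : CohB1.support G ⊆ closure {y} := (support_subset_of_mono j).trans (support_clM_subset y)
    have hdim' : topologicalKrullDim (closure {y} : Set X) ≤ (r : ℕ) := by
      refine (dim_mono hyF).trans ?_
      generalize topologicalKrullDim (CohB1.support F) = a at hr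
      match a with
      | ⊥ => exact bot_le
      | (a : ℕ∞) =>
        rw [Nat.cast_succ] at hr
        exact WithBot.coe_le_coe.2 (ENat.lt_natCast_add_one_iff.1 (WithBot.coe_lt_coe.1 hr))
    have hdimG : topologicalKrullDim (CohB1.support G) < ((r + 1 : ℕ) : WithBot ℕ∞) :=
      lt_of_le_of_lt ((dim_mono hGZ).trans hdim') (by exact_mod_cast r.lt_succ_self)
    have hsmall : ∀ M : X.Modules, Coh.IsCoh M → CohB1.support M ⊆ closure {y} → y ∉ CohB1.support M →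
        jfun k mc u M ∈ jumpSub k₀ i r (r - 1) := fun M hM hMZ hyM =>
      ih M hM (dim_lt_of_notMem (isClosed_support M (locallyFinGen_of_isFT M hM.2)) hMZ isClosed_closure rfl
        hyM hdim')
    obtain ⟨U, hU, hUu⟩ := PicM.exists_eq_of u
    have hstep : (fun q κ n s => jfun k mc u G q κ n (s + 1) - jfun k mc u G q κ n s) ∈ jumpSub k₀ i r r := by
      obtain ⟨W, hyW, g, hg⟩ := exists_isGen hU y
      let ψ : X.Modules → (ℕ → ℕ → ℕ → ℕ → ℤ) ⧸ jumpSub k₀ i r r := fun M =>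
        QuotientAddGroup.mk (jfun k mc u M)
      have h := eq_of_stalk_iso (ψ := ψ) (y := y) (Z := closure {y})
        (fun S hS h₁ h₂ h₃ hsZ hyS => QuotientAddGroup.eq_iff_sub_mem.2
          ((jfun_ses k mc u S hS h₁ h₂ h₃).1 (hsmall _ h₁ hsZ hyS)))
        (fun S hS h₁ h₂ h₃ hsZ hyS => QuotientAddGroup.eq_iff_sub_mem.2
          ((jfun_ses k mc u S hS h₁ h₂ h₃).2 (hsmall _ h₃ hsZ hyS)))
        (isCoh_twist hU hG) hG ((support_twist hU _).le.trans hGZ) hGZ (twistStalkIso hyW hg G).symm (k := 1)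
        hkill
      convert QuotientAddGroup.eq_iff_sub_mem.1 h using 1
      funext q κ n s
      simp only [Pi.sub_apply, jfun]
      rw [hdim_tensor k _ hU, ← hUu, pow_succ]
      congr 2
      ac_rfl
    intro q
    rcases le_or_gt q i with hq | hq
    · obtain ⟨C, hC⟩ := hgen (r + 1) G hG hdimG q hq
      refine ⟨C, fun κ hκ => ⟨0, fun n _ s hs => ?_⟩⟩
      rw [jfun, abs_of_nonneg (hdim_nonneg k _ _ _), Nat.sub_eq_zero_of_le hq, Nat.sub_zero]
      simpa only [Nat.add_sub_cancel] using hC κ hκ n s hs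
    · obtain ⟨C, hC⟩ := hstep q
      refine ⟨C, fun κ hκ => ?_⟩
      obtain ⟨N₁, hN₁⟩ := hC κ hκ
      obtain ⟨N₂, hN₂⟩ := hend G hG q hq κ hκ
      refine ⟨max N₁ N₂, fun n hn s hs => ?_⟩
      have hb : ∀ m, m ≤ s → |jfun k mc u G q κ n m| ≤
          ((m * (C * r * ((4 * n + 1) ^ (r - 1) * (κ + 1) ^ (r - (q - i)))) : ℕ) : ℤ) := by
        intro m hm
        induction m with
        | zero =>
          rw [jfun, pow_zero, _root_.mul_one, hN₂ n (le_of_max_le_right hn)]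
          simp
        | succ m ihm =>
          have e : jfun k mc u G q κ n (m + 1) =
              (jfun k mc u G q κ n (m + 1) - jfun k mc u G q κ n m) + jfun k mc u G q κ n m := by ring
          rw [e]
          refine (abs_add_le _ _).trans ?_
          have := add_le_add (hN₁ n (le_of_max_le_left hn) m (by omega)) (ihm (by omega))
          refine this.trans (le_of_eq ?_)
          push_cast
          ring
      refine (hb s le_rfl).trans (Int.ofNat_le.2 ?_)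
      rw [Nat.add_sub_cancel]
      rcases Nat.eq_zero_or_pos r with rfl | hr0
      · simp
      · obtain ⟨r', rfl⟩ : ∃ r', r = r' + 1 := ⟨r - 1, by omega⟩
        rw [Nat.add_sub_cancel]
        calc s * (C * (r' + 1) * ((4 * n + 1) ^ r' * (κ + 1) ^ (r' + 1 - (q - i))))
            ≤ (4 * n + 1) * (C * (r' + 1 + 1) * ((4 * n + 1) ^ r' * (κ + 1) ^ (r' + 1 - (q - i)))) :=
              Nat.mul_le_mul (by omega) (Nat.mul_le_mul_right _ (Nat.mul_le_mul_left _ (by omega)))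
          _ = _ := by rw [pow_succ]; ring

end Scheme

section Abelian

variable {k : Type u} [Field k] [IsAlgClosed k] {A : Over (Spec (CommRingCat.of k))} [GrpObj A] [IsProper A.hom]
  [GeometricallyIntegral A.hom]

/-- **The index jumps by at most the multiplicity of the root.** -/
theorem index_le_add_rootMultiplicity {g : ℕ} (hg : topologicalKrullDim A.left = g) {l l' : PicM A.left}
    (hl : l * l' = 1) {H : A.left.Modules} (hH : CohB1.IsAmple H) {h' : PicM A.left} (hh : PicM.of hH.1 * h' = 1)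
    {Φ : Polynomial ℚ}
    (hΦ : ∀ a b : ℕ, 0 < a → (eul k A (l ^ a * PicM.of hH.1 ^ b) : ℝ) =
      (a : ℝ) ^ g * (Φ.map (algebraMap ℚ ℝ)).eval ((b : ℝ) / a))
    {a b a' b' : ℕ} (ha : 0 < a) (ha' : 0 < a') {τ : ℝ} (hlo : (b : ℝ) / a < τ) (hhi : τ < (b' : ℝ) / a')
    (huniq : ∀ t : ℝ, (b : ℝ) / a ≤ t → t ≤ (b' : ℝ) / a' → (Φ.map (algebraMap ℚ ℝ)).eval t = 0 → t = τ)
    {i i' : ℕ} (hi : IsIdx A (l ^ a * PicM.of hH.1 ^ b) i) (hi' : IsIdx A (l ^ a' * PicM.of hH.1 ^ b') i') :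
    i ≤ i' + (Φ.map (algebraMap ℚ ℝ)).rootMultiplicity τ := by
  classical
  letI : A.left.Over (Spec (CommRingCat.of k)) := ⟨A.hom⟩
  haveI : IsProper (A.left ↘ Spec (CommRingCat.of k)) := ‹IsProper A.hom›
  haveI := EulerLib.isNoetherian_of_proper (X := A.left) k
  let h := PicM.of hH.1
  let P := Φ.map (algebraMap ℚ ℝ)
  let x : ℝ := (b : ℝ) / a
  let y : ℝ := (b' : ℝ) / a'
  have hx0 : (0 : ℝ) ≤ x := by positivity
  have hlu : ∀ a b : ℕ, l ^ a * h ^ b * (l' ^ a * h' ^ b) = 1 := fun a b => by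
    calc l ^ a * h ^ b * (l' ^ a * h' ^ b) = (l * l') ^ a * (h * h') ^ b := by rw [mul_pow, mul_pow]; ac_rfl
      _ = 1 := by rw [hl, hh, one_pow, one_pow, _root_.one_mul]
  have hPne : P.eval x ≠ 0 := fun e => hlo.ne (huniq x le_rfl (hlo.le.trans hhi.le) e)
  have hP0 : P ≠ 0 := fun e => hPne (by rw [e, Polynomial.eval_zero])
  -- away from the root
  have hne : ∀ α β : ℕ, 0 < α → x ≤ (β : ℝ) / α → (β : ℝ) / α ≤ y → (β : ℝ) / α ≠ τ →
      eul k A (l ^ α * h ^ β) ≠ 0 := by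
    intro α β hα h1 h2 h3 h0
    have h4 := hΦ α β hα
    rw [h0, Int.cast_zero] at h4
    rcases mul_eq_zero.1 h4.symm with h5 | h5
    · exact absurd h5 (pow_ne_zero _ (Nat.cast_ne_zero.2 hα.ne'))
    · exact h3 (huniq _ h1 h2 h5)
  have hlow : ∀ α β : ℕ, 0 < α → x ≤ (β : ℝ) / α → (β : ℝ) / α < τ → IsIdx A (l ^ α * h ^ β) i := by
    intro α β hα h1 h2
    obtain ⟨j, -, hj⟩ := exists_isIdx hg (hlu α β) (hne α β hα h1 (h2.le.trans hhi.le) h2.ne)
    have hle : b * α ≤ β * a := by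
      have := (div_le_div_iff₀ (Nat.cast_pos.2 ha) (Nat.cast_pos.2 hα)).1 h1
      exact_mod_cast this
    have : i = j := index_eq_of_no_root hg hl hh hΦ ha hα hle
      (fun t t1 t2 e => (lt_of_le_of_lt t2 h2).ne (huniq t t1 ((t2.trans h2.le).trans hhi.le) e)) hi hj
    exact this ▸ hj
  have hup : ∀ α β : ℕ, 0 < α → τ < (β : ℝ) / α → (β : ℝ) / α ≤ y → IsIdx A (l ^ α * h ^ β) i' := by
    intro α β hα h1 h2
    obtain ⟨j, -, hj⟩ := exists_isIdx hg (hlu α β) (hne α β hα (hlo.le.trans h1.le) h2 h1.ne')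
    have hle : β * a' ≤ b' * α := by
      have := (div_le_div_iff₀ (Nat.cast_pos.2 hα) (Nat.cast_pos.2 ha')).1 h2
      exact_mod_cast this
    have : j = i' := index_eq_of_no_root hg hl hh hΦ hα ha' hle
      (fun t t1 t2 e => (lt_of_lt_of_le h1 t1).ne' (huniq t ((hlo.le.trans h1.le).trans t1) t2 e)) hj hi'
    exact this ▸ hj
  -- the threshold
  have hd1 : 0 < τ - x := by simp only [x]; linarith
  have hd2 : 0 < y - τ := by simp only [y]; linarith
  obtain ⟨k₀, hk₀⟩ := exists_nat_gt (5 / (τ - x) + 5 / (y - τ))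
  have hkey : ∀ κ : ℕ, k₀ ≤ κ → 5 ≤ (τ - x) * κ ∧ 5 ≤ (y - τ) * κ ∧ 0 < κ := by
    intro κ hκ
    have p1 : 0 < 5 / (τ - x) := div_pos (by norm_num) hd1
    have p2 : 0 < 5 / (y - τ) := div_pos (by norm_num) hd2
    have hκ' : (k₀ : ℝ) ≤ κ := Nat.cast_le.2 hκ
    have q1 : 5 / (τ - x) ≤ κ := by linarith
    have q2 : 5 / (y - τ) ≤ κ := by linarith
    rw [div_le_iff₀ hd1] at q1
    rw [div_le_iff₀ hd2] at q2
    refine ⟨by linarith, by linarith, ?_⟩
    have : (0 : ℝ) < κ := by nlinarith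
    exact_mod_cast this
  let β : ℕ → ℕ := fun κ => ⌈τ * κ⌉₊ + 1
  have hτ0 : 0 < τ := lt_of_le_of_lt hx0 hlo
  have hβ : ∀ κ : ℕ, k₀ ≤ κ → τ * κ + 1 ≤ (β κ : ℝ) ∧ (β κ : ℝ) < τ * κ + 2 ∧ 5 ≤ β κ := by
    intro κ hκ
    have h1 := Nat.le_ceil (τ * κ)
    have h2 := Nat.ceil_lt_add_one (show (0 : ℝ) ≤ τ * κ by positivity)
    obtain ⟨h3, -, -⟩ := hkey κ hκ
    have hc : (β κ : ℝ) = (⌈τ * κ⌉₊ : ℝ) + 1 := by simp [β]
    refine ⟨by linarith, by linarith, ?_⟩
    have : ((5 : ℕ) : ℝ) ≤ (β κ : ℝ) := by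
      have : (0 : ℝ) ≤ x * κ := by positivity
      push_cast
      linarith
    exact_mod_cast this
  let mc : ℕ → PicM A.left := fun κ => l ^ κ * h ^ β κ
  have hsplit : ∀ κ n s : ℕ, k₀ ≤ κ → s ≤ 4 * n →
      mc κ ^ n * h' ^ s = l ^ (n * κ) * h ^ (n * β κ - s) := by
    intro κ n s hκ hs
    obtain ⟨-, -, h5⟩ := hβ κ hκ
    have hle : s ≤ n * β κ := hs.trans (by rw [Nat.mul_comm 4]; exact Nat.mul_le_mul_left _ (by omega))
    calc mc κ ^ n * h' ^ s = l ^ (n * κ) * h ^ (n * β κ - s + s) * h' ^ s := by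
          rw [Nat.sub_add_cancel hle]
          simp only [mc, mul_pow, ← pow_mul, Nat.mul_comm n]
      _ = l ^ (n * κ) * h ^ (n * β κ - s) * (h * h') ^ s := by rw [pow_add, mul_pow]; ac_rfl
      _ = _ := by rw [hh, one_pow, _root_.mul_one]
  -- vanishing above the root
  have hend : ∀ F : A.left.Modules, Coh.IsCoh F → ∀ q, i' < q → ∀ κ, k₀ ≤ κ →
      ∃ N, ∀ n, N ≤ n → hdim k F q (mc κ ^ n) = 0 := by
    intro F hF q hq κ hκ
    suffices hO : ∀ e q, i' < q → ∀ n, e + 1 ≤ n → hdim k (Coh.structureModule A.left) q (mc κ ^ n * h' ^ e) = 0 by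
      obtain ⟨N, hN⟩ := exists_hdim_eq_zero k hH (mc κ) h' hh i' hg.le (fun e q hq => ⟨e + 1, hO e q hq⟩)
        F hF q hq 0
      exact ⟨N, fun n hn => by simpa using hN n hn⟩
    intro e q hq n hn
    · obtain ⟨h1, h2, h3⟩ := hβ κ hκ
      obtain ⟨h4, h5, h6⟩ := hkey κ hκ
      have hle : e ≤ n * β κ := le_trans (by omega) (Nat.le_mul_of_pos_right n (by omega : 0 < β κ))
      have hidx : IsIdx A (l ^ (n * κ) * h ^ (n * β κ - e)) i' := by
        have hnκ : (0 : ℝ) < (n * κ : ℕ) := Nat.cast_pos.2 (Nat.mul_pos (by omega) h6)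
        have hn' : (e : ℝ) < n := Nat.cast_lt.2 (by omega)
        refine hup _ _ (Nat.mul_pos (by omega) h6) ?_ ?_
        · rw [lt_div_iff₀ hnκ, Nat.cast_sub hle]
          push_cast
          nlinarith
        · rw [div_le_iff₀ hnκ, Nat.cast_sub hle]
          push_cast
          nlinarith [(Nat.cast_nonneg e : (0 : ℝ) ≤ e)]
      have hc : mc κ ^ n * h' ^ e = l ^ (n * κ) * h ^ (n * β κ - e) :=
        hsplit κ n e hκ (by omega)
      show hdim k _ q _ = 0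
      rw [hc]
      have := hidx q
      rwa [if_neg (by omega)] at this
  -- growth in all degrees
  have hgen : ∀ (r : ℕ) (F : A.left.Modules), Coh.IsCoh F → topologicalKrullDim (CohB1.support F) < r →
      ∀ q, q ≤ i' → ∃ C : ℕ, ∀ κ, k₀ ≤ κ → ∀ n s, s ≤ 4 * n → hdim k F q (mc κ ^ n * h' ^ s) ≤
        ((C * r * ((4 * n + 1) ^ (r - 1) * (κ + 1) ^ (r - 1)) : ℕ) : ℤ) := by
    intro r F hF hr q _
    obtain ⟨C, hC⟩ := hfun_mem_bddSub k l h r F hF hr q
    refine ⟨C * (⌈τ⌉₊ + 4) ^ (r - 1), fun κ hκ n s hs => ?_⟩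
    rw [hsplit κ n s hκ hs]
    refine (le_abs_self _).trans ((hC (n * κ) (n * β κ - s)).trans (Int.ofNat_le.2 ?_))
    obtain ⟨-, h2, -⟩ := hβ κ hκ
    have hb : β κ ≤ ⌈τ⌉₊ * κ + 2 := by
      have : (β κ : ℝ) ≤ ((⌈τ⌉₊ * κ + 2 : ℕ) : ℝ) := by
        push_cast
        nlinarith [Nat.le_ceil τ, (Nat.cast_nonneg κ : (0 : ℝ) ≤ κ)]
      exact_mod_cast this
    have h7 : n * κ + (n * β κ - s) + 1 ≤ (⌈τ⌉₊ + 4) * ((4 * n + 1) * (κ + 1)) := by
      have := Nat.mul_le_mul_left n hb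
      have h9 : n * κ + n * (⌈τ⌉₊ * κ + 2) + 1 ≤ (⌈τ⌉₊ + 4) * ((4 * n + 1) * (κ + 1)) := by
        nlinarith [Nat.zero_le (n * κ), Nat.zero_le (n * ⌈τ⌉₊), Nat.zero_le (⌈τ⌉₊ * κ),
          Nat.zero_le (n * κ * ⌈τ⌉₊)]
      omega
    calc C * r * (n * κ + (n * β κ - s) + 1) ^ (r - 1)
        ≤ C * r * ((⌈τ⌉₊ + 4) * ((4 * n + 1) * (κ + 1))) ^ (r - 1) :=
          Nat.mul_le_mul_left _ (Nat.pow_le_pow_left h7 _)
      _ = _ := by rw [mul_pow, mul_pow]; ring
  -- conclusion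
  have hO := Coherent.isCoh_structureModule A.left
  have hdimO : topologicalKrullDim (CohB1.support (Coh.structureModule A.left)) < ((g + 1 : ℕ) : WithBot ℕ∞) :=
    lt_of_le_of_lt ((Topology.IsInducing.subtypeVal.topologicalKrullDim_le).trans hg.le)
      (by exact_mod_cast g.lt_succ_self)
  obtain ⟨C, hC⟩ := jfun_mem_jumpSub k mc h' k₀ i' hend hgen (g + 1) _ hO hdimO i
  obtain ⟨j₀, hj₀, hJ₀⟩ := exists_isIdx hg (hlu a b) (hne a b ha le_rfl (hlo.le.trans hhi.le) hlo.ne)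
  have hig : i ≤ g := (hi.unique (hne a b ha le_rfl (hlo.le.trans hhi.le) hlo.ne) hJ₀) ▸ hj₀
  by_contra hcon
  let m := P.rootMultiplicity τ
  have hm : m + 1 ≤ i - i' := by simp only [m, P]; omega
  obtain ⟨ψ, hψ, hψ'⟩ := Polynomial.exists_eq_pow_rootMultiplicity_mul_and_not_dvd P hP0 τ
  have hψne : ∀ t : ℝ, x ≤ t → t ≤ y → ψ.eval t ≠ 0 := by
    intro t t1 t2 e
    have hPt : P.eval t = 0 := by rw [hψ, Polynomial.eval_mul, e, mul_zero]
    exact hψ' (Polynomial.dvd_iff_isRoot.2 (huniq t t1 t2 hPt ▸ e))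
  have hxy : x ≤ y := hlo.le.trans hhi.le
  obtain ⟨t₀, ht₀, hmin⟩ := isCompact_Icc.exists_isMinOn (Set.nonempty_Icc.2 hxy)
    (f := fun t => |ψ.eval t|) ((Polynomial.continuous _).abs.continuousOn)
  have hc : 0 < |ψ.eval t₀| := abs_pos.2 (hψne t₀ ht₀.1 ht₀.2)
  obtain ⟨κ', hκ'⟩ := exists_nat_gt (((C * (g + 1) * 5 ^ g * 2 ^ g : ℕ) : ℝ) / |ψ.eval t₀|)
  let κ := max κ' k₀
  have hκ : k₀ ≤ κ := le_max_right _ _
  obtain ⟨N, hN⟩ := hC κ hκ
  let n := N + 1
  obtain ⟨h1, h2, h3⟩ := hβ κ hκ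
  obtain ⟨h4, h5, h6⟩ := hkey κ hκ
  have hκR : (0 : ℝ) < κ := Nat.cast_pos.2 h6
  have hn0 : 0 < n := Nat.succ_pos _
  have hb3 : ((β κ - 3 : ℕ) : ℝ) = (β κ : ℝ) - 3 := by
    rw [Nat.cast_sub (by omega)]
    norm_num
  let t : ℝ := ((β κ - 3 : ℕ) : ℝ) / κ
  have ht1 : x ≤ t := by
    simp only [t]
    rw [le_div_iff₀ hκR, hb3]
    linarith
  have ht2 : t + 1 / κ ≤ τ := by
    simp only [t]
    rw [← add_div, div_le_iff₀ hκR, hb3]
    linarith
  have ht3 : t < τ := lt_of_lt_of_le (lt_add_of_pos_right _ (by positivity)) ht2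
  have hnat : n * β κ - 3 * n = n * (β κ - 3) := by rw [Nat.mul_comm 3, Nat.mul_sub]
  have hratio : ((n * (β κ - 3) : ℕ) : ℝ) / (n * κ : ℕ) = t := by
    simp only [t]
    push_cast
    rw [mul_div_mul_left _ _ (Nat.cast_ne_zero.2 hn0.ne')]
  have hidx := hlow (n * κ) (n * (β κ - 3)) (Nat.mul_pos hn0 h6) (hratio ▸ ht1) (hratio ▸ ht3)
  have hb := hN n (Nat.le_succ N) (3 * n) (by omega)
  simp only [jfun] at hb
  rw [hsplit κ n (3 * n) hκ (by omega), hnat] at hb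
  have hI := hidx i
  rw [if_pos rfl, hcl] at hI
  rw [hI, abs_abs] at hb
  have hb' : |((eul k A (l ^ (n * κ) * h ^ (n * (β κ - 3))) : ℤ) : ℝ)| ≤
      ((C * (g + 1) * ((4 * n + 1) ^ (g + 1 - 1) * (κ + 1) ^ (g + 1 - 1 - (i - i'))) : ℕ) : ℝ) := by
    rw [← Int.cast_abs]
    exact_mod_cast hb
  rw [hΦ _ _ (Nat.mul_pos hn0 h6), hratio, abs_mul, abs_pow, Nat.abs_cast, Nat.add_sub_cancel] at hb'
  have hval : (1 / (κ : ℝ)) ^ m * |ψ.eval t₀| ≤ |P.eval t| := by
    rw [hψ, Polynomial.eval_mul, Polynomial.eval_pow, Polynomial.eval_sub, Polynomial.eval_X, Polynomial.eval_C,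
      abs_mul, abs_pow]
    refine mul_le_mul (pow_le_pow_left₀ (by positivity) ?_ _) (hmin ⟨ht1, ht3.le.trans hhi.le⟩) (abs_nonneg _)
      (by positivity)
    rw [abs_sub_comm]
    exact le_trans (by linarith) (le_abs_self _)
  have hκ1 : (1 : ℝ) ≤ κ := by exact_mod_cast h6
  have hnR : (1 : ℝ) ≤ n := by exact_mod_cast hn0
  set j := i - i' with hj
  have hkey1 : (n : ℝ) ^ g * (κ : ℝ) ^ g * ((1 / (κ : ℝ)) ^ m * |ψ.eval t₀|) ≤
      ((C * (g + 1) * 5 ^ g * 2 ^ g : ℕ) : ℝ) * (n : ℝ) ^ g * (κ : ℝ) ^ (g - j) := by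
    rw [← mul_pow, ← Nat.cast_mul]
    refine (mul_le_mul_of_nonneg_left hval (by positivity)).trans (hb'.trans ?_)
    have h8 : ((4 * n + 1) ^ g * (κ + 1) ^ (g - j) : ℕ) ≤ 5 ^ g * 2 ^ g * n ^ g * κ ^ (g - j) := by
      calc (4 * n + 1) ^ g * (κ + 1) ^ (g - j) ≤ (5 * n) ^ g * (2 * κ) ^ (g - j) :=
            Nat.mul_le_mul (Nat.pow_le_pow_left (by omega) _) (Nat.pow_le_pow_left (by omega) _)
        _ ≤ (5 * n) ^ g * (2 ^ g * κ ^ (g - j)) := by
            rw [mul_pow 2]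
            exact Nat.mul_le_mul_left _ (Nat.mul_le_mul_right _ (Nat.pow_le_pow_right (by norm_num) (Nat.sub_le _ _)))
        _ = _ := by rw [mul_pow]; ring
    have := Nat.mul_le_mul_left (C * (g + 1)) h8
    refine (Nat.cast_le.2 this).trans (le_of_eq ?_)
    push_cast
    ring
  have hjg : j ≤ g := by omega
  have hkey2 : |ψ.eval t₀| * κ ≤ ((C * (g + 1) * 5 ^ g * 2 ^ g : ℕ) : ℝ) := by
    obtain ⟨d, hd⟩ : ∃ d, g = g - j + (m + 1) + d := ⟨j - (m + 1), by omega⟩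
    have e : (κ : ℝ) ^ g * (1 / (κ : ℝ)) ^ m = (κ : ℝ) ^ (g - j) * κ * (κ : ℝ) ^ d := by
      conv_lhs => rw [hd]
      rw [pow_add, pow_add, pow_succ, one_div, inv_pow]
      field_simp
    have h9 : (n : ℝ) ^ g * (κ : ℝ) ^ (g - j) * (|ψ.eval t₀| * κ * (κ : ℝ) ^ d) ≤
        (n : ℝ) ^ g * (κ : ℝ) ^ (g - j) * ((C * (g + 1) * 5 ^ g * 2 ^ g : ℕ) : ℝ) := by
      calc _ = (n : ℝ) ^ g * ((κ : ℝ) ^ g * (1 / (κ : ℝ)) ^ m) * |ψ.eval t₀| := by rw [e]; ring
        _ = (n : ℝ) ^ g * (κ : ℝ) ^ g * ((1 / (κ : ℝ)) ^ m * |ψ.eval t₀|) := by ring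
        _ ≤ _ := hkey1
        _ = _ := by ring
    refine le_trans ?_ (le_of_mul_le_mul_left h9 (by positivity))
    exact le_mul_of_one_le_right (by positivity) (one_le_pow₀ hκ1)
  rw [div_lt_iff₀ hc] at hκ'
  have : (κ' : ℝ) ≤ κ := Nat.cast_le.2 (le_max_left _ _)
  nlinarith

end Abelian

end Groth.Agent.AbCohLib
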