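import Groth.Agent.WeilFin.EtaleTriv
import Groth.Agent.AbCubeLib.FiniteDegree
import Groth.Agent.VarietyLib.DegBasic
import Groth.Agent.SerreDual.PushEquiv
import Groth.Agent.FlatMorStrat.Supported
import Groth.Agent.AbCubeLib.FiniteQuotient

/-!
# Pulling back along finite flat morphisms of invertible degree is injective on cohomology
-/

set_option autoImplicit false
set_option linter.style.haveILetI false
set_option linter.unusedSectionVars false
set_option backward.isDefEq.respectTransparency.types false
set_option maxHeartbeats 1600000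

universe u

open CategoryTheory CategoryTheory.Limits AlgebraicGeometry Opposite TopologicalSpace
open Groth.Agent Groth.Agent.Coherent Groth.Agent.PicLib Groth.Agent.AmpleLib Groth.Agent.EulerLib

namespace Groth.Agent.AbCohLib

variable {X Y : Scheme.{u}}

/-- The structure sheaf is a summand of `f_* O_Y` when the degree is invertible. -/
theorem exists_retract_pushStr_of_finrank [IsIntegral X] [IsLocallyNoetherian X] (f : Y ⟶ X) [IsFinite f] [Flat f]
    [Surjective f] (d : ℕ) (hd : ∀ x, Scheme.Hom.finrank f x = d) (hu : IsUnit (d : Γ(X, ⊤))) :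
    Nonempty (Retract (Coh.structureModule X) (DQCoh.pushStr f)) := by
  haveI : LocallyOfFinitePresentation f := AbCubeLib.locallyOfFinitePresentation_of_noetherian_base f
  obtain ⟨e⟩ := WeilFin.nonempty_pushStr_iso f
  let A := RelSpec.QCAlg.directImage f
  have hA : FlatMod.IsFinLocFree A.toModule := DCat.PerfTensor.isFinLocFree_of_iso e
    (DQCoh.isFinLocFree_push f ⟨inferInstance, inferInstance, inferInstance⟩ (CohBC.isFinLocFree_structureModule Y))
  obtain ⟨r, hr⟩ := VB5.exists_rank hA
  have hrd : r = d := by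
    rw [← hd (genericPoint X), AbCubeLib.finrank_eq_genRank f (genericPoint X)]
    refine Eq.trans ?_ (AbCubeLib.genRank_congr e).symm
    exact (VarietyLib.finrank_stalk_of_rank hr (genericPoint X)).symm
  subst hrd
  have hτ := FinCovLib29.isTrace_tau A hA
  haveI := FinCovLib29.isSplitEpi_trace hr hτ hu
  exact ⟨(Retract.mk (section_ (FinCovLib29.tau A hA)) (FinCovLib29.tau A hA) (IsSplitEpi.id _) :
    Retract (Coh.structureModule X) A.toModule).trans (Retract.ofIso e.symm)⟩

/-- Vanishing descends along finite flat morphisms of invertible degree. -/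
theorem subsingleton_HH_of_pullback (k : Type u) [Field k] [X.Over (Spec (CommRingCat.of k))]
    [Y.Over (Spec (CommRingCat.of k))] [IsIntegral X] [IsLocallyNoetherian X] [X.IsSeparated] (f : Y ⟶ X)
    (hf : f ≫ (X ↘ Spec (CommRingCat.of k)) = Y ↘ Spec (CommRingCat.of k)) [IsFinite f] [Flat f] [Surjective f]
    (d : ℕ) (hd : ∀ x, Scheme.Hom.finrank f x = d) (hu : (d : k) ≠ 0) (M : X.Modules) [Coh.IsQCoh M] (q : ℕ)
    (h : Subsingleton (Coh.HH Y ((Scheme.Modules.pullback f).obj M) q)) : Subsingleton (Coh.HH X M q) := by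
  have hu' : IsUnit (d : Γ(X, ⊤)) := by
    have h' := (isUnit_iff_ne_zero.2 hu).map (Coh.toGlobal (X ↘ Spec (CommRingCat.of k)))
    rw [map_natCast] at h'
    exact h'
  obtain ⟨ρ⟩ := exists_retract_pushStr_of_finrank f d hd hu'
  haveI : Coh.IsQCoh ((Scheme.Modules.pullback f).obj M) := EGA43.InjFibre.isQCoh_pullback _ _
  haveI := DQCoh.isIso_unitBilin f M
  haveI h1 : Subsingleton (Coh.HH X ((Scheme.Modules.pushforward f).obj ((Scheme.Modules.pullback f).obj M)) q) :=
    (SerreDual.hpush f k hf _ q).symm.toEquiv.subsingleton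
  haveI h2 : Subsingleton (Coh.HH X (CohB1.tensorMod (DQCoh.pushStr f) M) q) :=
    FlatMorStrat.subsingleton_HH_of_iso (asIso (DQCoh.unitBilin f M).desc).symm q h1
  let ρM := ρ.map (SerreDual.twistF M)
  have h3 : Subsingleton (Coh.HH X (CohB1.tensorMod (Coh.structureModule X) M) q) := by
    refine ⟨fun a b => ?_⟩
    have hid : ∀ c, SerreDual.hmap k ρM.r q (SerreDual.hmap k ρM.i q c) = c := fun c => by
      rw [← LinearMap.comp_apply, ← SerreDual.hmap_comp, ρM.retract, SerreDual.hmap_id]
      rfl
    rw [← hid a, ← hid b, h2.elim (SerreDual.hmap k ρM.i q a) (SerreDual.hmap k ρM.i q b)]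
  exact FlatMorStrat.subsingleton_HH_of_iso (unitTensorIso M) q h3

end Groth.Agent.AbCohLib
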