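import Groth.Agent.AbCohLib.Growth
import Groth.Agent.AbCohLib.Index
import Groth.Agent.AbCohLib.EulerInv
import Groth.Agent.AbCohLib.RetractPull
import Groth.Agent.S17505

/-!
# The index is constant under powers and isogenies
-/

set_option autoImplicit false
set_option linter.style.haveILetI false
set_option linter.unusedSectionVars false
set_option backward.isDefEq.respectTransparency.types false
set_option maxHeartbeats 1600000

universe u

open CategoryTheory CategoryTheory.Limits MonoidalCategory CartesianMonoidalCategory MonObj GrpObj AlgebraicGeometry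
  Opposite TopologicalSpace
open Groth.Agent Groth.Agent.Coherent Groth.Agent.PicLib Groth.Agent.AbCubeLib Groth.Agent.AmpleLib
  Groth.Agent.EulerLib Groth.Agent.S17505

namespace Groth.Agent.AbCohLib

variable {k : Type u} [Field k] {A : Over (Spec (CommRingCat.of k))} [GrpObj A] [IsProper A.hom]
  [GeometricallyIntegral A.hom]

/-- The dimension of `H^q` of a class. -/
noncomputable def hcl (A : Over (Spec (CommRingCat.of k))) [IsProper A.hom] (q : ℕ) (c : PicM A.left) : ℤ :=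
  letI : A.left.Over (Spec (CommRingCat.of k)) := ⟨A.hom⟩
  hdim k (Coh.structureModule A.left) q c

/-- `c` has cohomology in degree `i` only. -/
def IsIdx (A : Over (Spec (CommRingCat.of k))) [IsProper A.hom] [GrpObj A] (c : PicM A.left) (i : ℕ) : Prop :=
  ∀ q, hcl A q c = if q = i then |eul k A c| else 0

theorem eul_of {L : A.left.Modules} (hL : PicF.IsInvertible L) :
    eul k A (PicM.of hL) = @Curv2.euler k _ A.left ⟨A.hom⟩ L := by
  letI : A.left.Over (Spec (CommRingCat.of k)) := ⟨A.hom⟩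
  rw [eul, AbCubeLib.invOf_of, EulerLib.chiCl_mk]
  exact euler_congr k A.left (unitTensorIso L)

theorem hcl_eq_finrank (q : ℕ) {L : A.left.Modules} (hL : PicF.IsInvertible L) :
    hcl A q (PicM.of hL) =
      (@Module.finrank k (Coh.HH A.left L q) _ _ (@Coh.moduleOver k _ A.left ⟨A.hom⟩ L q) : ℤ) := by
  letI : A.left.Over (Spec (CommRingCat.of k)) := ⟨A.hom⟩
  haveI : IsProper (A.left ↘ Spec (CommRingCat.of k)) := ‹IsProper A.hom›
  rw [hcl, hdim_eq k _ q hL, (SerreDual.hmapIso k (unitTensorIso L) q).finrank_eq]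

theorem hcl_eq_zero_iff (q : ℕ) {L : A.left.Modules} (hL : PicF.IsInvertible L) :
    hcl A q (PicM.of hL) = 0 ↔ Subsingleton (Coh.HH A.left L q) := by
  letI : A.left.Over (Spec (CommRingCat.of k)) := ⟨A.hom⟩
  haveI : IsProper (A.left ↘ Spec (CommRingCat.of k)) := ‹IsProper A.hom›
  haveI := EulerLib.isNoetherian_of_proper (X := A.left) k
  haveI : Module.Finite k (Coh.HH A.left L q) := (finite_HH_iff k L q).2
    (finCoh_of_isProper (A.left ↘ Spec (CommRingCat.of k)) L (PicLib.isCoh_of_isInvertible hL) q)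
  rw [hcl_eq_finrank q hL, Nat.cast_eq_zero, Module.finrank_zero_iff]

/-- Classes scaled by multiplication by `n`. -/
theorem pb_pow_eq {m m' : PicM A.left} (hm : m * m' = 1) (n : ℕ) :
    pb ((𝟙 A) ^ n) m = m ^ (n * n) * (pb (𝟙 A)⁻¹ m * m') ^ n.choose 2 := by
  have h2 : n * n = (n + 1).choose 2 + n.choose 2 := by
    induction n with
    | zero => rfl
    | succ n ih =>
      rw [choose_two_succ (n + 1), choose_two_succ n] at *
      nlinarith
  rw [pb_pow, pb_id, h2, pow_add, mul_pow]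
  calc m ^ (n + 1).choose 2 * pb (𝟙 A)⁻¹ m ^ n.choose 2
      = m ^ (n + 1).choose 2 * (m * m') ^ n.choose 2 * pb (𝟙 A)⁻¹ m ^ n.choose 2 := by
        rw [hm, one_pow, _root_.mul_one]
    _ = _ := by rw [mul_pow]; ac_rfl

theorem pb_pow_antisymmetric {m m' : PicM A.left} (hm : m * m' = 1) (n b : ℕ) :
    pb ((𝟙 A) ^ n) ((pb (𝟙 A)⁻¹ m * m') ^ b) = ((pb (𝟙 A)⁻¹ m * m') ^ b) ^ n := by
  let w := pb (𝟙 A)⁻¹ m
  let w' := pb (𝟙 A)⁻¹ m'
  haveI : IsCommMonObj A := isCommMonObj_of_isProper_of_geometricallyIntegral A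
  have hw : w * w' = 1 := by
    show PicM.pull _ m * PicM.pull _ m' = 1
    rw [← map_mul, hm, map_one]
  have hww : pb (𝟙 A)⁻¹ w = m := by
    show pb (𝟙 A)⁻¹ (pb (𝟙 A)⁻¹ m) = m
    rw [pb_pb, GrpObj.comp_inv, Category.comp_id, _root_.inv_inv, pb_id]
  show PicM.pull _ ((w * m') ^ b) = _
  rw [map_pow, ← pow_mul, Nat.mul_comm, pow_mul]
  congr 1
  rw [map_mul]
  show pb ((𝟙 A) ^ n) w * pb ((𝟙 A) ^ n) m' = _
  rw [pb_pow, pb_pow, pb_id, pb_id, hww]
  show w ^ (n + 1).choose 2 * m ^ n.choose 2 * (m' ^ (n + 1).choose 2 * w' ^ n.choose 2) = (w * m') ^ n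
  have h2 : (n + 1).choose 2 = n + n.choose 2 := by rw [Nat.choose_succ_succ, Nat.choose_one_right]
  rw [h2, pow_add, pow_add, mul_pow]
  calc w ^ n * w ^ n.choose 2 * m ^ n.choose 2 * (m' ^ n * m' ^ n.choose 2 * w' ^ n.choose 2)
      = w ^ n * m' ^ n * ((m * m') ^ n.choose 2 * (w * w') ^ n.choose 2) := by rw [mul_pow, mul_pow]; ac_rfl
    _ = w ^ n * m' ^ n := by rw [hm, hw, one_pow, _root_.mul_one, _root_.mul_one]

/-- **Euler characteristics of powers.** -/
theorem eul_pow_mul {g : ℕ} (hg : topologicalKrullDim A.left = g) {m m' : PicM A.left} (hm : m * m' = 1)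
    (a b : ℕ) : eul k A (m ^ a * (pb (𝟙 A)⁻¹ m * m') ^ b) = (a : ℤ) ^ g * eul k A m := by
  have hN : ∀ (a b : ℕ), eul k A (m ^ a * (pb (𝟙 A)⁻¹ m * m') ^ b) = eul k A (m ^ a) := fun a b => by
    rw [_root_.mul_comm]
    exact euler_mul_invariant k g hg _ _ fun n => pb_pow_antisymmetric hm n b
  rw [hN]
  obtain ⟨P, hP⟩ := exists_poly_eul hg ⟨m, m', hm, (_root_.mul_comm m' m).trans hm⟩
  have hP' : ∀ n : ℕ, (eul k A (m ^ n) : ℚ) = P.eval (n : ℚ) := fun n => by
    have h := hP n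
    rwa [zpow_natCast, Units.val_pow_eq_pow_val, Int.cast_natCast] at h
  have hx : ∀ x : ℚ, P.eval x = (eul k A m : ℚ) * x ^ g := by
    refine eq_mul_pow (f := fun n => (((n + 1) * (n + 1) : ℕ) : ℚ)) (fun p n h => ?_) fun n => ?_
    · have h' : (p + 1) * (p + 1) = (n + 1) * (n + 1) := Nat.cast_injective h
      exact Nat.succ_injective (Nat.mul_self_inj.1 h')
    · haveI := AbCubeLib.isFinite_pow (A := A) (Nat.succ_pos n)
      haveI := AbCubeLib.flat_pow (A := A) (Nat.succ_pos n)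
      have h := euler_pull k ((𝟙 A) ^ (n + 1)) (AbCubeLib.finrank_pow (Nat.succ_pos n) hg) m
      rw [pb_pow_eq hm, hN] at h
      rw [← hP', h]
      push_cast
      rw [pow_mul, ← sq]
      ring
  have h := (hP' a).trans (hx a)
  have h' : (eul k A (m ^ a) : ℚ) = (((a : ℤ) ^ g * eul k A m : ℤ) : ℚ) := by
    rw [h]; push_cast; ring
  exact_mod_cast h'

variable [IsAlgClosed k]

/-- A class of nonzero Euler characteristic has an index. -/
theorem exists_isIdx {g : ℕ} (hg : topologicalKrullDim A.left = g) {c c' : PicM A.left} (hc : c * c' = 1)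
    (hne : eul k A c ≠ 0) : ∃ i, i ≤ g ∧ IsIdx A c i := by
  obtain ⟨L, hL, rfl⟩ := PicM.exists_eq_of c
  obtain ⟨L', hL', rfl⟩ := PicM.exists_eq_of c'
  rw [eul_of hL] at hne
  have hfin : Set.Finite {x : 𝟙_ (Over (Spec (CommRingCat.of k))) ⟶ A |
      Nonempty ((Scheme.Modules.pullback (𝟙 A * (toUnit A ≫ x)).left).obj L ≅ L)} := by
    by_contra h
    exact hne (S17505.result k A L hL h)
  obtain ⟨i, hi, hvan, -⟩ := exists_index hL hL' hc hfin hg
  refine ⟨i, hi, fun q => ?_⟩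
  split_ifs with hq
  · subst hq
    letI : A.left.Over (Spec (CommRingCat.of k)) := ⟨A.hom⟩
    haveI : IsProper (A.left ↘ Spec (CommRingCat.of k)) := ‹IsProper A.hom›
    rw [eul_of hL, hcl_eq_finrank q hL, EulerLib.euler_eq_sum k A.left L g (fun j hj => hvan j (by omega)),
      Finset.sum_eq_single_of_mem q (Finset.mem_range.2 (by omega)) (fun j _ hj => by
        haveI := hvan j hj
        rw [Module.finrank_zero_of_subsingleton]; simp), abs_mul, abs_pow, abs_neg, abs_one, one_pow,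
      _root_.one_mul, Nat.abs_cast]
  · exact (hcl_eq_zero_iff q hL).2 (hvan q hq)

/-- The index is unique. -/
theorem IsIdx.unique {c : PicM A.left} {i j : ℕ} (hne : eul k A c ≠ 0) (hi : IsIdx A c i) (hj : IsIdx A c j) :
    i = j := by
  by_contra h
  have h1 := hi i
  rw [hj i, if_pos rfl, if_neg h] at h1
  exact hne (abs_eq_zero.1 h1.symm)

/-- Neighbouring twists differ to lower order. -/
theorem exists_neighbour_bound {g : ℕ} (hg : topologicalKrullDim A.left = g) (l₁ l₂ l : PicM A.left) :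
    ∃ C : ℕ, ∀ q, q ≤ g → ∀ a b, |hcl A q (l * (l₁ ^ a * l₂ ^ b)) - hcl A q (l₁ ^ a * l₂ ^ b)| ≤
      ((C * g * (a + b + 1) ^ (g - 1) : ℕ) : ℤ) := by
  classical
  letI : A.left.Over (Spec (CommRingCat.of k)) := ⟨A.hom⟩
  haveI : IsProper (A.left ↘ Spec (CommRingCat.of k)) := ‹IsProper A.hom›
  haveI : IsIntegral A.left := GeometricallyIntegral.isIntegral_of_subsingleton A.hom
  haveI := EulerLib.isNoetherian_of_proper (X := A.left) k
  obtain ⟨L, hL, rfl⟩ := PicM.exists_eq_of l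
  obtain ⟨W, hyW, t, ht⟩ := exists_isGen hL (genericPoint A.left)
  have hO := isCoh_structureModule A.left
  have h := hfun_sub_mem_of_stalk_iso k l₁ l₂ hg (isCoh_twist hL hO) hO
    (twistStalkIso hyW ht (Coh.structureModule A.left)).symm
  choose C hC using h
  refine ⟨(Finset.range (g + 1)).sum C, fun q hq a b => ?_⟩
  have h1 := hC q a b
  simp only [Pi.sub_apply, hfun] at h1
  rw [hdim_tensor k _ hL] at h1
  refine h1.trans (Int.ofNat_le.2 ?_)
  have hle : C q ≤ (Finset.range (g + 1)).sum C :=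
    Finset.single_le_sum (f := C) (fun _ _ => Nat.zero_le _) (Finset.mem_range.2 (by omega))
  exact Nat.mul_le_mul_right _ (Nat.mul_le_mul_right _ hle)

/-- The index is eventually constant on the twists by small multiples of an antisymmetric class. -/
theorem exists_stable_index {g : ℕ} (hg : topologicalKrullDim A.left = g) {m m' : PicM A.left} (hm : m * m' = 1)
    (hne : eul k A m ≠ 0) :
    ∃ I N : ℕ, 0 < N ∧ ∀ a b, N ≤ a → b ≤ a → IsIdx A (m ^ a * (pb (𝟙 A)⁻¹ m * m') ^ b) I := by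
  let w := pb (𝟙 A)⁻¹ m * m'
  have hw : w * (pb (𝟙 A)⁻¹ m' * m) = 1 := by
    have h1 : pb (𝟙 A)⁻¹ m * pb (𝟙 A)⁻¹ m' = 1 := by
      show PicM.pull _ m * PicM.pull _ m' = 1
      rw [← map_mul, hm, map_one]
    calc w * (pb (𝟙 A)⁻¹ m' * m) = (pb (𝟙 A)⁻¹ m * pb (𝟙 A)⁻¹ m') * (m * m') := by
          simp only [w]; ac_rfl
      _ = 1 := by rw [h1, hm, _root_.one_mul]
  let c : ℕ → ℕ → PicM A.left := fun a b => m ^ a * w ^ b
  have heul : ∀ a b, eul k A (c a b) = (a : ℤ) ^ g * eul k A m := fun a b => eul_pow_mul hg hm a b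
  have hidx : ∀ a b, 0 < a → ∃ i, i ≤ g ∧ IsIdx A (c a b) i := fun a b ha =>
    exists_isIdx hg (c' := m' ^ a * (pb (𝟙 A)⁻¹ m' * m) ^ b) (by
      show m ^ a * w ^ b * _ = 1
      calc m ^ a * w ^ b * (m' ^ a * (pb (𝟙 A)⁻¹ m' * m) ^ b)
          = (m * m') ^ a * (w * (pb (𝟙 A)⁻¹ m' * m)) ^ b := by
            rw [mul_pow m, mul_pow w]; ac_rfl
        _ = 1 := by rw [hm, hw, one_pow, one_pow, _root_.one_mul]) (by
      rw [heul]
      exact mul_ne_zero (pow_ne_zero _ (by exact_mod_cast ha.ne')) hne)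
  obtain ⟨C₁, hC₁⟩ := exists_neighbour_bound hg m w m
  obtain ⟨C₂, hC₂⟩ := exists_neighbour_bound hg m w w
  let N := (C₁ + C₂) * g * 3 ^ (g - 1) + 1
  -- the bound beats nothing
  have hsmall : ∀ a b i, N ≤ a → b ≤ a →
      ¬ (|eul k A (c a b)| ≤ ((i * g * (a + b + 1) ^ (g - 1) : ℕ) : ℤ) ∧ i ≤ C₁ + C₂) := by
    rintro a b i ha hb ⟨h, hi⟩
    rw [heul, abs_mul, abs_pow, Nat.abs_cast] at h
    have h1 : (a : ℤ) ^ g ≤ ((i * g * (a + b + 1) ^ (g - 1) : ℕ) : ℤ) :=
      le_trans (le_mul_of_one_le_right (by positivity) (Int.one_le_abs hne)) h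
    have h2 : a ^ g ≤ i * g * (a + b + 1) ^ (g - 1) := by exact_mod_cast h1
    rcases Nat.eq_zero_or_pos g with hg0 | hg0
    · subst hg0; simp at h2
    · have h3 : a ^ g ≤ (C₁ + C₂) * g * 3 ^ (g - 1) * a ^ (g - 1) := by
        refine h2.trans ?_
        rw [Nat.mul_assoc ((C₁ + C₂) * g), ← Nat.mul_pow]
        exact Nat.mul_le_mul (Nat.mul_le_mul_right _ hi) (Nat.pow_le_pow_left (by omega) _)
      have h4 : a ^ g = a * a ^ (g - 1) := by rw [← pow_succ', Nat.sub_add_cancel hg0]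
      rw [h4] at h3
      have h5 := Nat.le_of_mul_le_mul_right h3 (pow_pos (by omega) _)
      omega
  have hnext : ∀ a b (l : PicM A.left) (C : ℕ) (a' b' i i' : ℕ), N ≤ a → b ≤ a → C ≤ C₁ + C₂ → i ≤ g →
      (∀ q, q ≤ g → ∀ a b, |hcl A q (l * (m ^ a * w ^ b)) - hcl A q (m ^ a * w ^ b)| ≤
        ((C * g * (a + b + 1) ^ (g - 1) : ℕ) : ℤ)) →
      l * c a b = c a' b' → IsIdx A (c a b) i → IsIdx A (c a' b') i' → i = i' := by
    intro a b l C a' b' i i' ha hb hC hi hbd hl hI hI'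
    by_contra hne'
    refine hsmall a b C ha hb ⟨?_, hC⟩
    have h1 := hbd i hi a b
    change |hcl A i (l * c a b) - hcl A i (c a b)| ≤ _ at h1
    rw [hl, hI' i, if_neg hne', hI i, if_pos rfl, zero_sub, abs_neg, abs_abs] at h1
    exact h1
  obtain ⟨I, hIg, hI⟩ := hidx N 0 (Nat.succ_pos _)
  have hrow : ∀ a, N ≤ a → IsIdx A (c a 0) I := by
    intro a ha
    induction a, ha using Nat.le_induction with
    | base => exact hI
    | succ a ha ih =>
      obtain ⟨i', hi', hI'⟩ := hidx (a + 1) 0 (Nat.succ_pos _)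
      rwa [hnext a 0 m C₁ (a + 1) 0 I i' ha (Nat.zero_le _) (Nat.le_add_right _ _) hIg hC₁
        (by simp only [c, pow_succ]; ac_rfl) ih hI']
  refine ⟨I, N, Nat.succ_pos _, fun a b ha hb => ?_⟩
  induction b with
  | zero => exact hrow a ha
  | succ b ih =>
    obtain ⟨i', hi', hI'⟩ := hidx a (b + 1) (by omega)
    show IsIdx A (c a (b + 1)) I
    rwa [hnext a b w C₂ a (b + 1) I i' ha (by omega) (Nat.le_add_left _ _) hIg hC₂
      (by simp only [c, pow_succ]; ac_rfl) (ih (by omega)) hI']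

/-- **All powers of a class of nonzero Euler characteristic have the same index.** -/
theorem exists_index_pow {g : ℕ} (hg : topologicalKrullDim A.left = g) {m m' : PicM A.left} (hm : m * m' = 1)
    (hne : eul k A m ≠ 0) : ∃ I : ℕ, ∀ a, 0 < a → IsIdx A (m ^ a) I := by
  obtain ⟨I, N, hN, hI⟩ := exists_stable_index hg hm hne
  refine ⟨I, fun a ha => ?_⟩
  have heul : eul k A (m ^ a) ≠ 0 := by
    have h := eul_pow_mul hg hm a 0
    rw [pow_zero, _root_.mul_one] at h
    rw [h]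
    exact mul_ne_zero (pow_ne_zero _ (by exact_mod_cast ha.ne')) hne
  obtain ⟨n, hn, hn1, hnk⟩ : ∃ n : ℕ, N ≤ n ∧ 0 < n ∧ (n : k) ≠ 0 := by
    by_cases h : ((N : ℕ) : k) = 0
    · refine ⟨N + 1, by omega, by omega, ?_⟩
      rw [Nat.cast_succ, h, _root_.zero_add]
      exact one_ne_zero
    · exact ⟨N, le_rfl, hN, h⟩
  obtain ⟨i, hi, hidx⟩ := exists_isIdx hg (c' := m' ^ a) (by rw [← mul_pow, hm, one_pow]) heul
  suffices hvan : ∀ q, q ≠ I → hcl A q (m ^ a) = 0 by
    by_cases h : i = I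
    · exact h ▸ hidx
    · have h1 := hvan i h
      rw [hidx i, if_pos rfl, abs_eq_zero] at h1
      exact absurd h1 heul
  intro q hq
  obtain ⟨L, hL, hLa⟩ := PicM.exists_eq_of (m ^ a)
  letI : A.left.Over (Spec (CommRingCat.of k)) := ⟨A.hom⟩
  haveI : IsProper (A.left ↘ Spec (CommRingCat.of k)) := ‹IsProper A.hom›
  haveI : IsIntegral A.left := GeometricallyIntegral.isIntegral_of_subsingleton A.hom
  haveI := EulerLib.isNoetherian_of_proper (X := A.left) k
  haveI := EulerLib.isSeparated_of_proper (X := A.left) k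
  haveI := isFinite_pow (A := A) hn1
  haveI := flat_pow (A := A) hn1
  haveI := surjective_pow (A := A) hn1
  haveI : Coh.IsQCoh L := isQCoh_of_isInvertible hL
  rw [hLa, hcl_eq_zero_iff q hL]
  refine subsingleton_HH_of_pullback k ((𝟙 A) ^ n).left (Over.w _) (n ^ (2 * g)) (finrank_pow hn1 hg)
    (by rw [Nat.cast_pow]; exact pow_ne_zero _ hnk) L q ((hcl_eq_zero_iff q (PicLoc.isInvertible_pullback _ hL)).1 ?_)
  rw [← PicM.pull_of _ hL, ← hLa, map_pow]
  show hcl A q (pb ((𝟙 A) ^ n) m ^ a) = 0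
  rw [pb_pow_eq hm, mul_pow, ← pow_mul, ← pow_mul]
  have h1 : N ≤ n * n * a := le_trans hn (le_trans (Nat.le_mul_self n) (Nat.le_mul_of_pos_right _ ha))
  have h2 : n.choose 2 * a ≤ n * n * a := Nat.mul_le_mul_right _ (by
    rw [Nat.choose_two_right]
    exact (Nat.div_le_self _ _).trans (Nat.mul_le_mul_left _ (Nat.sub_le _ _)))
  rw [hI _ _ h1 h2 q, if_neg hq]

end Groth.Agent.AbCohLib
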