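import Groth.Agent.AbCohLib.IndexApply
import Mathlib.Analysis.Polynomial.Basic
import Mathlib.Topology.Order.Compact

/-!
# The index as a function of the ray
-/

set_option autoImplicit false
set_option linter.style.haveILetI false
set_option linter.unusedSectionVars false
set_option backward.isDefEq.respectTransparency.types false
set_option maxHeartbeats 1600000

universe u

open CategoryTheory CategoryTheory.Limits MonoidalCategory CartesianMonoidalCategory MonObj GrpObj AlgebraicGeometry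
  Opposite TopologicalSpace
open Groth.Agent Groth.Agent.Coherent Groth.Agent.PicLib Groth.Agent.AbCubeLib Groth.Agent.AmpleLib
  Groth.Agent.EulerLib Groth.Agent.S17505

namespace Groth.Agent.AbCohLib

variable {k : Type u} [Field k] {A : Over (Spec (CommRingCat.of k))} [GrpObj A] [IsProper A.hom]
  [GeometricallyIntegral A.hom]

theorem eul_pow {g : ℕ} (hg : topologicalKrullDim A.left = g) {m m' : PicM A.left} (hm : m * m' = 1) (a : ℕ) :
    eul k A (m ^ a) = (a : ℤ) ^ g * eul k A m := by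
  have h := eul_pow_mul hg hm a 0
  rwa [pow_zero, _root_.mul_one] at h

/-- `χ(l^a h^b)` is a homogeneous polynomial of degree `g`. -/
theorem exists_ray_poly {g : ℕ} (hg : topologicalKrullDim A.left = g) {l l' h h' : PicM A.left}
    (hl : l * l' = 1) (hh : h * h' = 1) :
    ∃ Φ : Polynomial ℚ, Φ.natDegree ≤ g ∧
      ∀ a b : ℕ, 0 < a → (eul k A (l ^ a * h ^ b) : ℝ) =
        (a : ℝ) ^ g * (Φ.map (algebraMap ℚ ℝ)).eval ((b : ℝ) / a) := by
  classical
  letI : A.left.Over (Spec (CommRingCat.of k)) := ⟨A.hom⟩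
  haveI : IsProper (A.left ↘ Spec (CommRingCat.of k)) := ‹IsProper A.hom›
  haveI := EulerLib.isNoetherian_of_proper (X := A.left) k
  have hO : Coh.IsCoh (Coh.structureModule A.left) := Coherent.isCoh_structureModule _
  have hsupp : topologicalKrullDim (CohB1.support (Coh.structureModule A.left)) ≤ (g : WithBot ℕ∞) :=
    (Topology.IsInducing.subtypeVal.topologicalKrullDim_le).trans hg.le
  obtain ⟨Q, hQdeg, hQ⟩ := EulerLib.snapper k hO hsupp ![AbCubeLib.invOf l, AbCubeLib.invOf h]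
  have hQ' : ∀ x y : ℕ, (eul k A (l ^ x * h ^ y) : ℚ) = MvPolynomial.eval ![(x : ℚ), (y : ℚ)] Q := by
    intro x y
    have e := hQ ![x, y]
    rw [Fin.prod_univ_two] at e
    simp only [Matrix.cons_val_zero, Matrix.cons_val_one, Matrix.cons_val, ← map_pow, ← map_mul] at e
    rw [eul, e]
    refine congrArg (fun v => MvPolynomial.eval v Q) (funext fun i => ?_)
    fin_cases i <;> simp
  let Φ : Polynomial ℚ := MvPolynomial.aeval ![(1 : Polynomial ℚ), Polynomial.X] Q
  have hev : ∀ (v : Fin 2 → Polynomial ℚ) (x : ℚ),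
      (MvPolynomial.aeval v Q).eval x = MvPolynomial.eval (fun i => (v i).eval x) Q := by
    intro v x
    show (Polynomial.aeval x) ((MvPolynomial.aeval v) Q) = _
    rw [MvPolynomial.comp_aeval_apply, MvPolynomial.aeval_eq_eval]
    rfl
  refine ⟨Φ, ?_, fun a b ha => ?_⟩
  · simp only [Φ, MvPolynomial.aeval_def, MvPolynomial.eval₂_eq']
    refine Polynomial.natDegree_sum_le_of_forall_le _ _ fun d hd => ?_
    simp only [Polynomial.algebraMap_eq, Fin.prod_univ_two, Matrix.cons_val_zero, Matrix.cons_val_one, one_pow,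
      _root_.one_mul]
    refine (Polynomial.natDegree_C_mul_le _ _).trans ?_
    rw [Polynomial.natDegree_X_pow]
    refine le_trans ?_ ((MvPolynomial.le_totalDegree hd).trans hQdeg)
    rw [Finsupp.sum_fintype _ _ (fun _ => rfl), Fin.sum_univ_two]
    exact Nat.le_add_left _ _
  · let R : Polynomial ℚ := MvPolynomial.aeval ![Polynomial.C (a : ℚ), Polynomial.C (a : ℚ) * Polynomial.X] Q
    have hRΦ : R = Polynomial.C ((a : ℚ) ^ g) * Φ := by
      refine Polynomial.eq_of_infinite_eval_eq _ _ (Set.infinite_of_injective_forall_mem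
        (f := fun n : ℕ => (n : ℚ)) Nat.cast_injective fun n => ?_)
      show R.eval _ = _
      rw [Polynomial.eval_mul, Polynomial.eval_C, hev, hev]
      have e1 := hQ' a (a * n)
      have e2 := hQ' 1 n
      rw [pow_one] at e2
      have e3 : eul k A (l ^ a * h ^ (a * n)) = (a : ℤ) ^ g * eul k A (l * h ^ n) := by
        rw [Nat.mul_comm, pow_mul, ← mul_pow]
        exact eul_pow hg (m' := l' * h' ^ n) (by
          calc l * h ^ n * (l' * h' ^ n) = l * l' * (h * h') ^ n := by rw [mul_pow]; ac_rfl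
            _ = 1 := by rw [hl, hh, one_pow, _root_.one_mul]) a
      rw [e3] at e1
      push_cast at e1 e2
      rw [e2] at e1
      convert e1.symm using 2
      all_goals
        first
          | refine congrArg MvPolynomial.eval (funext fun i => ?_)
          | refine congrArg (fun v => MvPolynomial.eval v Q) (funext fun i => ?_)
        fin_cases i <;> simp
    have h1 := congrArg (Polynomial.eval ((b : ℚ) / a)) hRΦ
    rw [Polynomial.eval_mul, Polynomial.eval_C, hev] at h1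
    have h2 : (eul k A (l ^ a * h ^ b) : ℚ) = (a : ℚ) ^ g * Φ.eval ((b : ℚ) / a) := by
      rw [← h1, hQ' a b]
      refine congrArg (fun v => MvPolynomial.eval v Q) (funext fun i => ?_)
      fin_cases i
      · simp
      · simp [mul_div_cancel₀, Nat.cast_ne_zero.2 ha.ne']
    have h3 := congrArg (algebraMap ℚ ℝ) h2
    rw [map_mul, map_pow, ← Polynomial.eval₂_at_apply, ← Polynomial.eval_map, map_intCast, map_natCast] at h3
    rw [h3, map_div₀, map_natCast, map_natCast]

variable [IsAlgClosed k]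

/-- **The index is constant between the roots.** -/
theorem index_eq_of_no_root {g : ℕ} (hg : topologicalKrullDim A.left = g) {l l' h h' : PicM A.left}
    (hl : l * l' = 1) (hh : h * h' = 1) {Φ : Polynomial ℚ}
    (hΦ : ∀ a b : ℕ, 0 < a → (eul k A (l ^ a * h ^ b) : ℝ) =
      (a : ℝ) ^ g * (Φ.map (algebraMap ℚ ℝ)).eval ((b : ℝ) / a))
    {a b a' b' : ℕ} (ha : 0 < a) (ha' : 0 < a') (hle : b * a' ≤ b' * a)
    (hroot : ∀ t : ℝ, (b : ℝ) / a ≤ t → t ≤ (b' : ℝ) / a' → (Φ.map (algebraMap ℚ ℝ)).eval t ≠ 0)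
    {i i' : ℕ} (hi : IsIdx A (l ^ a * h ^ b) i) (hi' : IsIdx A (l ^ a' * h ^ b') i') : i = i' := by
  classical
  let x : ℝ := (b : ℝ) / a
  let y : ℝ := (b' : ℝ) / a'
  let F : ℝ → ℝ := fun t => |(Φ.map (algebraMap ℚ ℝ)).eval t|
  have haR : (0 : ℝ) < a := Nat.cast_pos.2 ha
  have haR' : (0 : ℝ) < a' := Nat.cast_pos.2 ha'
  have hxy : x ≤ y := by
    rw [div_le_div_iff₀ haR haR']
    exact_mod_cast hle
  obtain ⟨t₀, ht₀, hmin⟩ := isCompact_Icc.exists_isMinOn (Set.nonempty_Icc.2 hxy)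
    (f := F) ((Polynomial.continuous _).abs.continuousOn)
  have hc : 0 < F t₀ := abs_pos.2 (hroot t₀ ht₀.1 ht₀.2)
  obtain ⟨C, hC⟩ := exists_neighbour_bound hg l h h
  let D : ℕ := b + b' + 2
  obtain ⟨n, hn⟩ := exists_nat_gt (((C * g * D ^ (g - 1) : ℕ) : ℝ) / F t₀)
  let e := n + 1
  let α := e * a * a'
  have hα : 0 < α := by positivity
  have hlu : ∀ a b : ℕ, l ^ a * h ^ b * (l' ^ a * h' ^ b) = 1 := fun a b => by
    calc l ^ a * h ^ b * (l' ^ a * h' ^ b) = (l * l') ^ a * (h * h') ^ b := by rw [mul_pow, mul_pow]; ac_rfl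
      _ = 1 := by rw [hl, hh, one_pow, one_pow, _root_.one_mul]
  have heR : (e : ℝ) ≠ 0 := Nat.cast_ne_zero.2 (Nat.succ_ne_zero n)
  have hin : ∀ β, e * a' * b ≤ β → β ≤ e * a * b' →
      x ≤ (β : ℝ) / α ∧ (β : ℝ) / α ≤ y := by
    intro β h1 h2
    have e1 : x = ((e * a' * b : ℕ) : ℝ) / α := by
      simp only [x, α]; push_cast; field_simp
    have e2 : y = ((e * a * b' : ℕ) : ℝ) / α := by
      simp only [y, α]; push_cast; field_simp
    rw [e1, e2]
    constructor <;> gcongr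
  have hne : ∀ β, e * a' * b ≤ β → β ≤ e * a * b' → eul k A (l ^ α * h ^ β) ≠ 0 := by
    intro β h1 h2 h0
    have h3 := hΦ α β hα
    rw [h0, Int.cast_zero] at h3
    obtain ⟨q1, q2⟩ := hin β h1 h2
    rcases mul_eq_zero.1 h3.symm with h4 | h4
    · exact absurd h4 (pow_ne_zero _ (Nat.cast_ne_zero.2 hα.ne'))
    · exact hroot _ q1 q2 h4
  have hbound : ∀ β, e * a' * b ≤ β → β ≤ e * a * b' → ∀ q, q ≤ g →
      ¬ |eul k A (l ^ α * h ^ β)| ≤ ((C * g * (α + β + 1) ^ (g - 1) : ℕ) : ℤ) := by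
    intro β h1 h2 q _ hle'
    obtain ⟨q1, q2⟩ := hin β h1 h2
    have h3 : |((eul k A (l ^ α * h ^ β) : ℤ) : ℝ)| ≤ ((C * g * (α + β + 1) ^ (g - 1) : ℕ) : ℝ) := by
      rw [← Int.cast_abs]
      exact_mod_cast hle'
    rw [hΦ α β hα, abs_mul, abs_pow, Nat.abs_cast] at h3
    have h4 : (α : ℝ) ^ g * F t₀ ≤ (α : ℝ) ^ g * |(Φ.map (algebraMap ℚ ℝ)).eval ((β : ℝ) / α)| :=
      mul_le_mul_of_nonneg_left (hmin ⟨q1, q2⟩) (by positivity)
    have h5 : C * g * (α + β + 1) ^ (g - 1) ≤ C * g * (D * α) ^ (g - 1) := by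
      refine Nat.mul_le_mul_left _ (Nat.pow_le_pow_left ?_ _)
      have hb : e * a * b' ≤ α * b' := Nat.mul_le_mul_right _ (Nat.le_mul_of_pos_right _ ha')
      have : D * α = α * b + α * b' + 2 * α := by simp only [D]; ring
      omega
    have h6 : (α : ℝ) ^ g * F t₀ ≤ ((C * g * D ^ (g - 1) : ℕ) : ℝ) * (α : ℝ) ^ (g - 1) := by
      refine (h4.trans h3).trans ((Nat.cast_le.2 h5).trans (le_of_eq ?_))
      push_cast
      ring
    rcases Nat.eq_zero_or_pos g with hg0 | hg0
    · subst hg0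
      simp at h6
      linarith
    · rw [show (α : ℝ) ^ g = (α : ℝ) * (α : ℝ) ^ (g - 1) by rw [← pow_succ', Nat.sub_add_cancel hg0]] at h6
      have h7 : (α : ℝ) * F t₀ ≤ ((C * g * D ^ (g - 1) : ℕ) : ℝ) := by
        refine le_of_mul_le_mul_right ?_ (pow_pos (Nat.cast_pos.2 hα) (g - 1))
        linarith
      rw [div_lt_iff₀ hc] at hn
      have h8 : (n : ℝ) < α := by
        have : n < α := lt_of_lt_of_le (Nat.lt_succ_self n) ((Nat.le_mul_of_pos_right _ ha).trans (Nat.le_mul_of_pos_right _ ha'))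
        exact_mod_cast this
      have h9 : (n : ℝ) * F t₀ ≤ (α : ℝ) * F t₀ := mul_le_mul_of_nonneg_right h8.le hc.le
      linarith
  have hidx : ∀ β, e * a' * b ≤ β → β ≤ e * a * b' → ∃ j, j ≤ g ∧ IsIdx A (l ^ α * h ^ β) j := fun β h1 h2 =>
    exists_isIdx hg (hlu α β) (hne β h1 h2)
  have hle2 : e * a' * b ≤ e * a * b' := by
    rw [Nat.mul_assoc, Nat.mul_assoc]
    exact Nat.mul_le_mul_left _ (by linarith)
  obtain ⟨j₀, hj₀, hJ₀⟩ := hidx _ le_rfl hle2
  have hall : ∀ β, e * a' * b ≤ β → β ≤ e * a * b' → IsIdx A (l ^ α * h ^ β) j₀ := by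
    intro β h1
    induction β, h1 using Nat.le_induction with
    | base => exact fun _ => hJ₀
    | succ β h1 ih =>
      intro h2
      obtain ⟨j, hj, hJ⟩ := hidx (β + 1) (by omega) h2
      suffices j₀ = j by rwa [this]
      by_contra hne'
      refine hbound β h1 (by omega) j₀ hj₀ ?_
      have h3 := hC j₀ hj₀ α β
      rw [show h * (l ^ α * h ^ β) = l ^ α * h ^ (β + 1) by rw [pow_succ]; ac_rfl, hJ j₀, if_neg hne',
        ih (by omega) j₀, if_pos rfl, zero_sub, abs_neg, abs_abs] at h3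
      exact h3
  -- scaling
  have hscale : ∀ a b i r, 0 < r → 0 < a → eul k A (l ^ a * h ^ b) ≠ 0 → IsIdx A (l ^ a * h ^ b) i →
      IsIdx A (l ^ (r * a) * h ^ (r * b)) i := by
    intro a b i r hr _ h0 hI
    obtain ⟨I, hI'⟩ := exists_index_pow hg (hlu a b) h0
    have h1 := hI' 1 one_pos
    rw [pow_one] at h1
    rw [hI.unique h0 h1, Nat.mul_comm r, Nat.mul_comm r, pow_mul, pow_mul, ← mul_pow]
    exact hI' r hr
  have h0 : eul k A (l ^ a * h ^ b) ≠ 0 := fun h0 => by
    have h3 := hΦ a b ha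
    rw [h0, Int.cast_zero] at h3
    rcases mul_eq_zero.1 h3.symm with h4 | h4
    · exact absurd h4 (pow_ne_zero _ haR.ne')
    · exact hroot x le_rfl hxy h4
  have h0' : eul k A (l ^ a' * h ^ b') ≠ 0 := fun h0 => by
    have h3 := hΦ a' b' ha'
    rw [h0, Int.cast_zero] at h3
    rcases mul_eq_zero.1 h3.symm with h4 | h4
    · exact absurd h4 (pow_ne_zero _ haR'.ne')
    · exact hroot y hxy le_rfl h4
  have s1 := hscale a b i (e * a') (by positivity) ha h0 hi
  have s2 := hscale a' b' i' (e * a) (by positivity) ha' h0' hi'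
  rw [show e * a' * a = α from Nat.mul_right_comm _ _ _] at s1
  exact (s1.unique (hne _ le_rfl hle2) (hall _ le_rfl hle2)).trans
    (s2.unique (hne _ hle2 le_rfl) (hall _ hle2 le_rfl)).symm

end Groth.Agent.AbCohLib
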