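import Groth.Agent.AbCohLib.IndexJump
import Groth.Agent.Coherent.Serre.Vanishing

/-!
# The index counts the positive roots
-/

set_option autoImplicit false
set_option linter.style.haveILetI false
set_option linter.unusedSectionVars false
set_option backward.isDefEq.respectTransparency.types false
set_option maxHeartbeats 1600000

universe u

open CategoryTheory CategoryTheory.Limits MonoidalCategory CartesianMonoidalCategory MonObj GrpObj AlgebraicGeometry
  Opposite TopologicalSpace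
open Groth.Agent Groth.Agent.Coherent Groth.Agent.PicLib Groth.Agent.AbCubeLib Groth.Agent.AmpleLib
  Groth.Agent.EulerLib Groth.Agent.S17505

namespace Groth.Agent.AbCohLib

variable {k : Type u} [Field k] [IsAlgClosed k] {A : Over (Spec (CommRingCat.of k))} [GrpObj A] [IsProper A.hom]
  [GeometricallyIntegral A.hom]

/-- **The indices of inverse classes add up to the dimension.** -/
theorem IsIdx.add_eq {g : ℕ} (hg : topologicalKrullDim A.left = g) {c c' : PicM A.left} (hc : c * c' = 1)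
    (hne : eul k A c ≠ 0) {i i' : ℕ} (hi : IsIdx A c i) (hi' : IsIdx A c' i') : i + i' = g := by
  obtain ⟨L, hL, rfl⟩ := PicM.exists_eq_of c
  obtain ⟨L', hL', rfl⟩ := PicM.exists_eq_of c'
  have hfin : Set.Finite {x : 𝟙_ (Over (Spec (CommRingCat.of k))) ⟶ A |
      Nonempty ((Scheme.Modules.pullback (𝟙 A * (toUnit A ≫ x)).left).obj L ≅ L)} := by
    by_contra h
    exact hne ((eul_of hL).trans (S17505.result k A L hL h))
  obtain ⟨hvan, hg'⟩ := cohomology_shear hL hL' hc hfin hg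
  haveI hp : IsProper (A ⊗ A).hom := inferInstanceAs (IsProper (pullback.fst A.hom A.hom ≫ A.hom))
  haveI : IsIso (shear A).hom.left := inferInstanceAs (IsIso ((Over.forget _).map (shear A).hom))
  haveI : Coh.IsQCoh (boxMod L L') := AmpleLib.isQCoh_of_isInvertible (isInvertible_boxMod hL hL')
  have hbox₁ : ∀ n, Subsingleton (Coh.HH (A ⊗ A).left (boxMod L L') n) →
      Subsingleton (Coh.HH (A ⊗ A).left (shearMod L L') n) := fun n h =>
    CohEdge27.subsingleton_HH_pullback_iso (shear A).hom.left (A ⊗ A).hom _ n h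
  have hbox₂ : ∀ n, Subsingleton (Coh.HH (A ⊗ A).left (shearMod L L') n) →
      Subsingleton (Coh.HH (A ⊗ A).left (boxMod L L') n) := fun n h => by
    haveI : IsProper ((shear A).hom.left ≫ (A ⊗ A).hom) := inferInstance
    haveI : Coh.IsQCoh (shearMod L L') := AmpleLib.isQCoh_of_isInvertible (isInvertible_shearMod hL hL')
    exact FlatMorStrat.subsingleton_HH_of_iso ((Scheme.Modules.pullbackComp (inv (shear A).hom.left) (shear A).hom.left).app _ ≪≫
      (Scheme.Modules.pullbackCongr (IsIso.inv_hom_id (shear A).hom.left)).app _ ≪≫ (Scheme.Modules.pullbackId _).app _) n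
      (CohEdge27.subsingleton_HH_pullback_iso (inv (shear A).hom.left) ((shear A).hom.left ≫ (A ⊗ A).hom) (shearMod L L') n h)
  obtain ⟨hv, hn⟩ := hi.concentrated hL hne
  have hv' : ∀ j, j ≠ i' → Subsingleton (Coh.HH A.left L' j) := fun j hj =>
    (hcl_eq_zero_iff j hL').1 (by rw [hi' j, if_neg hj])
  by_contra hadd
  rcases subsingleton_or_of_corner A A L L' hL hL' i i'
    (fun r hr hri => Or.inl (hv _ (by omega))) (fun r hr _ => Or.inl (hv _ (by omega)))
    (hbox₂ _ (hvan _ hadd)) with h | h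
  · exact not_subsingleton_iff_nontrivial.2 hn h
  · refine hg' (hbox₁ g (subsingleton_boxM_of_acyclic A A L L' hL hL' (Or.inr fun j => ?_) g))
    rcases eq_or_ne j i' with rfl | hj
    · exact h
    · exact hv' j hj

/-- Large twists have index zero. -/
theorem exists_isIdx_zero (l : PicM A.left) {H : A.left.Modules} (hH : CohB1.IsAmple H) :
    ∃ N : ℕ, ∀ s, N ≤ s → IsIdx A (l * PicM.of hH.1 ^ s) 0 := by
  letI : A.left.Over (Spec (CommRingCat.of k)) := ⟨A.hom⟩
  haveI : IsProper (A.left ↘ Spec (CommRingCat.of k)) := ‹IsProper A.hom›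
  haveI := EulerLib.isNoetherian_of_proper (X := A.left) k
  obtain ⟨L, hL, rfl⟩ := PicM.exists_eq_of l
  obtain ⟨N, hN⟩ := Serre.exists_subsingleton_HH_twist (A := k) hH L (PicLib.isCoh_of_isInvertible hL)
  refine ⟨N, fun s hs q => ?_⟩
  have hT := AmpleLib.isInvertible_tensorMod hL (isInvertible_tensorPow hH.1 s)
  rw [← PicM.of_tensorPow hH.1 s, PicM.of_mul hL (isInvertible_tensorPow hH.1 s)]
  split_ifs with hq
  · subst hq
    rw [eul_of hT, hcl_eq_finrank 0 hT, EulerLib.euler_eq_sum k A.left _ 0 (fun j hj => hN s hs j hj),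
      Finset.sum_range_one, pow_zero, _root_.one_mul, Nat.abs_cast]
  · exact (hcl_eq_zero_iff q hT).2 (hN s hs q (Nat.pos_of_ne_zero hq))

variable {g : ℕ} (hg : topologicalKrullDim A.left = g) {l l' : PicM A.left} (hl : l * l' = 1)
  {H : A.left.Modules} (hH : CohB1.IsAmple H) {h' : PicM A.left} (hh : PicM.of hH.1 * h' = 1)
  {Φ : Polynomial ℚ}
  (hΦ : ∀ a b : ℕ, 0 < a → (eul k A (l ^ a * PicM.of hH.1 ^ b) : ℝ) =
    (a : ℝ) ^ g * (Φ.map (algebraMap ℚ ℝ)).eval ((b : ℝ) / a))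

include hl hh in
theorem mul_inverse (a b : ℕ) :
    l ^ a * PicM.of hH.1 ^ b * (l' ^ a * h' ^ b) = 1 := by
  calc l ^ a * PicM.of hH.1 ^ b * (l' ^ a * h' ^ b) = (l * l') ^ a * (PicM.of hH.1 * h') ^ b := by
        rw [mul_pow, mul_pow]; ac_rfl
    _ = 1 := by rw [hl, hh, one_pow, one_pow, _root_.one_mul]

include hΦ in
theorem eul_ne_zero_of_eval {a b : ℕ} (ha : 0 < a)
    (h : (Φ.map (algebraMap ℚ ℝ)).eval ((b : ℝ) / a) ≠ 0) : eul k A (l ^ a * PicM.of hH.1 ^ b) ≠ 0 := by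
  intro h0
  have h4 := hΦ a b ha
  rw [h0, Int.cast_zero] at h4
  rcases mul_eq_zero.1 h4.symm with h5 | h5
  · exact pow_ne_zero _ (Nat.cast_ne_zero.2 ha.ne') h5
  · exact h h5

include hg hl hh hΦ in
/-- **The index drops by at most the number of roots passed.** -/
theorem index_le_add_card_roots {a b a' b' : ℕ} (ha : 0 < a) (ha' : 0 < a')
    (hle : (b : ℝ) / a ≤ (b' : ℝ) / a')
    (hx : (Φ.map (algebraMap ℚ ℝ)).eval ((b : ℝ) / a) ≠ 0)
    (hy : (Φ.map (algebraMap ℚ ℝ)).eval ((b' : ℝ) / a') ≠ 0)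
    {i i' : ℕ} (hi : IsIdx A (l ^ a * PicM.of hH.1 ^ b) i) (hi' : IsIdx A (l ^ a' * PicM.of hH.1 ^ b') i') :
    i ≤ i' + Multiset.card ((Φ.map (algebraMap ℚ ℝ)).roots.filter
      (fun t => (b : ℝ) / a < t ∧ t < (b' : ℝ) / a')) := by
  classical
  have hP0 : Φ.map (algebraMap ℚ ℝ) ≠ 0 := fun e => hx (by rw [e, Polynomial.eval_zero])
  suffices key : ∀ (n a b i : ℕ), 0 < a → (b : ℝ) / a ≤ (b' : ℝ) / a' →
      (Φ.map (algebraMap ℚ ℝ)).eval ((b : ℝ) / a) ≠ 0 → IsIdx A (l ^ a * PicM.of hH.1 ^ b) i →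
      ((Φ.map (algebraMap ℚ ℝ)).roots.toFinset.filter
        (fun t => (b : ℝ) / a < t ∧ t < (b' : ℝ) / a')).card ≤ n →
      i ≤ i' + Multiset.card ((Φ.map (algebraMap ℚ ℝ)).roots.filter
        (fun t => (b : ℝ) / a < t ∧ t < (b' : ℝ) / a')) from key _ a b i ha hle hx hi le_rfl
  intro n
  induction n with
  | zero =>
    intro a b i ha hle hx hi hn
    have hno : ∀ t : ℝ, (b : ℝ) / a ≤ t → t ≤ (b' : ℝ) / a' → (Φ.map (algebraMap ℚ ℝ)).eval t ≠ 0 := by
      intro t t1 t2 e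
      rcases lt_or_eq_of_le t1 with t1 | rfl
      · rcases lt_or_eq_of_le t2 with t2 | rfl
        · have := Finset.eq_empty_iff_forall_notMem.1 (Finset.card_eq_zero.1 (Nat.le_zero.1 hn)) t
          exact this (Finset.mem_filter.2 ⟨Multiset.mem_toFinset.2 ((Polynomial.mem_roots hP0).2 e), t1, t2⟩)
        · exact hy e
      · exact hx e
    have hnat : b * a' ≤ b' * a := by
      have := (div_le_div_iff₀ (Nat.cast_pos.2 ha) (Nat.cast_pos.2 ha')).1 hle
      exact_mod_cast this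
    rw [index_eq_of_no_root hg hl hh hΦ ha ha' hnat hno hi hi']
    exact Nat.le_add_right _ _
  | succ n ih =>
    intro a b i ha hle hx hi hn
    let S := (Φ.map (algebraMap ℚ ℝ)).roots.toFinset.filter (fun t => (b : ℝ) / a < t ∧ t < (b' : ℝ) / a')
    rcases S.eq_empty_or_nonempty with hS | hS
    · exact ih a b i ha hle hx hi (by rw [show ((Φ.map (algebraMap ℚ ℝ)).roots.toFinset.filter _) = ∅ from hS]; simp)
    obtain ⟨τ, hτS, hτmin⟩ : ∃ τ, τ ∈ S ∧ ∀ t ∈ S, τ ≤ t := ⟨_, S.min'_mem hS, fun t ht => S.min'_le t ht⟩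
    obtain ⟨hτr, hτ1, hτ2⟩ := Finset.mem_filter.1 hτS
    -- a rational point just above the root
    let S' := S.filter (fun t => τ < t)
    obtain ⟨u, hu1, hu2, huy⟩ : ∃ u : ℝ, τ < u ∧ (∀ t ∈ S', u ≤ t) ∧ u ≤ (b' : ℝ) / a' := by
      rcases S'.eq_empty_or_nonempty with h | h
      · exact ⟨_, hτ2, fun t ht => absurd ht (h ▸ Finset.notMem_empty t), le_rfl⟩
      · obtain ⟨hm1, hm2⟩ := Finset.mem_filter.1 (S'.min'_mem h)
        exact ⟨S'.min' h, hm2, fun t ht => S'.min'_le t ht, (Finset.mem_filter.1 hm1).2.2.le⟩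
    obtain ⟨r, hr1, hr2⟩ := exists_rat_btwn hu1
    have hr0 : (0 : ℝ) < (r : ℝ) := lt_of_le_of_lt (by positivity) (hτ1.trans hr1)
    have hnum : 0 < r.num := Rat.num_pos.2 (by exact_mod_cast hr0)
    let a₁ := r.den
    let b₁ := r.num.toNat
    have ha₁ : 0 < a₁ := r.den_pos
    have hb₁ : (b₁ : ℝ) / a₁ = (r : ℝ) := by
      rw [Rat.cast_def]
      congr 1
      rw [← Int.cast_natCast]
      exact congrArg _ (Int.toNat_of_nonneg hnum.le)
    have hmem : ∀ t : ℝ, (b : ℝ) / a < t → t < (b' : ℝ) / a' → (Φ.map (algebraMap ℚ ℝ)).eval t = 0 → t ∈ S :=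
      fun t t1 t2 e => Finset.mem_filter.2 ⟨Multiset.mem_toFinset.2 ((Polynomial.mem_roots hP0).2 e), t1, t2⟩
    have hgap : ∀ t : ℝ, τ < t → t < u → (Φ.map (algebraMap ℚ ℝ)).eval t ≠ 0 := fun t t1 t2 e =>
      not_le.2 t2 (hu2 t (Finset.mem_filter.2 ⟨hmem t (hτ1.trans t1) (lt_of_lt_of_le t2 huy) e, t1⟩))
    have hev₁ : (Φ.map (algebraMap ℚ ℝ)).eval ((b₁ : ℝ) / a₁) ≠ 0 := by
      rw [hb₁]; exact hgap _ hr1 hr2
    obtain ⟨j, -, hj⟩ := exists_isIdx hg (mul_inverse hl hH hh a₁ b₁) (eul_ne_zero_of_eval hH hΦ ha₁ hev₁)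
    have hr2' : (b₁ : ℝ) / a₁ ≤ (b' : ℝ) / a' := by rw [hb₁]; exact hr2.le.trans huy
    have h1 := index_le_add_rootMultiplicity hg hl hH hh hΦ ha ha₁ hτ1 (by rw [hb₁]; exact hr1)
      (fun t t1 t2 e => by
        rw [hb₁] at t2
        rcases lt_trichotomy t τ with h | h | h
        · rcases lt_or_eq_of_le t1 with t1 | rfl
          · exact absurd (hτmin t (hmem t t1 (h.trans hτ2) e)) (not_le.2 h)
          · exact absurd e hx
        · exact h
        · exact absurd e (hgap t h (lt_of_le_of_lt t2 hr2))) hi hj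
    have h2 := ih a₁ b₁ j ha₁ hr2' hev₁ hj (by
      rw [hb₁]
      refine Nat.le_of_lt_succ (lt_of_lt_of_le (Finset.card_lt_card ?_) hn)
      refine Finset.ssubset_iff_of_subset ?_ |>.2 ⟨τ, hτS, fun h =>
        not_lt.2 hr1.le (Finset.mem_filter.1 h).2.1⟩
      intro t ht
      obtain ⟨h1, h2, h3⟩ := Finset.mem_filter.1 ht
      exact Finset.mem_filter.2 ⟨h1, hτ1.trans (hr1.trans h2), h3⟩)
    rw [hb₁] at h2
    have hsum : (Φ.map (algebraMap ℚ ℝ)).roots.count τ +
        Multiset.card ((Φ.map (algebraMap ℚ ℝ)).roots.filter (fun t => (r : ℝ) < t ∧ t < (b' : ℝ) / a')) ≤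
        Multiset.card ((Φ.map (algebraMap ℚ ℝ)).roots.filter
          (fun t => (b : ℝ) / a < t ∧ t < (b' : ℝ) / a')) := by
      rw [Multiset.count_eq_card_filter_eq, ← Multiset.card_add]
      refine Multiset.card_le_card (Multiset.le_iff_count.2 fun t => ?_)
      rw [Multiset.count_add, Multiset.count_filter, Multiset.count_filter, Multiset.count_filter]
      by_cases ht : τ = t
      · subst ht
        rw [if_pos rfl, if_neg (fun h => not_lt.2 hr1.le h.1), if_pos ⟨hτ1, hτ2⟩, _root_.add_zero]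
      · rw [if_neg ht, _root_.zero_add]
        split_ifs with p q <;> try exact le_rfl
        · exact absurd ⟨hτ1.trans (hr1.trans p.1), p.2⟩ q
        · exact Nat.zero_le _
    rw [Polynomial.count_roots] at hsum
    omega

include hg hl hh hΦ in
/-- **Reality of the roots and the index.** -/
theorem card_roots_and_index (hdeg : Φ.natDegree ≤ g) (hne : eul k A l ≠ 0) {i : ℕ} (hi : IsIdx A l i) :
    Multiset.card (Φ.map (algebraMap ℚ ℝ)).roots = (Φ.map (algebraMap ℚ ℝ)).natDegree ∧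
      i = Multiset.card ((Φ.map (algebraMap ℚ ℝ)).roots.filter (fun t => 0 < t)) := by
  classical
  have hev0 : (Φ.map (algebraMap ℚ ℝ)).eval 0 ≠ 0 := by
    intro e
    have := hΦ 1 0 one_pos
    rw [pow_one, pow_zero, _root_.mul_one, Nat.cast_zero, zero_div, e, mul_zero, Int.cast_eq_zero] at this
    exact hne this
  have hP0 : Φ.map (algebraMap ℚ ℝ) ≠ 0 := fun e => hev0 (by rw [e, Polynomial.eval_zero])
  obtain ⟨N₁, hN₁⟩ := exists_isIdx_zero l hH
  obtain ⟨N₂, hN₂⟩ := exists_isIdx_zero l' hH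
  obtain ⟨N₃, hN₃⟩ := exists_nat_gt (((Φ.map (algebraMap ℚ ℝ)).roots.map fun t => |t|).sum)
  let N := N₁ + N₂ + N₃
  have hroot : ∀ t : ℝ, (Φ.map (algebraMap ℚ ℝ)).eval t = 0 → -(N : ℝ) < t ∧ t < N := by
    intro t ht
    have h1 : |t| ≤ ((Φ.map (algebraMap ℚ ℝ)).roots.map fun t => |t|).sum :=
      Multiset.single_le_sum (fun x hx => by
        obtain ⟨y, -, rfl⟩ := Multiset.mem_map.1 hx
        exact abs_nonneg y) _ (Multiset.mem_map_of_mem _ ((Polynomial.mem_roots hP0).2 ht))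
    have h3 : (N₃ : ℝ) ≤ N := Nat.cast_le.2 (Nat.le_add_left _ _)
    have h2 : |t| < N := by linarith
    exact abs_lt.1 h2
  let h := PicM.of hH.1
  let l₀ := l * h' ^ N
  let l₀' := l' * h ^ N
  have hl₀ : l₀ * l₀' = 1 := by
    calc l * h' ^ N * (l' * h ^ N) = l * l' * (h * h') ^ N := by rw [mul_pow]; ac_rfl
      _ = 1 := by rw [hl, hh, one_pow, _root_.one_mul]
  obtain ⟨Φ₀, -, hΦ₀⟩ := exists_ray_poly hg (h := h) (h' := h') hl₀ hh
  have hshift : ∀ a b : ℕ, l₀ ^ a * h ^ (b + a * N) = l ^ a * h ^ b := fun a b => by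
    calc (l * h' ^ N) ^ a * h ^ (b + a * N) = l ^ a * h ^ b * (h * h') ^ (a * N) := by
          rw [mul_pow, mul_pow, ← pow_mul, Nat.mul_comm N, pow_add]; ac_rfl
      _ = _ := by rw [hh, one_pow, _root_.mul_one]
  have hcomp : ∀ t : ℝ, (Φ₀.map (algebraMap ℚ ℝ)).eval t = (Φ.map (algebraMap ℚ ℝ)).eval (t - N) := by
    have : Φ₀.map (algebraMap ℚ ℝ) = (Φ.map (algebraMap ℚ ℝ)).comp (Polynomial.X - Polynomial.C (N : ℝ)) := by
      refine Polynomial.eq_of_infinite_eval_eq _ _ (Set.infinite_of_injective_forall_mem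
        (f := fun n : ℕ => ((n + N : ℕ) : ℝ)) (Nat.cast_injective.comp (add_left_injective N)) fun n => ?_)
      show Polynomial.eval _ _ = Polynomial.eval _ _
      rw [Polynomial.eval_comp, Polynomial.eval_sub, Polynomial.eval_X, Polynomial.eval_C]
      have e1 := hΦ₀ 1 (n + N) one_pos
      have e2 := hΦ 1 n one_pos
      rw [show n + N = n + 1 * N by omega, hshift 1 n, e2] at e1
      simpa using e1.symm
    intro t
    rw [this, Polynomial.eval_comp, Polynomial.eval_sub, Polynomial.eval_X, Polynomial.eval_C]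
  -- the index at the lower end
  have he0 : (Φ₀.map (algebraMap ℚ ℝ)).eval (((0 : ℕ) : ℝ) / ((1 : ℕ) : ℝ)) ≠ 0 := by
    rw [hcomp]
    intro e
    have := (hroot _ e).1
    simp at this
  have heul₀ : eul k A l₀ ≠ 0 := by
    have := eul_ne_zero_of_eval (l := l₀) hH hΦ₀ one_pos he0
    rwa [pow_one, pow_zero, _root_.mul_one] at this
  obtain ⟨i₀, -, hi₀⟩ := exists_isIdx hg hl₀ heul₀
  have hig : i₀ = g := by
    simpa using hi₀.add_eq hg hl₀ heul₀ (hN₂ N (by omega))
  subst hig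
  have hi₀' : IsIdx A (l₀ ^ 1 * h ^ 0) i₀ := by rwa [pow_one, pow_zero, _root_.mul_one]
  have hmid : IsIdx A (l₀ ^ 1 * h ^ N) i := by
    have := hshift 1 0
    rw [_root_.zero_add, Nat.one_mul, pow_zero, _root_.mul_one, pow_one l] at this
    rwa [this]
  have hmid' : (Φ₀.map (algebraMap ℚ ℝ)).eval ((N : ℝ) / ((1 : ℕ) : ℝ)) ≠ 0 := by
    rw [hcomp, Nat.cast_one, div_one, sub_self]; exact hev0
  have h1 := index_le_add_card_roots hg hl₀ hH hh hΦ₀ one_pos one_pos (by simp) he0 hmid' hi₀' hmid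
  -- the index at the upper end
  have htop : IsIdx A (l ^ 1 * h ^ N) 0 := by rw [pow_one]; exact hN₁ N (by omega)
  have htop' : (Φ.map (algebraMap ℚ ℝ)).eval ((N : ℝ) / ((1 : ℕ) : ℝ)) ≠ 0 := by
    rw [Nat.cast_one, div_one]
    exact fun e => (hroot _ e).2.false
  have hi' : IsIdx A (l ^ 1 * h ^ 0) i := by rwa [pow_one, pow_zero, _root_.mul_one]
  have h2 := index_le_add_card_roots hg hl hH hh hΦ one_pos one_pos (by simp) (by simpa using hev0) htop' hi' htop
  -- the roots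
  let R := (Φ.map (algebraMap ℚ ℝ)).roots
  have hroots : (Φ₀.map (algebraMap ℚ ℝ)).roots = R.map (fun t => t + (N : ℝ)) := by
    rw [show Φ₀.map (algebraMap ℚ ℝ) = (Φ.map (algebraMap ℚ ℝ)).comp (Polynomial.X - Polynomial.C (N : ℝ)) from
      Polynomial.funext fun t => by
        rw [hcomp, Polynomial.eval_comp, Polynomial.eval_sub, Polynomial.eval_X, Polynomial.eval_C]]
    rw [show (Polynomial.X - Polynomial.C (N : ℝ)) = Polynomial.C (1 : ℝ) * Polynomial.X + Polynomial.C (-(N : ℝ)) by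
        rw [map_one, _root_.one_mul, map_neg, sub_eq_add_neg],
      Polynomial.roots_comp_C_mul_X_add_C _ _ _ isUnit_one]
    exact Multiset.map_congr rfl fun t _ => by simp
  rw [hroots, Multiset.filter_map, Multiset.card_map] at h1
  have hn : Multiset.card (R.filter ((fun t => ((0 : ℕ) : ℝ) / ((1 : ℕ) : ℝ) < t ∧ t < (N : ℝ) / ((1 : ℕ) : ℝ)) ∘
      fun t => t + (N : ℝ))) ≤ Multiset.card (R.filter (fun t => ¬ 0 < t)) :=
    Multiset.card_le_card (Multiset.monotone_filter_right _ fun t ht => by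
      simp only [Function.comp, Nat.cast_one, div_one] at ht
      linarith [ht.2])
  have hp : Multiset.card (R.filter (fun t => ((0 : ℕ) : ℝ) / ((1 : ℕ) : ℝ) < t ∧ t < (N : ℝ) / ((1 : ℕ) : ℝ))) ≤
      Multiset.card (R.filter (fun t => 0 < t)) :=
    Multiset.card_le_card (Multiset.monotone_filter_right _ fun t ht => by
      simpa using ht.1)
  have hsum : Multiset.card (R.filter (fun t => 0 < t)) + Multiset.card (R.filter (fun t => ¬ 0 < t)) =
      Multiset.card R := by rw [← Multiset.card_add, Multiset.filter_add_not]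
  have hR := Polynomial.card_roots' (Φ.map (algebraMap ℚ ℝ))
  have hd : (Φ.map (algebraMap ℚ ℝ)).natDegree ≤ i₀ := by rwa [Polynomial.natDegree_map]
  simp only [R] at h1 h2 hn hp hsum hR ⊢
  constructor <;> omega

end Groth.Agent.AbCohLib
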