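import Groth.Agent.AbCohLib.IndexRoots
import Groth.Agent.AbCohLib.IndexField
import Groth.Agent.EulerLib.FieldExt

/-!
# The index and the roots of the Hilbert polynomial, over any field
-/

set_option autoImplicit false
set_option linter.style.haveILetI false
set_option linter.unusedSectionVars false
set_option backward.isDefEq.respectTransparency.types false
set_option maxHeartbeats 1600000

universe u

open CategoryTheory CategoryTheory.Limits MonoidalCategory CartesianMonoidalCategory MonObj GrpObj AlgebraicGeometry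
  Opposite TopologicalSpace
open Groth.Agent Groth.Agent.Coherent Groth.Agent.PicLib Groth.Agent.AbCubeLib Groth.Agent.AmpleLib
  Groth.Agent.EulerLib Groth.Agent.S17505

namespace Groth.Agent.AbCohLib

/-- A class concentrated in degree `i` has index `i`. -/
theorem isIdx_of_concentrated {k : Type u} [Field k] {A : Over (Spec (CommRingCat.of k))} [GrpObj A] [IsProper A.hom]
    [GeometricallyIntegral A.hom] {L : A.left.Modules} (hL : PicF.IsInvertible L) {i : ℕ}
    (hvan : ∀ j : ℕ, j ≠ i → Subsingleton (Coh.HH A.left L j)) : IsIdx A (PicM.of hL) i := by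
  letI : A.left.Over (Spec (CommRingCat.of k)) := ⟨A.hom⟩
  haveI : IsProper (A.left ↘ Spec (CommRingCat.of k)) := ‹IsProper A.hom›
  haveI := EulerLib.isNoetherian_of_proper (X := A.left) k
  intro q
  split_ifs with hq
  · subst hq
    rw [eul_of hL, hcl_eq_finrank q hL, EulerLib.euler_eq_sum k A.left L q (fun j hj => hvan j (by omega)),
      Finset.sum_eq_single_of_mem q (Finset.mem_range.2 (by omega)) (fun j _ hj => by
        haveI := hvan j hj
        rw [Module.finrank_zero_of_subsingleton]; simp), abs_mul, abs_pow, abs_neg, abs_one, one_pow,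
      _root_.one_mul, Nat.abs_cast]
  · exact (hcl_eq_zero_iff q hL).2 (hvan q hq)

/-- The data of the index theorems over an algebraically closed field. -/
structure RayData (Φ : Polynomial ℚ) (i : ℕ) (P : ∀ (K : Type u) [Field K] [IsAlgClosed K]
    (A : Over (Spec (CommRingCat.of K))) [GrpObj A] [IsProper A.hom] [GeometricallyIntegral A.hom],
    PicM A.left → Prop) : Prop where
  out : ∃ (K : Type u) (_ : Field K) (_ : IsAlgClosed K) (A : Over (Spec (CommRingCat.of K))) (_ : GrpObj A)
    (_ : IsProper A.hom) (_ : GeometricallyIntegral A.hom) (g : ℕ) (_ : topologicalKrullDim A.left = g)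
    (l l' : PicM A.left) (_ : l * l' = 1) (H : A.left.Modules) (hH : CohB1.IsAmple H) (h' : PicM A.left)
    (_ : PicM.of hH.1 * h' = 1), IsIdx A l i ∧ eul K A l ≠ 0 ∧ Φ.natDegree ≤ g ∧ P K A (l * PicM.of hH.1) ∧
      ∀ a b : ℕ, 0 < a → (eul K A (l ^ a * PicM.of hH.1 ^ b) : ℝ) =
        (a : ℝ) ^ g * (Φ.map (algebraMap ℚ ℝ)).eval ((b : ℝ) / a)

variable {k : Type u} [Field k] {X : Over (Spec (CommRingCat.of k))} [GrpObj X] [IsProper X.hom]
  [GeometricallyIntegral X.hom] {L H : X.left.Modules}

/-- **Reduction to an algebraically closed field.** -/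
theorem exists_rayData (hL : PicF.IsInvertible L) {i : ℕ}
    (hvan : ∀ j : ℕ, j ≠ i → Subsingleton (Coh.HH X.left L j)) (hne : Nontrivial (Coh.HH X.left L i))
    (hH : CohB1.IsAmple H) {Φ : Polynomial ℚ}
    (hΦ : ∀ n : ℕ, Φ.eval (n : ℚ) =
      (@Curv2.euler k _ X.left ⟨X.hom⟩ (CohB1.tensorMod L (CohB1.tensorPow H n)) : ℚ))
    (P : ∀ (K : Type u) [Field K] [IsAlgClosed K] (A : Over (Spec (CommRingCat.of K))) [GrpObj A]
      [IsProper A.hom] [GeometricallyIntegral A.hom], PicM A.left → Prop)
    (hP : let K := AlgebraicClosure k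
      let s := Spec.map (CommRingCat.ofHom (algebraMap k K))
      ∀ (_ : GrpObj ((Over.pullback s).obj X)) (_ : IsProper ((Over.pullback s).obj X).hom)
        (_ : GeometricallyIntegral ((Over.pullback s).obj X).hom),
        P K ((Over.pullback s).obj X) (PicM.pull (pullback.fst X.hom s) (PicM.of hL * PicM.of hH.1))) :
    RayData Φ i P := by
  let K := AlgebraicClosure k
  let s := Spec.map (CommRingCat.ofHom (algebraMap k K))
  let A := (Over.pullback s).obj X
  letI : GrpObj A := Functor.grpObjObj
  haveI : IsProper A.hom := inferInstanceAs (IsProper (pullback.snd X.hom s))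
  haveI : GeometricallyIntegral A.hom := inferInstanceAs (GeometricallyIntegral (pullback.snd X.hom s))
  let π : A.left ⟶ X.left := pullback.fst X.hom s
  letI : X.left.Over (Spec (CommRingCat.of k)) := ⟨X.hom⟩
  haveI : IsProper (X.left ↘ Spec (CommRingCat.of k)) := ‹IsProper X.hom›
  haveI := EulerLib.isNoetherian_of_proper (X := X.left) k
  haveI : IsAffineHom π := MorphismProperty.pullback_fst _ _ inferInstance
  have hLK := PicLoc.isInvertible_pullback π hL
  have hHK : CohB1.IsAmple ((Scheme.Modules.pullback π).obj H) := AmpleLib.isAmple_pullback_of_isAffineHom π hH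
  obtain ⟨g, hg⟩ := AbCubeLib.exists_dim_eq A
  obtain ⟨l', hl⟩ := exists_inverse hLK
  obtain ⟨h', hh⟩ := exists_inverse hHK.1
  have hvanK : ∀ j, j ≠ i → Subsingleton (Coh.HH A.left ((Scheme.Modules.pullback π).obj L) j) :=
    fun j hj => (subsingleton_HH_bc_iff k K X L hL j).1 (hvan j hj)
  have hneK : Nontrivial (Coh.HH A.left ((Scheme.Modules.pullback π).obj L) i) :=
    not_subsingleton_iff_nontrivial.1 fun h =>
      not_subsingleton_iff_nontrivial.2 hne ((subsingleton_HH_bc_iff k K X L hL i).2 h)
  have heul := eul_ne_zero_of_concentrated hLK hvanK hneK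
  have hcl : PicM.pull π (PicM.of hL * PicM.of hH.1) = PicM.of hLK * PicM.of hHK.1 := by
    rw [map_mul, PicM.pull_of, PicM.pull_of]
  -- the polynomial of the extended classes
  have hval : ∀ n : ℕ, (eul K A (PicM.of hLK * PicM.of hHK.1 ^ n) : ℚ) = Φ.eval (n : ℚ) := by
    intro n
    have hT := AmpleLib.isInvertible_tensorMod hL (isInvertible_tensorPow hH.1 n)
    have e : PicM.of hLK * PicM.of hHK.1 ^ n = PicM.of (PicLoc.isInvertible_pullback π hT) := by
      rw [← PicM.pull_of π hT, ← PicM.of_mul hL (isInvertible_tensorPow hH.1 n), map_mul, PicM.of_tensorPow hH.1,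
        map_pow, PicM.pull_of, PicM.pull_of]
    rw [hΦ n, e, eul_of]
    exact congrArg _ (EulerLib.euler_bc k K (X := X.left) _ (isQCoh_of_isInvertible hT))
  obtain ⟨Ψ, hΨ, hΨ'⟩ := exists_ray_poly hg (h := PicM.of hHK.1) hl hh
  have hΨΦ : Ψ = Φ := by
    refine Polynomial.eq_of_infinite_eval_eq _ _ (Set.infinite_of_injective_forall_mem
      (f := fun n : ℕ => (n : ℚ)) Nat.cast_injective fun n => ?_)
    show Ψ.eval _ = _
    have e := hΨ' 1 n one_pos
    rw [pow_one, Nat.cast_one, one_pow, _root_.one_mul, div_one] at e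
    have e2 : ((Ψ.eval (n : ℚ) : ℚ) : ℝ) = ((eul K A (PicM.of hLK * PicM.of hHK.1 ^ n) : ℚ) : ℝ) := by
      rw [Rat.cast_intCast, e, Polynomial.eval_map, ← map_natCast (algebraMap ℚ ℝ) n, Polynomial.eval₂_at_apply,
        eq_ratCast]
    rw [Rat.cast_injective e2, hval]
  subst hΨΦ
  exact ⟨⟨K, inferInstance, inferInstance, A, inferInstance, inferInstance, inferInstance, g, hg,
    PicM.of hLK, l', hl, _, hHK, h', hh, isIdx_of_concentrated hLK hvanK, heul, hΨ,
    hcl ▸ hP inferInstance inferInstance inferInstance, hΨ'⟩⟩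

/-- The transfer for a second module. -/
theorem isIdx_bc {M : X.left.Modules} (hM : PicF.IsInvertible M) {i : ℕ}
    (hvan : ∀ j : ℕ, j ≠ i → Subsingleton (Coh.HH X.left M j)) (hne : Nontrivial (Coh.HH X.left M i))
    [GrpObj ((Over.pullback (Spec.map (CommRingCat.ofHom (algebraMap k (AlgebraicClosure k))))).obj X)]
    [IsProper ((Over.pullback (Spec.map (CommRingCat.ofHom (algebraMap k (AlgebraicClosure k))))).obj X).hom]
    [GeometricallyIntegral ((Over.pullback (Spec.map (CommRingCat.ofHom (algebraMap k (AlgebraicClosure k))))).obj X).hom] :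
    IsIdx ((Over.pullback (Spec.map (CommRingCat.ofHom (algebraMap k (AlgebraicClosure k))))).obj X)
        (PicM.pull (pullback.fst X.hom (Spec.map (CommRingCat.ofHom (algebraMap k (AlgebraicClosure k))))) (PicM.of hM)) i ∧
      eul (AlgebraicClosure k) ((Over.pullback (Spec.map (CommRingCat.ofHom (algebraMap k (AlgebraicClosure k))))).obj X)
        (PicM.pull (pullback.fst X.hom (Spec.map (CommRingCat.ofHom (algebraMap k (AlgebraicClosure k))))) (PicM.of hM)) ≠ 0 := by
  have hvanK := fun j hj => (subsingleton_HH_bc_iff k (AlgebraicClosure k) X M hM j).1 (hvan j hj)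
  have hneK := not_subsingleton_iff_nontrivial.1 fun h =>
    not_subsingleton_iff_nontrivial.2 hne ((subsingleton_HH_bc_iff k (AlgebraicClosure k) X M hM i).2 h)
  rw [PicM.pull_of]
  exact ⟨isIdx_of_concentrated _ hvanK, eul_ne_zero_of_concentrated _ hvanK hneK⟩

end Groth.Agent.AbCohLib
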