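import Groth.Agent.AbCohLib.Semilinear
import Groth.Agent.AbCohLib.ArtinTriv
import Groth.Agent.CohEdge27.FibreCrit
import Groth.Agent.AbCubeLib.CubeRel
import Groth.Agent.EulerLib.SupportVanishing
import Groth.Agent.VarietyLib.SmoothStalk
import Groth.Agent.NeronLib.Regular
import Groth.Agent.AbDualLib.Basic
import Groth.Agent.SeeSaw5.Triv
import Groth.Agent.S0354
import Groth.Agent.AbDualLib.DualDim

/-!
# The cohomology of the structure module, and of a Poincaré family near the origin
-/

set_option autoImplicit false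
set_option linter.style.haveILetI false
set_option linter.unusedSectionVars false
set_option backward.isDefEq.respectTransparency false
set_option maxHeartbeats 1600000

universe u

open CategoryTheory CategoryTheory.Limits MonoidalCategory CartesianMonoidalCategory MonObj AlgebraicGeometry
open TopologicalSpace
open scoped Matrix
open Groth.Agent Groth.Agent.Coherent Groth.Agent.Coherent.CohBC Groth.Agent.PicLib Groth.Agent.AbCubeLib

namespace Groth.Agent.AbCohLib

variable {k : Type u} [Field k]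

/-- Whiskering gives a cartesian square. -/
theorem isPullback_whiskerRight {T W : Over (Spec (CommRingCat.of k))} (t : T ⟶ W) (A : Over (Spec (CommRingCat.of k))) :
    IsPullback (t ▷ A).left (fst T A).left (fst W A).left t.left := by
  refine IsPullback.of_right ?_ ?_ (IsPullback.of_hasPullback W.hom A.hom).flip
  · have e₁ : (t ▷ A).left ≫ (snd W A).left = (snd T A).left := by rw [← Over.comp_left, whiskerRight_snd]
    erw [e₁]
    rw [Over.w t]
    exact (IsPullback.of_hasPullback T.hom A.hom).flip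
  · rw [← Over.comp_left, whiskerRight_fst, Over.comp_left]

/-- A rational point gives a cartesian slice. -/
theorem isPullback_slice {T : Over (Spec (CommRingCat.of k))} (w : 𝟙_ (Over (Spec (CommRingCat.of k))) ⟶ T)
    (A : Over (Spec (CommRingCat.of k))) :
    IsPullback (lift (toUnit A ≫ w) (𝟙 A)).left A.hom (fst T A).left w.left := by
  have hW : (toUnit A).left = A.hom := (Category.comp_id _).symm.trans (Over.w (toUnit A))
  refine IsPullback.of_right ?_ ?_ (IsPullback.of_hasPullback T.hom A.hom).flip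
  · have e₁ : (lift (toUnit A ≫ w) (𝟙 A)).left ≫ (snd T A).left = 𝟙 _ := by
      rw [← Over.comp_left, lift_snd, Over.id_left]
    erw [e₁]
    rw [show w.left ≫ T.hom = 𝟙 _ from Over.w w]
    exact @IsPullback.of_horiz_isIso _ _ _ _ _ _ _ _ _ _ (IsIso.id _) (IsIso.id _) ⟨by simp⟩
  · rw [← Over.comp_left, lift_fst, Over.comp_left, hW]

/-- A rational point of a separated scheme is closed. -/
theorem isClosed_section {T : Over (Spec (CommRingCat.of k))} [IsSeparated T.hom]
    (w : 𝟙_ (Over (Spec (CommRingCat.of k))) ⟶ T) : IsClosed ({w.left (IsLocalRing.closedPoint k)} : Set T.left) := by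
  haveI : IsClosedImmersion w.left := by
    haveI : IsClosedImmersion (w.left ≫ T.hom) := by
      rw [show w.left ≫ T.hom = 𝟙 _ from Over.w w]; infer_instance
    exact IsClosedImmersion.of_comp _ T.hom
  have h : Set.range w.left = {w.left (IsLocalRing.closedPoint k)} := by
    refine Set.Subset.antisymm ?_ (Set.singleton_subset_iff.2 ⟨_, rfl⟩)
    rintro _ ⟨x, rfl⟩
    rw [Subsingleton.elim (α := PrimeSpectrum k) x (IsLocalRing.closedPoint k)]; rfl
  exact h ▸ w.left.isClosedEmbedding.isClosed_range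

variable {A Ah : Over (Spec (CommRingCat.of k))}
  [GrpObj A] [IsProper A.hom] [GeometricallyIntegral A.hom]
  [GrpObj Ah] [IsProper Ah.hom] [GeometricallyIntegral Ah.hom]
  {P : (Ah ⊗ A).left.Modules}

/-- Off the origin all the fibres are acyclic. -/
theorem fiberRank_eq_zero_of_ne [IsAlgClosed k] (hP : PicF.IsInvertible P)
    (hvan : ∀ w : 𝟙_ (Over (Spec (CommRingCat.of k))) ⟶ Ah, w ≠ η[Ah] → ∀ p, Subsingleton
      (Coh.HH A.left ((Scheme.Modules.pullback (lift (toUnit A ≫ w) (𝟙 A)).left).obj P) p))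
    (y : Ah.left) (hy : y ≠ (η[Ah] : 𝟙_ (Over (Spec (CommRingCat.of k))) ⟶ Ah).left (IsLocalRing.closedPoint k))
    (p : ℕ) : CohIII.fiberRank (fst Ah A).left P p y = 0 := by
  haveI : IsProper (fst Ah A).left := inferInstanceAs (IsProper (pullback.fst Ah.hom A.hom))
  haveI : IsLocallyNoetherian Ah.left := LocallyOfFiniteType.isLocallyNoetherian Ah.hom
  haveI : JacobsonSpace Ah.left := LocallyOfFiniteType.jacobsonSpace Ah.hom
  haveI : Flat A.hom := CubeLib.flat_of_field _
  haveI : Flat (fst Ah A).left := inferInstanceAs (Flat (pullback.fst Ah.hom A.hom))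
  haveI := hasInjectiveResolutions_modules (Ah ⊗ A).left
  have hcoh := PicLib.isCoh_of_isInvertible hP
  have hfl : FlatMod.IsFlatOver (fst Ah A).left P := SeeSaw5.isFlatOver_of_invertible (f := (fst Ah A).left) hP
  by_contra hne
  obtain ⟨z, ⟨hz, hzne⟩, hzc⟩ := nonempty_inter_closedPoints
    (Z := {y : Ah.left | CohIII.fiberRank (fst Ah A).left P p y = 0}ᶜ ∩
      {(η[Ah] : 𝟙_ (Over (Spec (CommRingCat.of k))) ⟶ Ah).left (IsLocalRing.closedPoint k)}ᶜ)
    ⟨y, hne, hy⟩
    ((isOpen_fiberRank_eq_zero (fst Ah A).left P hcoh hfl p).isClosed_compl.isLocallyClosed.inter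
      (isClosed_point _).isOpen_compl.isLocallyClosed)
  let w : 𝟙_ (Over (Spec (CommRingCat.of k))) ⟶ Ah :=
    Over.homMk (pointOfClosedPoint Ah.hom z hzc) (pointOfClosedPoint_comp Ah.hom z hzc)
  have hwz : w.left (IsLocalRing.closedPoint k) = z := pointOfClosedPoint_apply Ah.hom z hzc _
  have hw : w ≠ η[Ah] := fun h => hzne (by rw [Set.mem_singleton_iff, ← hwz, h])
  exact hz (by
    show CohIII.fiberRank (fst Ah A).left P p z = 0
    rw [← hwz]
    exact (CohEdge27.fiberRank_fst_point P hcoh w p).2 (hvan w hw p))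

/-- The structure module has one section. -/
theorem length_HH_zero :
    letI : A.left.Over (Spec (CommRingCat.of k)) := ⟨A.hom⟩
    Module.length k (Coh.HH A.left (Coh.structureModule A.left) 0) = 1 := by
  letI : A.left.Over (Spec (CommRingCat.of k)) := ⟨A.hom⟩
  haveI : Flat A.hom := CubeLib.flat_of_field _
  haveI := AbDualLib.geometricallyConnected_var A
  haveI : Smooth A.hom := NeronLib.smooth_of_geometricallyIntegral A
  have hb := AbDualLib.bijective_app_of_section A.hom η[A].left (Over.w η[A]) ⊤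
  let φ := baseHom k A.left
  have hφ : Function.Bijective φ := hb.comp (ConcreteCategory.bijective_of_isIso
    (Scheme.ΓSpecIso (CommRingCat.of k)).inv)
  let E := (HHA (A := k) (Coh.structureModule A.left) 0).trans (secA φ (Coh.structureModule A.left))
  rw [LinearEquiv.length_eq E]
  let e : k ≃ₗ[k] GA φ (Coh.structureModule A.left) :=
    LinearEquiv.ofBijective
      ({ toFun := fun a => (φ a : GA φ (Coh.structureModule A.left))
         map_add' := fun a b => map_add φ a b
         map_smul' := fun a b => map_mul φ a b } : k →ₗ[k] GA φ (Coh.structureModule A.left)) hφ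
  rw [← LinearEquiv.length_eq e, Module.length_eq_one]

/-- The spectrum of the local ring at the origin, over the field. -/
noncomputable abbrev nhdOne (Ah : Over (Spec (CommRingCat.of k))) [GrpObj Ah] : Over (Spec (CommRingCat.of k)) :=
  Over.mk (Ah.left.fromSpecStalk
    ((η[Ah] : 𝟙_ (Over (Spec (CommRingCat.of k))) ⟶ Ah).left (IsLocalRing.closedPoint k)) ≫ Ah.hom)

/-- The map of the spectrum of the local ring at the origin. -/
noncomputable abbrev toAh (Ah : Over (Spec (CommRingCat.of k))) [GrpObj Ah] : nhdOne Ah ⟶ Ah :=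
  Over.homMk (Ah.left.fromSpecStalk
    ((η[Ah] : 𝟙_ (Over (Spec (CommRingCat.of k))) ⟶ Ah).left (IsLocalRing.closedPoint k))) rfl

/-- The local ring at the origin. -/
noncomputable abbrev originRing (Ah : Over (Spec (CommRingCat.of k))) [GrpObj Ah] : CommRingCat.{u} :=
  Ah.left.presheaf.stalk
    ((η[Ah] : 𝟙_ (Over (Spec (CommRingCat.of k))) ⟶ Ah).left (IsLocalRing.closedPoint k))

noncomputable instance overNhdOne :
    ((nhdOne Ah) ⊗ A).left.Over (Spec (CommRingCat.of (originRing Ah))) := ⟨(fst (nhdOne Ah) A).left⟩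

/-- **Mumford's computation**, over any field. -/
theorem poincare_local' {g : ℕ} (hA : topologicalKrullDim A.left = g) (hAh : topologicalKrullDim Ah.left = g)
    (hP : PicF.IsInvertible P)
    (h0 : pb (lift (toUnit A ≫ η[Ah]) (𝟙 A)) (PicM.of hP) = 1)
    (hrk : ∀ y : Ah.left, y ≠ (η[Ah] : 𝟙_ (Over (Spec (CommRingCat.of k))) ⟶ Ah).left (IsLocalRing.closedPoint k) →
      ∀ p : ℕ, CohIII.fiberRank (fst Ah A).left P p y = 0)
    (huniv : ∀ (T : Over (Spec (CommRingCat.of k))) [Subsingleton T.left] (t : T ⟶ Ah),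
      pb (t ▷ A) (PicM.of hP) = 1 → t = toUnit T ≫ η[Ah]) :
    letI : A.left.Over (Spec (CommRingCat.of k)) := ⟨A.hom⟩
    (∀ i, Module.finrank k (Coh.HH A.left (Coh.structureModule A.left) i) = g.choose i) ∧
    (∀ i, Module.length (originRing Ah)
      (Coh.HH ((nhdOne Ah) ⊗ A).left ((Scheme.Modules.pullback (toAh Ah ▷ A).left).obj P) i) =
        if i = g then 1 else 0) := by
  letI : A.left.Over (Spec (CommRingCat.of k)) := ⟨A.hom⟩
  let e0 : Ah.left := (η[Ah] : 𝟙_ (Over (Spec (CommRingCat.of k))) ⟶ Ah).left (IsLocalRing.closedPoint k)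
  let R := originRing Ah
  haveI : Smooth Ah.hom := NeronLib.smooth_of_geometricallyIntegral Ah
  haveI : IsLocallyNoetherian Ah.left := LocallyOfFiniteType.isLocallyNoetherian Ah.hom
  haveI : IsRegularLocalRing R := VarietyLib.isRegularLocalRing_stalk_of_smooth k Ah.left Ah.hom e0
  have hg : (IsLocalRing.maximalIdeal R).spanFinrank = g := by
    have h1 := IsRegularLocalRing.spanFinrank_maximalIdeal (R := R)
    rw [S0354.result k Ah e0 (isClosed_section _), hAh] at h1
    exact_mod_cast h1
  -- the family over the local ring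
  let Rk := nhdOne Ah
  let X := (Rk ⊗ A).left
  let F := (Scheme.Modules.pullback (toAh Ah ▷ A).left).obj P
  have hFi : PicF.IsInvertible F := PicLoc.isInvertible_pullback _ hP
  haveI hXp : IsProper (fst Rk A).left := inferInstanceAs (IsProper (pullback.fst Rk.hom A.hom))
  haveI : IsProper (X ↘ Spec (CommRingCat.of R)) := hXp
  haveI : Flat A.hom := CubeLib.flat_of_field _
  haveI hXf : Flat (fst Rk A).left := inferInstanceAs (Flat (pullback.fst Rk.hom A.hom))
  have hfl : FlatMod.IsFlatOver (X ↘ Spec (CommRingCat.of R)) F :=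
    SeeSaw5.isFlatOver_of_invertible (f := (fst Rk A).left) hFi
  obtain ⟨D⟩ := nonempty_perfData (A := R) (X := X) F (PicLib.isCoh_of_isInvertible hFi) hfl
  have hflat : ∀ i, Module.Finite R (D.R.L.X i) ∧ Module.Flat R (D.R.L.X i) :=
    fun i => ⟨(D.R.finFree i).1, D.R.flat_X i⟩
  -- the residue map
  let ec : 𝟙_ (Over (Spec (CommRingCat.of k))) ⟶ Ah := η[Ah]
  let ε : R →+* k := (Scheme.stalkClosedPointTo (R := CommRingCat.of k) (X := Ah.left) ec.left).hom
  let c : k →+* R := (Spec.preimage (Rk.hom : Spec (CommRingCat.of R) ⟶ Spec (CommRingCat.of k))).hom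
  have hη : Spec.map (CommRingCat.ofHom ε) ≫ Ah.left.fromSpecStalk e0 = ec.left :=
    Scheme.Spec_stalkClosedPointTo_fromSpecStalk (R := CommRingCat.of k) (X := Ah.left) ec.left
  have hc' : Spec.map (CommRingCat.ofHom c) = Rk.hom := Spec.map_preimage _
  let w0 : 𝟙_ (Over (Spec (CommRingCat.of k))) ⟶ Rk := Over.homMk (Spec.map (CommRingCat.ofHom ε)) (by
    show Spec.map (CommRingCat.ofHom ε) ≫ Ah.left.fromSpecStalk e0 ≫ Ah.hom = 𝟙 _
    rw [← Category.assoc, hη]
    exact Over.w ec)
  have hw0 : w0 ≫ toAh Ah = η[Ah] := Over.OverMorphism.ext hη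
  have hc : ∀ b, ε (c b) = b := fun b => by
    have h1 : Spec.map (CommRingCat.ofHom (ε.comp c)) = 𝟙 _ := by
      rw [CommRingCat.ofHom_comp, Spec.map_comp, hc']
      exact Over.w w0
    rw [← Spec.map_id] at h1
    exact congrArg (fun f : CommRingCat.of k ⟶ CommRingCat.of k => f.hom b) (Spec.map_injective h1)
  have hε : Function.Surjective ε := fun b => ⟨c b, hc b⟩
  have hker : RingHom.ker ε = IsLocalRing.maximalIdeal R := by
    haveI := RingHom.ker_isMaximal_of_surjective ε hε
    exact IsLocalRing.eq_maximalIdeal inferInstance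
  let gA : A.left ⟶ X := (lift (toUnit A ≫ w0) (𝟙 A)).left
  have hsqA : IsPullback gA (A.left ↘ Spec (CommRingCat.of k)) (X ↘ Spec (CommRingCat.of R))
      (Spec.map (CommRingCat.ofHom ε)) := isPullback_slice w0 A
  have hgA : PicM.of (PicLoc.isInvertible_pullback gA hFi) = 1 := by
    rw [← PicM.pull_of _ hFi, ← PicM.pull_of _ hP]
    show pb (lift (toUnit A ≫ w0) (𝟙 A)) (pb (toAh Ah ▷ A) (PicM.of hP)) = 1
    rw [pb_pb, show lift (toUnit A ≫ w0) (𝟙 A) ≫ toAh Ah ▷ A = lift (toUnit A ≫ η[Ah]) (𝟙 A) by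
      rw [← hw0]
      ext1 <;> simp]
    exact h0
  obtain ⟨isoO⟩ : Nonempty ((Scheme.Modules.pullback gA).obj F ≅ Coh.structureModule A.left) :=
    (PicM.of_eq_one_iff (PicLoc.isInvertible_pullback gA hFi)).1 hgA
  -- the closed fibre
  let kε := (ModuleCat.restrictScalars ε).obj (ModuleCat.of k k)
  let kres : IsLocalRing.ResidueField R ≃ₗ[R] kε :=
    (Submodule.quotEquivOfEq _ _ hker.symm).trans (LinearEquiv.ofBijective
      ((RingHom.ker ε).liftQ
        ({ toFun := fun r => (ε r : kε), map_add' := map_add ε, map_smul' := fun a b => map_mul ε a b } : R →ₗ[R] kε)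
        (fun r hr => hr))
      ⟨(injective_iff_map_eq_zero _).2 fun x hx => by
        obtain ⟨r, rfl⟩ := Submodule.Quotient.mk_surjective _ x
        exact (Submodule.Quotient.mk_eq_zero _).2 hx,
       fun b => ⟨Submodule.Quotient.mk (c b), hc b⟩⟩)
  have hfib : ∀ i : ℕ, Module.length R (CohIII.T D.R.L (i : ℤ) kε) =
      Module.length k (Coh.HH A.left (Coh.structureModule A.left) i) := fun i => by
    obtain ⟨e⟩ := nonempty_T_restrict_iso D hfl gA hsqA i
    rw [e.toLinearEquiv.length_eq, length_restrictScalars hε]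
    exact (HHCongr k isoO i).length_eq
  let TF := fun p : ℤ => CohIII.TFun D.R.L p
  have hres : ∀ p : ℤ, Nonempty (CohIII.T D.R.L p (ModuleCat.of R (R ⧸ IsLocalRing.maximalIdeal R)) ≅
      CohIII.T D.R.L p kε) := fun p =>
    ⟨(TF p).mapIso (LinearEquiv.toModuleIso (X₁ := ModuleCat.of R (R ⧸ IsLocalRing.maximalIdeal R)) (X₂ := kε) kres)⟩
  obtain ⟨n, M, hn0, hnv, hMM, hmodel⟩ := exists_matrix_model D.R.L hflat ⟨D.R.bound, D.R.isZero_X⟩ g
    (fun p hp => D.R.isZero_neg p _ hp)
    (fun p hp => by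
      obtain ⟨q, rfl⟩ : ∃ q : ℕ, p = q := ⟨p.toNat, by omega⟩
      obtain ⟨e⟩ := hres q
      refine IsZero.of_iso ?_ e
      rw [ModuleCat.isZero_iff_subsingleton, ← Module.length_eq_zero_iff (R := R), hfib]
      haveI : Subsingleton (Coh.HH A.left (Coh.structureModule A.left) q) := by
        haveI : IsIntegral A.left := GeometricallyIntegral.isIntegral_of_subsingleton A.hom
        haveI : IsProper (A.left ↘ Spec (CommRingCat.of k)) := ‹IsProper A.hom›
        haveI : IsNoetherian A.left := {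
          LocallyOfFiniteType.isLocallyNoetherian A.hom, QuasiCompact.compactSpace_of_compactSpace A.hom with }
        haveI : A.left.IsSeparated := Scheme.IsSeparated.mk (by
          rw [← terminal.comp_from A.hom]; infer_instance)
        haveI : Coh.IsQCoh (Coh.structureModule A.left) := Coherent.isQCoh_structureModule
        exact EulerLib.subsingleton_HH_of_dim _ hA.le (by omega)
      exact Module.length_eq_zero)
  have hk : ∀ i, Module.length R (Hm (M (i + 1)).transpose (M i).transpose (IsLocalRing.ResidueField R)) =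
      Module.length k (Coh.HH A.left (Coh.structureModule A.left) i) := fun i => by
    obtain ⟨e⟩ := hmodel i kε
    rw [length_Hm_congr kres, ← LinearEquiv.length_eq e, hfib]
  have hpunct : ∀ (Q : Ideal R) [Q.IsPrime], Q ≠ IsLocalRing.maximalIdeal R → ∀ i (v : Fin (n (i + 1)) → Q.ResidueField),
      (M (i + 1)).transpose.map (algebraMap R Q.ResidueField) *ᵥ v = 0 →
        ∃ w, (M i).transpose.map (algebraMap R Q.ResidueField) *ᵥ w = v := by
    intro Q _ hQ i v hv
    let x : Spec (CommRingCat.of R) := (⟨Q, inferInstance⟩ : PrimeSpectrum R)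
    have hne : Ah.left.fromSpecStalk e0 x ≠ e0 := fun h => hQ (by
      have h2 : x = IsLocalRing.closedPoint R := (Ah.left.fromSpecStalk e0).isEmbedding.injective
        (h.trans Scheme.fromSpecStalk_closedPoint.symm)
      exact congrArg PrimeSpectrum.asIdeal h2)
    haveI : IsProper (fst Ah A).left := inferInstanceAs (IsProper (pullback.fst Ah.hom A.hom))
    haveI : Coh.IsQCoh P := AmpleLib.isQCoh_of_isInvertible hP
    have hrk : CohIII.dRank D.P (-(i : ℤ)) (⟨Q, inferInstance⟩ : PrimeSpectrum R) = 0 := by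
      rw [← D.fiberRank_eq hfl x i]
      exact (fiberRank_pullback (isPullback_whiskerRight (toAh Ah) A) P i x).trans
        (hrk _ hne i)
    have hz := isZero_T_of_dRank_eq_zero D.P D.finite_flat_P _ _ hrk
    obtain ⟨e⟩ := nonempty_T_equiv D i (ModuleCat.of R Q.ResidueField)
    haveI := ModuleCat.subsingleton_of_isZero (hz.of_iso e.symm)
    obtain ⟨e'⟩ := hmodel i Q.ResidueField
    haveI := e'.symm.toEquiv.subsingleton
    have happ : ∀ (a b : ℕ) (U : Matrix (Fin a) (Fin b) R) (w : Fin b → Q.ResidueField),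
        U.map (algebraMap R Q.ResidueField) *ᵥ w = app Q.ResidueField U w := fun a b U w => by
      funext j
      simp [app_apply, Matrix.mulVec, dotProduct, Algebra.smul_def]
    obtain ⟨w, hw⟩ := (Hm.mk_eq_zero_iff (U := (M (i + 1)).transpose) (V := (M i).transpose)
      ⟨v, LinearMap.mem_ker.2 ((happ _ _ _ _).symm.trans hv)⟩).1 (Subsingleton.elim _ _)
    exact ⟨w, (happ _ _ _ _).trans hw⟩
  have huniv' : ∀ I : Ideal R, I ≤ IsLocalRing.maximalIdeal R → (∃ N, IsLocalRing.maximalIdeal R ^ N ≤ I) →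
      Nonempty (Hm (M 1).transpose (M 0).transpose (R ⧸ I) ≃ₗ[R] (R ⧸ I)) → I = IsLocalRing.maximalIdeal R := by
    intro I hI hpow hfree
    obtain ⟨eI⟩ := hfree
    let q : R →+* R ⧸ I := Ideal.Quotient.mk I
    let T : Over (Spec (CommRingCat.of k)) := Over.mk (Spec.map (CommRingCat.ofHom q) ≫ Rk.hom)
    let t : T ⟶ Rk := Over.homMk (Spec.map (CommRingCat.ofHom q)) rfl
    let εS : (R ⧸ I) →+* k := Ideal.Quotient.lift I ε fun a ha => by
      rw [← RingHom.mem_ker, hker]; exact hI ha
    have hεS : εS.comp q = ε := rfl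
    let wS : 𝟙_ (Over (Spec (CommRingCat.of k))) ⟶ T := Over.homMk (Spec.map (CommRingCat.ofHom εS)) (by
      show Spec.map _ ≫ Spec.map _ ≫ Rk.hom = _
      rw [← Category.assoc, ← Spec.map_comp, ← CommRingCat.ofHom_comp, hεS]
      exact Over.w w0)
    have hwS : wS ≫ t = w0 := Over.OverMorphism.ext (by
      show Spec.map _ ≫ Spec.map _ = Spec.map (CommRingCat.ofHom ε)
      rw [← Spec.map_comp, ← CommRingCat.ofHom_comp, hεS])
    let XS := (T ⊗ A).left
    letI : XS.Over (Spec (CommRingCat.of (R ⧸ I))) := ⟨(fst T A).left⟩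
    have hsqS : IsPullback (t ▷ A).left (XS ↘ Spec (CommRingCat.of (R ⧸ I))) (X ↘ Spec (CommRingCat.of R))
        (Spec.map (CommRingCat.ofHom q)) := isPullback_whiskerRight t A
    obtain ⟨eT⟩ := nonempty_T_restrict_iso D hfl (t ▷ A).left hsqS 0
    obtain ⟨eH⟩ := hmodel 0 ((ModuleCat.restrictScalars q).obj (ModuleCat.of (R ⧸ I) (R ⧸ I)))
    let FS := (Scheme.Modules.pullback (t ▷ A).left).obj F
    have hFS : PicF.IsInvertible FS := PicLoc.isInvertible_pullback _ hFi
    let φS := Coh.toGlobal (XS ↘ Spec (CommRingCat.of (R ⧸ I)))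
    let E0 := (HHA (A := R ⧸ I) FS 0).trans (secA φS FS)
    let eI0 : R ⧸ I ≃+ GA φS FS :=
      (eI.symm.toAddEquiv.trans (eH.symm.trans eT.toLinearEquiv).toAddEquiv).trans E0.toAddEquiv
    have hsemi : ∀ (r : R) (x : R ⧸ I), eI0 (r • x) = q r • eI0 x := fun r x => by
      have e1 : (eH.symm.trans eT.toLinearEquiv) (eI.symm (r • x)) =
          r • (eH.symm.trans eT.toLinearEquiv) (eI.symm x) := by
        rw [map_smul]; exact map_smul (eH.symm.trans eT.toLinearEquiv) r _
      show E0 ((eH.symm.trans eT.toLinearEquiv) (eI.symm (r • x))) = _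
      rw [e1]
      exact map_smul E0 (q r) ((eH.symm.trans eT.toLinearEquiv) (eI.symm x))
    let gS : A.left ⟶ XS := (lift (toUnit A ≫ wS) (𝟙 A)).left
    have hsqAS : IsPullback gS (A.left ↘ Spec (CommRingCat.of k)) (XS ↘ Spec (CommRingCat.of (R ⧸ I)))
        (Spec.map (CommRingCat.ofHom εS)) := isPullback_slice wS A
    have hgS : PicM.of (PicLoc.isInvertible_pullback gS hFS) = 1 := by
      rw [← PicM.pull_of _ hFS, ← PicM.pull_of _ hFi]
      show pb (lift (toUnit A ≫ wS) (𝟙 A)) (pb (t ▷ A) (PicM.of hFi)) = 1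
      rw [pb_pb, show lift (toUnit A ≫ wS) (𝟙 A) ≫ t ▷ A = lift (toUnit A ≫ w0) (𝟙 A) by
        rw [← hwS]
        ext1 <;> simp]
      exact (PicM.pull_of _ hFi).trans hgA
    haveI : IsIntegral A.left := GeometricallyIntegral.isIntegral_of_subsingleton A.hom
    haveI : UniversallyClosed (A.left ↘ Spec (CommRingCat.of k)) :=
      inferInstanceAs (UniversallyClosed A.hom)
    have hnil : ∃ N, RingHom.ker εS ^ N = ⊥ := by
      obtain ⟨N, hN⟩ := hpow
      refine ⟨N, ?_⟩
      have hk' : RingHom.ker εS = (IsLocalRing.maximalIdeal R).map q := by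
        rw [← hker]
        exact Ideal.ker_quotient_lift (f := ε) (I := I) _
      rw [hk', ← Ideal.map_pow, eq_bot_iff, ← Ideal.map_quotient_self I]
      exact Ideal.map_mono hN
    obtain ⟨isoS⟩ := nonempty_iso_of_free_sections εS (q.comp c) (fun b => hc b) hnil gS hsqAS hFS hgS
      (eI0 1) fun r r' h => by
        obtain ⟨r, rfl⟩ := Ideal.Quotient.mk_surjective r
        obtain ⟨r', rfl⟩ := Ideal.Quotient.mk_surjective r'
        have h' : eI0 (r • 1) = eI0 (r' • 1) := (hsemi r 1).trans (h.trans (hsemi r' 1).symm)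
        simpa [Algebra.smul_def] using eI0.injective h'
    haveI : Subsingleton T.left := by
      haveI : (RingHom.ker εS).IsMaximal :=
        RingHom.ker_isMaximal_of_surjective εS fun b => ⟨q (c b), hc b⟩
      refine ⟨fun a b => ?_⟩
      obtain ⟨N, hN⟩ := hnil
      have h1 : ∀ p : PrimeSpectrum (R ⧸ I), p.asIdeal = RingHom.ker εS := fun p =>
        (‹(RingHom.ker εS).IsMaximal›.eq_of_le p.2.ne_top (p.2.le_of_pow_le (n := N) (hN ▸ bot_le))).symm
      exact PrimeSpectrum.ext ((h1 a).trans (h1 b).symm)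
    have ht1 := huniv T (t ≫ toAh Ah) (by
      rw [show (t ≫ toAh Ah) ▷ A = t ▷ A ≫ toAh Ah ▷ A from comp_whiskerRight t (toAh Ah) A, ← pb_pb]
      refine Eq.trans ?_ ((PicM.of_eq_one_iff hFS).2 ⟨isoS⟩)
      rw [pb, pb, PicM.pull_of _ hP, PicM.pull_of])
    have hts : t = toUnit T ≫ w0 := by
      have h2 : t ≫ toAh Ah = (toUnit T ≫ w0) ≫ toAh Ah := by rw [ht1, Category.assoc, hw0]
      refine Over.OverMorphism.ext ((cancel_mono (Ah.left.fromSpecStalk e0)).1 ?_)
      exact congrArg CommaMorphism.left h2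
    have hq : q = (q.comp c).comp ε := by
      have h3 : Spec.map (CommRingCat.ofHom q) =
          Spec.map (CommRingCat.ofHom ((q.comp c).comp ε)) := by
        refine (congrArg CommaMorphism.left hts).trans ?_
        rw [CommRingCat.ofHom_comp, CommRingCat.ofHom_comp, Spec.map_comp, Spec.map_comp, hc']
        show (toUnit T).left ≫ Spec.map (CommRingCat.ofHom ε) = _
        rw [show (toUnit T).left = T.hom from (Category.comp_id _).symm.trans (Over.w (toUnit T))]
        rfl
      exact congrArg CommRingCat.Hom.hom (Spec.map_injective h3)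
    refine le_antisymm hI fun a ha => Ideal.Quotient.eq_zero_iff_mem.1 ?_
    show q a = 0
    rw [hq, RingHom.comp_apply, show ε a = 0 from RingHom.mem_ker.1 (hker ▸ ha), map_zero]
  obtain ⟨hch, hR⟩ := poincare_complex hg hMM hn0 hnv hpunct ((hk 0).trans length_HH_zero) huniv'
  refine ⟨fun i => finrank_eq_of_length ((hk i).symm.trans (hch i)), fun i => ?_⟩
  obtain ⟨e⟩ := hmodel i R
  obtain ⟨e'⟩ := nonempty_T_equiv D i (ModuleCat.of R R)
  rw [← hR i, ← LinearEquiv.length_eq e, ← e'.toLinearEquiv.length_eq]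
  exact ((D.hhHomology i).trans (unitTIso D.P (-(i : ℤ))).symm.toLinearEquiv).length_eq

/-- **Mumford's computation.** -/
theorem poincare_local [IsAlgClosed k] {g : ℕ} (hA : topologicalKrullDim A.left = g) (hAh : topologicalKrullDim Ah.left = g)
    (hP : PicF.IsInvertible P)
    (h0 : pb (lift (toUnit A ≫ η[Ah]) (𝟙 A)) (PicM.of hP) = 1)
    (hvan : ∀ w : 𝟙_ (Over (Spec (CommRingCat.of k))) ⟶ Ah, w ≠ η[Ah] → ∀ p, Subsingleton
      (Coh.HH A.left ((Scheme.Modules.pullback (lift (toUnit A ≫ w) (𝟙 A)).left).obj P) p))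
    (huniv : ∀ (T : Over (Spec (CommRingCat.of k))) [Subsingleton T.left] (t : T ⟶ Ah),
      pb (t ▷ A) (PicM.of hP) = 1 → t = toUnit T ≫ η[Ah]) :
    letI : A.left.Over (Spec (CommRingCat.of k)) := ⟨A.hom⟩
    (∀ i, Module.finrank k (Coh.HH A.left (Coh.structureModule A.left) i) = g.choose i) ∧
    (∀ i, Module.length (originRing Ah)
      (Coh.HH ((nhdOne Ah) ⊗ A).left ((Scheme.Modules.pullback (toAh Ah ▷ A).left).obj P) i) =
        if i = g then 1 else 0) :=
  poincare_local' hA hAh hP h0 (fun y hy p => fiberRank_eq_zero_of_ne hP hvan y hy p) huniv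

end Groth.Agent.AbCohLib
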