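import Mathlib

/-!
# Homology of two composable matrices acting on modules, and its long exact sequence
-/

set_option autoImplicit false

universe u v

open Matrix

namespace Groth.Agent.AbCohLib

variable {R : Type u} [CommRing R] {p q r s : ℕ}
  {M M' M'' : Type v} [AddCommGroup M] [Module R M] [AddCommGroup M'] [Module R M'] [AddCommGroup M''] [Module R M'']

variable (M) in
/-- A matrix acting on vectors with entries in a module. -/
def app (A : Matrix (Fin p) (Fin q) R) : (Fin q → M) →ₗ[R] (Fin p → M) :=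
  LinearMap.pi fun i => ∑ j, A i j • LinearMap.proj j

theorem app_apply (A : Matrix (Fin p) (Fin q) R) (v : Fin q → M) (i : Fin p) :
    app M A v i = ∑ j, A i j • v j := by
  simp [app]

theorem app_mul (A : Matrix (Fin p) (Fin q) R) (B : Matrix (Fin q) (Fin r) R) (v : Fin r → M) :
    app M (A * B) v = app M A (app M B v) := by
  funext i
  simp only [app_apply, Matrix.mul_apply, Finset.sum_smul, Finset.smul_sum, smul_smul]
  exact Finset.sum_comm

theorem app_add (A B : Matrix (Fin p) (Fin q) R) (v : Fin q → M) :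
    app M (A + B) v = app M A v + app M B v := by
  funext i
  simp [app_apply, add_smul, Finset.sum_add_distrib]

theorem app_zero (v : Fin q → M) : app M (0 : Matrix (Fin p) (Fin q) R) v = 0 := by
  funext i
  simp [app_apply]

theorem app_smul_one (a : R) (v : Fin q → M) : app M (a • (1 : Matrix (Fin q) (Fin q) R)) v = a • v := by
  funext i
  simp [app_apply, Matrix.one_apply, ite_smul]

theorem app_comp (A : Matrix (Fin p) (Fin q) R) (f : M →ₗ[R] M') (v : Fin q → M) :
    app M' A (f ∘ v) = f ∘ app M A v := by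
  funext i
  simp [app_apply]

theorem mulVec_eq_app (A : Matrix (Fin p) (Fin q) R) (v : Fin q → R) : A *ᵥ v = app R A v := by
  funext i
  simp [app_apply, Matrix.mulVec, dotProduct]

/-- Homology of two matrices acting on a module. -/
abbrev Hm (U : Matrix (Fin p) (Fin q) R) (V : Matrix (Fin q) (Fin r) R) (M : Type v) [AddCommGroup M] [Module R M] :
    Type v :=
  LinearMap.ker (app M U) ⧸ (LinearMap.range (app M V)).comap (LinearMap.ker (app M U)).subtype

theorem Hm.mk_eq_zero_iff {U : Matrix (Fin p) (Fin q) R} {V : Matrix (Fin q) (Fin r) R} (z : LinearMap.ker (app M U)) :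
    (Submodule.Quotient.mk z : Hm U V M) = 0 ↔ (z : Fin q → M) ∈ LinearMap.range (app M V) := by
  rw [Submodule.Quotient.mk_eq_zero, Submodule.mem_comap]
  rfl

theorem Hm.exists_rep {U : Matrix (Fin p) (Fin q) R} {V : Matrix (Fin q) (Fin r) R} (h : Hm U V M) :
    ∃ z, (Submodule.Quotient.mk z : Hm U V M) = h :=
  Submodule.Quotient.mk_surjective _ h

/-- A null homotopy of multiplication by `a` kills the homology. -/
theorem smul_Hm_eq_zero {U : Matrix (Fin p) (Fin q) R} {V : Matrix (Fin q) (Fin r) R} {a : R}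
    {h : Matrix (Fin q) (Fin p) R} {h' : Matrix (Fin r) (Fin q) R} (he : h * U + V * h' = a • 1) (x : Hm U V M) :
    a • x = 0 := by
  obtain ⟨z, rfl⟩ := Hm.exists_rep x
  rw [← Submodule.Quotient.mk_smul, Hm.mk_eq_zero_iff]
  refine ⟨app M h' z, ?_⟩
  rw [Submodule.coe_smul, ← app_smul_one a (z : Fin q → M), ← he, app_add, app_mul, app_mul,
    LinearMap.mem_ker.1 z.2, map_zero, zero_add]

/-- The map on homology induced by a linear map. -/
def Hm.map (U : Matrix (Fin p) (Fin q) R) (V : Matrix (Fin q) (Fin r) R) (f : M →ₗ[R] M') :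
    Hm U V M →ₗ[R] Hm U V M' :=
  Submodule.mapQ _ _
    ((f.compLeft (Fin q)).restrict fun v hv => by
      rw [LinearMap.mem_ker] at hv ⊢
      rw [show f.compLeft (Fin q) v = f ∘ v from rfl, app_comp, hv]
      funext i
      simp)
    (by
      rintro z ⟨w, hw⟩
      refine ⟨f ∘ w, ?_⟩
      rw [app_comp, hw]
      rfl)

theorem Hm.map_mk (U : Matrix (Fin p) (Fin q) R) (V : Matrix (Fin q) (Fin r) R) (f : M →ₗ[R] M')
    (z : LinearMap.ker (app M U)) :
    ∃ z' : LinearMap.ker (app M' U), (z' : Fin q → M') = f ∘ (z : Fin q → M) ∧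
      Hm.map U V f (Submodule.Quotient.mk z) = Submodule.Quotient.mk z' :=
  ⟨_, rfl, rfl⟩

theorem map_map_eq {U : Matrix (Fin p) (Fin q) R} {V : Matrix (Fin q) (Fin r) R} (f : M →ₗ[R] M') (f' : M' →ₗ[R] M)
    (h : ∀ x, f' (f x) = x) (y : Hm U V M) : Hm.map U V f' (Hm.map U V f y) = y := by
  obtain ⟨z, rfl⟩ := Hm.exists_rep y
  exact congrArg Submodule.Quotient.mk (Subtype.ext (funext fun i => h (z.1 i)))

/-- **The Pascal rule**: if `a` kills the homology with values in `M`, the homology with values in `M / aM`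
has length the sum of two lengths of homology with values in `M`. -/
theorem length_Hm_quot {W : Matrix (Fin s) (Fin p) R} {U : Matrix (Fin p) (Fin q) R} {V : Matrix (Fin q) (Fin r) R}
    (hWU : W * U = 0) (hUV : U * V = 0) (f : M →ₗ[R] M) (g : M →ₗ[R] M'') (a : R) (hf : ∀ m, f m = a • m) (hinj : Function.Injective f)
    (hg : Function.Surjective g) (hfg : Function.Exact f g)
    (h₁ : ∀ x : Hm U V M, a • x = 0) (h₂ : ∀ x : Hm W U M, a • x = 0) :
    Module.length R (Hm U V M'') = Module.length R (Hm U V M) + Module.length R (Hm W U M) := by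
  have hcomp : ∀ (n : ℕ) (v : Fin n → M), f ∘ v = a • v := fun n v => funext fun i => hf (v i)
  have hlift : ∀ (n : ℕ) (v : Fin n → M), g ∘ v = 0 → ∃ w : Fin n → M, a • w = v := fun n v hv => by
    choose w hw using fun i => (hfg (v i)).1 (congrFun hv i)
    exact ⟨w, funext fun i => (hf (w i)).symm.trans (hw i)⟩
  have hcan : ∀ (n : ℕ) (v w : Fin n → M), a • v = a • w → v = w := fun n v w h => funext fun i =>
    hinj ((hf _).trans ((congrFun h i).trans (hf _).symm))
  let P : Submodule R ((Fin q → M) × (Fin p → M)) :=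
    LinearMap.ker ((app M U).comp (LinearMap.fst R _ _) - a • LinearMap.snd R _ _)
  have hP : ∀ z, z ∈ P ↔ app M U z.1 = a • z.2 := fun z => by
    rw [LinearMap.mem_ker, LinearMap.sub_apply, sub_eq_zero]
    rfl
  let πz : P →ₗ[R] LinearMap.ker (app M'' U) :=
    ((g.compLeft (Fin q)).comp ((LinearMap.fst R _ _).comp P.subtype)).codRestrict _ fun z => by
      rw [LinearMap.mem_ker]
      show app M'' U (g ∘ z.1.1) = 0
      rw [app_comp, (hP z.1).1 z.2]
      funext i
      show g (a • z.1.2 i) = 0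
      rw [← hf]
      exact hfg.apply_apply_eq_zero _
  let π : P →ₗ[R] Hm U V M'' := (Submodule.mkQ _).comp πz
  have hw : ∀ z : P, z.1.2 ∈ LinearMap.ker (app M W) := fun z => by
    refine LinearMap.mem_ker.2 (hcan s _ _ ?_)
    rw [← map_smul, ← (hP z.1).1 z.2, ← app_mul, hWU, app_zero, smul_zero]
  let ψ : P →ₗ[R] Hm W U M :=
    (Submodule.mkQ _).comp (((LinearMap.snd R _ _).comp P.subtype).codRestrict _ hw)
  have hπ : Function.Surjective π := fun y => by
    obtain ⟨z'', rfl⟩ := Hm.exists_rep y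
    choose v hv using fun i => hg ((z'' : Fin q → M'') i)
    obtain ⟨w, hw'⟩ := hlift p (app M U v) (by
      rw [← app_comp, show (g ∘ v : Fin q → M'') = z'' from funext hv]
      exact z''.2)
    exact ⟨⟨(v, w), (hP _).2 hw'.symm⟩, congrArg Submodule.Quotient.mk (Subtype.ext (funext hv))⟩
  have hψ : Function.Surjective ψ := fun y => by
    obtain ⟨w, rfl⟩ := Hm.exists_rep y
    have h := h₂ (Submodule.Quotient.mk w)
    rw [← Submodule.Quotient.mk_smul, Hm.mk_eq_zero_iff] at h
    obtain ⟨v, hv⟩ := h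
    exact ⟨⟨(v, w.1), (hP _).2 hv⟩, rfl⟩
  have hker : LinearMap.ker π ≤ LinearMap.ker ψ := fun z hz => by
    obtain ⟨u'', hu⟩ := (Hm.mk_eq_zero_iff _).1 (LinearMap.mem_ker.1 hz)
    choose u hu' using fun i => hg (u'' i)
    obtain ⟨t, ht⟩ := hlift q (z.1.1 - app M V u) (by
      funext i
      show g (z.1.1 i - app M V u i) = 0
      have e := congrFun ((app_comp V g u).symm.trans ((congrArg (app M'' V) (funext hu' : g ∘ u = u'')).trans hu)) i
      rw [map_sub, sub_eq_zero]
      exact e.symm)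
    refine LinearMap.mem_ker.2 ((Hm.mk_eq_zero_iff _).2 ⟨t, hcan p _ _ ?_⟩)
    show a • app M U t = a • z.1.2
    have hU : a • app M U t = app M U z.1.1 - app M U (app M V u) := by rw [← map_smul, ht, map_sub]
    rw [hU, (hP z.1).1 z.2, ← app_mul, hUV, app_zero, sub_zero]
  let δ : Hm U V M'' →ₗ[R] Hm W U M :=
    ((LinearMap.ker π).liftQ ψ hker).comp (π.quotKerEquivOfSurjective hπ).symm.toLinearMap
  have hδ : ∀ z, δ (π z) = ψ z := fun z => by
    show (LinearMap.ker π).liftQ ψ hker ((π.quotKerEquivOfSurjective hπ).symm (π z)) = ψ z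
    rw [show π z = π.quotKerEquivOfSurjective hπ (Submodule.Quotient.mk z) from rfl,
      LinearEquiv.symm_apply_apply, Submodule.liftQ_apply]
  refine Module.length_eq_add_of_exact (Hm.map U V g) δ ?_ (fun y => ?_) (fun y => ⟨fun h => ?_, ?_⟩)
  · rw [injective_iff_map_eq_zero]
    intro x hx
    obtain ⟨z, rfl⟩ := Hm.exists_rep x
    obtain ⟨z', hz', hz'e⟩ := Hm.map_mk U V g z
    rw [hz'e, Hm.mk_eq_zero_iff, hz'] at hx
    obtain ⟨u'', hu⟩ := hx
    choose u hu' using fun i => hg (u'' i)
    obtain ⟨t, ht⟩ := hlift q ((z : Fin q → M) - app M V u) (by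
      funext i
      show g ((z : Fin q → M) i - app M V u i) = 0
      have e := congrFun ((app_comp V g u).symm.trans ((congrArg (app M'' V) (funext hu' : g ∘ u = u'')).trans hu)) i
      rw [map_sub, sub_eq_zero]
      exact e.symm)
    have htU : app M U t = 0 := hcan p _ _ (by
      rw [← map_smul, ht, map_sub, LinearMap.mem_ker.1 z.2, ← app_mul, hUV, app_zero, sub_zero, smul_zero])
    refine ((Submodule.Quotient.eq _).2 ?_).trans (h₁ (Submodule.Quotient.mk ⟨t, htU⟩))
    show (z : Fin q → M) - a • t ∈ LinearMap.range (app M V)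
    exact ⟨u, by rw [ht, sub_sub_cancel]⟩
  · obtain ⟨z, hz⟩ := hψ y
    exact ⟨π z, (hδ z).trans hz⟩
  · obtain ⟨z, rfl⟩ := hπ y
    rw [hδ] at h
    obtain ⟨t, ht⟩ := (Hm.mk_eq_zero_iff _).1 h
    have hmem : z.1.1 - a • t ∈ LinearMap.ker (app M U) := by
      rw [LinearMap.mem_ker, map_sub, map_smul, (hP z.1).1 z.2, ht, sub_eq_zero]
      rfl
    refine ⟨Submodule.Quotient.mk ⟨_, hmem⟩, congrArg Submodule.Quotient.mk (Subtype.ext ?_)⟩
    funext i
    show g (z.1.1 i - a • t i) = g (z.1.1 i)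
    rw [map_sub, ← hf, hfg.apply_apply_eq_zero, sub_zero]
  · rintro ⟨x, rfl⟩
    obtain ⟨z, rfl⟩ := Hm.exists_rep x
    let Z : P := ⟨((z : Fin q → M), 0), (hP _).2 (by rw [LinearMap.mem_ker.1 z.2, smul_zero])⟩
    have e : Hm.map U V g (Submodule.Quotient.mk z) = π Z := rfl
    rw [e, hδ]
    exact (Hm.mk_eq_zero_iff _).2 (zero_mem _)

end Groth.Agent.AbCohLib
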