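import Groth.Agent.AbCohLib.Criterion
import Groth.Agent.Coherent.CohBC.UnivExact
import Groth.Agent.Coherent.CohBC.Perf
import Groth.Agent.FlatCxLib.CochainBetti

/-!
# A matrix model of a cohomology complex over a local ring
-/

set_option autoImplicit false
set_option backward.isDefEq.respectTransparency false

universe u

open CategoryTheory CategoryTheory.Limits TensorProduct Groth.Agent.FlatCxLib Groth.Agent.Coherent.CohBC

namespace Groth.Agent.AbCohLib

variable {R : Type u} [CommRing R]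

/-- Homology read through a ladder of equivalences. -/
theorem nonempty_homologyQuot_equiv {a b c : ℕ} {X Y Z M : Type u} [AddCommGroup X] [Module R X] [AddCommGroup Y]
    [Module R Y] [AddCommGroup Z] [Module R Z] [AddCommGroup M] [Module R M] (f : X →ₗ[R] Y) (g : Y →ₗ[R] Z)
    (U : Matrix (Fin c) (Fin b) R) (V : Matrix (Fin b) (Fin a) R)
    (eX : X ≃ₗ[R] (Fin a → M)) (eY : Y ≃ₗ[R] (Fin b → M)) (eZ : Z ≃ₗ[R] (Fin c → M))
    (hf : ∀ x, eY (f x) = app M V (eX x)) (hg : ∀ y, eZ (g y) = app M U (eY y)) :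
    Nonempty (homologyQuot f g ≃ₗ[R] Hm U V M) := by
  have hk : (LinearMap.ker g).map eY.toLinearMap = LinearMap.ker (app M U) := by
    ext v
    obtain ⟨y, rfl⟩ := eY.surjective v
    rw [LinearMap.mem_ker, ← hg, LinearEquiv.map_eq_zero_iff]
    exact ⟨fun ⟨y', hy', he⟩ => eY.injective he ▸ hy', fun h => ⟨y, h, rfl⟩⟩
  let e : LinearMap.ker g ≃ₗ[R] LinearMap.ker (app M U) :=
    (eY.submoduleMap (LinearMap.ker g)).trans (LinearEquiv.ofEq _ _ hk)
  refine ⟨Submodule.Quotient.equiv _ _ e ?_⟩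
  ext v
  constructor
  · rintro ⟨y, ⟨x, hx⟩, rfl⟩
    refine ⟨eX x, ?_⟩
    rw [← hf, hx]
    rfl
  · rintro ⟨w, hw⟩
    obtain ⟨y, rfl⟩ := e.surjective v
    refine ⟨y, ⟨eX.symm w, eY.injective ?_⟩, rfl⟩
    rw [hf, LinearEquiv.apply_symm_apply, hw]
    rfl

variable [IsNoetherianRing R] [IsLocalRing R]

/-- Over a local ring, a complex whose closed fibre vanishes above `g` is a complex of matrices in degrees `0..g`. -/
theorem exists_matrix_model (L : CochainComplex (ModuleCat.{u} R) ℤ)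
    (hL : ∀ i, Module.Finite R (L.X i) ∧ Module.Flat R (L.X i)) (hb : ∃ b : ℤ, ∀ i, b < i → IsZero (L.X i)) (g : ℕ)
    (hneg : ∀ p < (0 : ℤ), IsZero (CohIII.T L p (ModuleCat.of R (R ⧸ IsLocalRing.maximalIdeal R))))
    (hhigh : ∀ p : ℤ, (g : ℤ) < p → IsZero (CohIII.T L p (ModuleCat.of R (R ⧸ IsLocalRing.maximalIdeal R)))) :
    ∃ (n : ℕ → ℕ) (D : ∀ i, Matrix (Fin (n i)) (Fin (n (i + 1))) R),
      n 0 = 0 ∧ (∀ i, g + 1 < i → n i = 0) ∧ (∀ i, D i * D (i + 1) = 0) ∧
      ∀ (i : ℕ) (M : Type u) [AddCommGroup M] [Module R M],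
        Nonempty (CohIII.T L (i : ℤ) (ModuleCat.of R M) ≃ₗ[R] Hm (D (i + 1)).transpose (D i).transpose M) := by
  have hfib : ∀ (p : ℤ), IsZero (CohIII.T L p (ModuleCat.of R (R ⧸ IsLocalRing.maximalIdeal R))) →
      ∀ M, IsZero (CohIII.T L p M) := fun p hp M =>
    isZero_T_of_fibres_cochain L hL p (fun m hm => by
      obtain rfl := IsLocalRing.eq_maximalIdeal hm
      exact hp) M
  obtain ⟨L', hL', hz, -, hiso⟩ := exists_amplitude L hL hb 0 g
    (fun m hm p hp => hfib p (hneg p hp) _)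
    (fun p hp => (hfib p (hhigh p hp) (ModuleCat.of R R)).of_iso (unitTIso L p).symm)
  haveI : ∀ i, Module.Free R (L'.X i) := fun i => by
    haveI := (hL' i).1
    haveI := (hL' i).2
    haveI : Module.FinitePresentation R (L'.X i) := Module.finitePresentation_of_finite R _
    exact Module.free_of_flat_of_isLocalRing
  haveI : ∀ i, Module.Finite R (L'.X i) := fun i => (hL' i).1
  let r : ℤ → ℕ := fun i => Module.finrank R (L'.X i)
  let b : ∀ i, Module.Basis (Fin (r i)) R (L'.X i) := fun i => Module.finBasis R (L'.X i)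
  let n : ℕ → ℕ := fun i => match i with
    | 0 => 0
    | j + 1 => r j
  let D : ∀ i, Matrix (Fin (n i)) (Fin (n (i + 1))) R := fun i => match i with
    | 0 => 0
    | j + 1 => (LinearMap.toMatrix (b j) (b ((j + 1 : ℕ) : ℤ)) (L'.d j ((j + 1 : ℕ) : ℤ)).hom).transpose
  refine ⟨n, D, rfl, ?_, ?_, ?_⟩
  · rintro (_ | j) hj
    · omega
    · haveI := ModuleCat.subsingleton_of_isZero (hz (j : ℤ) (Or.inr (by omega)))
      exact Module.finrank_zero_of_subsingleton
  · rintro (_ | j)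
    · exact Matrix.zero_mul _
    · show (LinearMap.toMatrix (b j) (b ((j + 1 : ℕ) : ℤ)) (L'.d j ((j + 1 : ℕ) : ℤ)).hom).transpose *
        (LinearMap.toMatrix (b ((j + 1 : ℕ) : ℤ)) (b ((j + 2 : ℕ) : ℤ))
          (L'.d ((j + 1 : ℕ) : ℤ) ((j + 2 : ℕ) : ℤ)).hom).transpose = 0
      rw [← Matrix.transpose_mul, ← LinearMap.toMatrix_comp, ← ModuleCat.hom_comp, L'.d_comp_d]
      simp
  intro i M _ _
  let e : ∀ i : ℤ, (L'.X i ⊗[R] M) ≃ₗ[R] (Fin (r i) → M) := fun i =>
    (TensorProduct.equivFinsuppOfBasisLeft (b i)).trans (Finsupp.linearEquivFunOnFinite R M (Fin (r i)))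
  have he : ∀ (i j : ℤ) (x : L'.X i ⊗[R] M),
      e j ((L'.d i j).hom.rTensor M x) = app M (LinearMap.toMatrix (b i) (b j) (L'.d i j).hom) (e i x) := by
    intro i j x
    induction x using TensorProduct.induction_on with
    | zero => simp
    | add x y hx hy => simp only [map_add, hx, hy]
    | tmul v m =>
      funext c
      rw [LinearMap.rTensor_tmul, app_apply]
      simp only [e, LinearEquiv.trans_apply, Finsupp.linearEquivFunOnFinite_apply,
        TensorProduct.equivFinsuppOfBasisLeft_apply_tmul_apply, smul_smul, ← Finset.sum_smul]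
      congr 1
      exact (congrFun (LinearMap.toMatrix_mulVec_repr (b i) (b j) (L'.d i j).hom v) c).symm
  obtain ⟨iso⟩ := hiso (i : ℤ) (ModuleCat.of R M)
  have e0 := iso.toLinearEquiv.symm
  have e1 := cochainHomologyEquiv (CohIII.tensorObj L' (ModuleCat.of R M)) ((i : ℤ) - 1) i ((i + 1 : ℕ) : ℤ) (by omega)
    (by push_cast; rfl)
  have hU : ∀ y : L'.X (i : ℤ) ⊗[R] M, e ((i + 1 : ℕ) : ℤ) ((L'.d (i : ℤ) ((i + 1 : ℕ) : ℤ)).hom.rTensor M y) =
      app M (D (i + 1)).transpose (e i y) := fun y => he _ _ y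
  cases i with
  | zero =>
    haveI := ModuleCat.subsingleton_of_isZero (hz (((0 : ℕ) : ℤ) - 1) (Or.inl (by omega)))
    haveI : Subsingleton (L'.X (((0 : ℕ) : ℤ) - 1) ⊗[R] M) := inferInstance
    let ez : (L'.X (((0 : ℕ) : ℤ) - 1) ⊗[R] M) ≃ₗ[R] (Fin 0 → M) :=
      LinearEquiv.ofSubsingleton _ _
    obtain ⟨e2⟩ := nonempty_homologyQuot_equiv _ _ (D 1).transpose (D 0).transpose ez (e _) (e _)
      (fun x => by rw [Subsingleton.elim x 0, map_zero, map_zero, map_zero, map_zero]) hU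
    exact ⟨(e0.trans e1).trans e2⟩
  | succ j =>
    have hj : ((j + 1 : ℕ) : ℤ) - 1 = (j : ℤ) := by omega
    rw [hj] at e1
    obtain ⟨e2⟩ := nonempty_homologyQuot_equiv _ _ (D (j + 1 + 1)).transpose (D (j + 1)).transpose (e _) (e _) (e _)
      (fun x => he _ _ x) hU
    exact ⟨(e0.trans e1).trans e2⟩

end Groth.Agent.AbCohLib
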