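import Groth.Agent.CohDer1.GroupOmega
import Groth.Agent.Canon15.TopDiff
import Groth.Agent.GenSmoothLib.OmegaFree
import Groth.Agent.ExtPowEx28.Basic
import Groth.Agent.ExtPowEx28.Pull
import Groth.Agent.KvbLam28.Basic
import Groth.Agent.GrassLib.PBundle.ExtBasis
import Groth.Agent.FlatMor12.FlatFun.GenPts
import Groth.Agent.SerreDual.ProjDualAll
import Groth.Agent.DCat.PullPerf
import Groth.Agent.SerreDual.ExtLocFree
import Groth.Prelude.Def_ExtPow2

/-!
# Cohomology of the exterior powers of the differentials of a group variety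
-/

set_option autoImplicit false
set_option linter.style.haveILetI false
set_option backward.isDefEq.respectTransparency.types false

universe u

open CategoryTheory CategoryTheory.Limits MonoidalCategory CartesianMonoidalCategory MonObj GrpObj AlgebraicGeometry
open Groth.Agent

namespace Groth.Agent.AbCohLib

/-- On a one-point scheme locally free modules are free. -/
theorem nonempty_iso_freeMod_of_subsingleton {S : Scheme.{u}} [Subsingleton S] [Nonempty S] {n : ℕ} {M : S.Modules}
    (h : FlatMod.IsFinLocFreeOfRank n M) : Nonempty (M ≅ FlatMod.freeMod S n) := by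
  obtain ⟨U, hx, ⟨e⟩⟩ := h (Classical.arbitrary S)
  haveI : IsIso U.ι := by
    have hU : U = ⊤ := TopologicalSpace.Opens.ext (Set.eq_univ_of_forall fun y => by
      rw [Subsingleton.elim y (Classical.arbitrary S)]; exact hx)
    subst hU
    exact inferInstanceAs (IsIso (Scheme.topIso S).hom)
  obtain ⟨e'⟩ := FlatMor12.FlatFun.nonempty_pullback_freeMod (inv U.ι) n
  exact ⟨((Scheme.Modules.pullbackId S).app M).symm ≪≫
    ((Scheme.Modules.pullbackCongr (IsIso.inv_hom_id U.ι).symm).app M) ≪≫
    ((Scheme.Modules.pullbackComp (inv U.ι) U.ι).app M).symm ≪≫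
    (Scheme.Modules.pullback (inv U.ι)).mapIso ((Scheme.Modules.restrictFunctorIsoPullback U.ι).app M).symm ≪≫
    (Scheme.Modules.pullback (inv U.ι)).mapIso e ≪≫ e'⟩

/-- Rank of pullbacks. -/
theorem isFinLocFreeOfRank_pullback {X Y : Scheme.{u}} (f : Y ⟶ X) {n : ℕ} {M : X.Modules}
    (h : FlatMod.IsFinLocFreeOfRank n M) : FlatMod.IsFinLocFreeOfRank n ((Scheme.Modules.pullback f).obj M) :=
  fun y => FlatMor12.FlatFun.freeNear_pullback f (h (f y))

/-- Exterior powers of a linear equivalence. -/
noncomputable def extEquiv {R : Type*} [CommRing R] {M N : Type*} [AddCommGroup M] [Module R M] [AddCommGroup N]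
    [Module R N] (i : ℕ) (q : M ≃ₗ[R] N) : (⋀[R]^i M) ≃ₗ[R] (⋀[R]^i N) :=
  LinearEquiv.ofLinearMap (exteriorPower.map i q.toLinearMap) (exteriorPower.map i q.symm.toLinearMap)
    (by rw [← exteriorPower.map_comp, q.comp_symm, exteriorPower.map_id])
    (by rw [← exteriorPower.map_comp, q.symm_comp, exteriorPower.map_id])

/-- Exterior powers of isomorphic modules. -/
theorem isExtPow_congr {X : Scheme.{u}} {i : ℕ} {E E' L : X.Modules} (e : E ≅ E') (h : ExtPow.IsExtPow i E L) :
    ExtPow.IsExtPow i E' L := by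
  obtain ⟨φ, hφ⟩ := h
  let q : ∀ U : X.affineOpens, (E.val.obj (Opposite.op U.1)) ≃ₗ[Γ(X, U.1)] (E'.val.obj (Opposite.op U.1)) := fun U =>
    { toFun := fun x => e.hom.app U.1 x
      invFun := fun x => e.inv.app U.1 x
      left_inv := fun x => congrArg (fun ψ : E ⟶ E => ψ.app U.1 x) e.hom_inv_id
      right_inv := fun x => congrArg (fun ψ : E' ⟶ E' => ψ.app U.1 x) e.inv_hom_id
      map_add' := fun a b => map_add (e.hom.app U.1).hom a b
      map_smul' := fun r a => Scheme.Modules.Hom.app_smul e.hom r a }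
  refine ⟨fun U => (φ U).trans (extEquiv i (q U)), fun U V h v => ?_⟩
  show L.val.map _ ((φ U).symm (exteriorPower.map i (q U).symm.toLinearMap (exteriorPower.ιMulti _ i v))) =
    (φ V).symm (exteriorPower.map i (q V).symm.toLinearMap (exteriorPower.ιMulti _ i _))
  rw [exteriorPower.map_apply_ιMulti, exteriorPower.map_apply_ιMulti]
  refine (hφ U V h _).trans (congrArg _ (congrArg _ (funext fun j => ?_)))
  exact (Coherent.app_resM e.inv h _).symm

variable {k : Type u} [Field k]

/-- Exterior powers of the differentials of a group variety are free. -/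
theorem nonempty_extPow_omega_iso_free (G : Over (Spec (CommRingCat.of k))) [GrpObj G] [IsSeparated G.hom]
    {g : ℕ} [SmoothOfRelativeDimension g G.hom] {r : ℕ} {L : G.left.Modules}
    (hL : ExtPow.IsExtPow r (Omega.sheaf G.hom) L) :
    Nonempty (L ≅ FlatMod.freeMod G.left (g.choose r)) := by
  obtain ⟨eΩ⟩ := CohDer1.GroupOmega.nonempty_omega_iso_pullback G
  let M := (Scheme.Modules.pullback η[G].left).obj (Omega.sheaf G.hom)
  have hM : FlatMod.IsFinLocFreeOfRank g M :=
    isFinLocFreeOfRank_pullback _ (Canon15.isFinLocFreeOfRank_omega G.hom g)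
  have hM' : FlatMod.IsFinLocFree M := fun x => ⟨_, g, (hM x).choose_spec⟩
  obtain ⟨L0, -, hL0⟩ := ExtPowEx28.exists_isExtPow hM' r
  obtain ⟨φ, hφ⟩ := hL0
  have hr := GrassLib.PBundle.isFinLocFreeOfRank_extPow φ hφ hM
  have hc : Fintype.card (Set.powersetCard (Fin g) r) = g.choose r := by
    rw [← Nat.card_eq_fintype_card, Set.powersetCard.card, Nat.card_eq_fintype_card, Fintype.card_fin]
  rw [hc] at hr
  obtain ⟨e0⟩ := nonempty_iso_freeMod_of_subsingleton (S := Spec (CommRingCat.of k)) hr
  obtain ⟨e1⟩ := FlatMor12.FlatFun.nonempty_pullback_freeMod G.hom (g.choose r)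
  obtain ⟨e2⟩ := KvbLam28.exists_iso_of_isExtPow hL
    (show ExtPow.IsExtPow r (Omega.sheaf G.hom) ((Scheme.Modules.pullback G.hom).obj L0) from
      isExtPow_congr eΩ.symm (ExtPowEx28.isExtPow_pullback_vb (σ := G.hom) hM' ⟨φ, hφ⟩))
  exact ⟨e2 ≪≫ (Scheme.Modules.pullback G.hom).mapIso e0 ≪≫ e1⟩

attribute [local instance] Coherent.hasFiniteBiproducts in
/-- Cohomology of a free module. -/
theorem finrank_HH_freeMod {X : Scheme.{u}} [X.Over (Spec (CommRingCat.of k))] (N q : ℕ)
    [Module.Finite k (Coh.HH X (Coh.structureModule X) q)] :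
    Module.finrank k (Coh.HH X (FlatMod.freeMod X N) q) =
      N * Module.finrank k (Coh.HH X (Coh.structureModule X) q) := by
  classical
  let G : Fin N → X.Modules := fun _ => Coh.structureModule X
  let e : Coh.HH X (⨁ G) q ≃ₗ[k] (Fin N → Coh.HH X (Coh.structureModule X) q) :=
    LinearEquiv.ofLinearMap (LinearMap.pi fun i => SerreDual.hmap k (biproduct.π G i) q)
      (LinearMap.lsum k (fun _ => Coh.HH X (Coh.structureModule X) q) k fun i => SerreDual.hmap k (biproduct.ι G i) q)
      (by
        refine LinearMap.pi_ext fun i x => funext fun j => ?_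
        simp only [LinearMap.comp_apply, LinearMap.id_apply, LinearMap.pi_apply, LinearMap.lsum_apply,
          LinearMap.sum_apply, LinearMap.proj_apply]
        rw [Finset.sum_eq_single i (fun b _ hb => by rw [Pi.single_eq_of_ne hb, map_zero])
          (fun h => absurd (Finset.mem_univ i) h), Pi.single_eq_same]
        show (SerreDual.hmap k (biproduct.π G j) q ∘ₗ SerreDual.hmap k (biproduct.ι G i) q) x = _
        rw [← SerreDual.hmap_comp]
        by_cases hij : i = j
        · subst hij; rw [biproduct.ι_π_self, SerreDual.hmap_id, Pi.single_eq_same]; rfl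
        · rw [biproduct.ι_π_ne _ hij, SerreDual.hmap_zero, Pi.single_eq_of_ne (Ne.symm hij)]; rfl)
      (by
        ext x
        simp only [LinearMap.comp_apply, LinearMap.id_apply, LinearMap.pi_apply, LinearMap.lsum_apply,
          LinearMap.sum_apply, LinearMap.proj_apply]
        let ψ : ((⨁ G) ⟶ (⨁ G)) →+ (Coh.HH X (⨁ G) q →ₗ[k] Coh.HH X (⨁ G) q) :=
          { toFun := fun f => SerreDual.hmap k f q, map_zero' := SerreDual.hmap_zero k _ _ q
            map_add' := fun f g => SerreDual.hmap_add k f g q }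
        have e : ψ (𝟙 _) x = x := by show SerreDual.hmap k (𝟙 _) q x = x; rw [SerreDual.hmap_id]; rfl
        conv_rhs => rw [← e, SerreDual.biproduct_total, map_sum, LinearMap.sum_apply]
        refine Finset.sum_congr rfl fun i _ => ?_
        exact (LinearMap.congr_fun (SerreDual.hmap_comp k (biproduct.π G i) (biproduct.ι G i) q) x).symm)
  let e' : Coh.HH X (FlatMod.freeMod X N) q ≃ₗ[k] Coh.HH X (⨁ G) q :=
    SerreDual.hmapIso k (biproduct.isoCoproduct G).symm q
  rw [e'.finrank_eq, e.finrank_eq, Module.finrank_pi_fintype]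
  simp

end Groth.Agent.AbCohLib
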