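import Groth.Agent.RigDesc27.Points
import Groth.Prelude.Def_PicRel2

/-!
# From fppf to étale representability of the relative Picard functor
-/

set_option autoImplicit false
set_option backward.isDefEq.respectTransparency.types false
set_option linter.style.haveILetI false

universe u

open CategoryTheory CategoryTheory.Limits AlgebraicGeometry
open Groth.Agent.PicLib Groth.Agent.RigDesc27

namespace Groth.Agent.AbCohLib

variable {X S : Scheme.{u}} {f : X ⟶ S} {P : Over S} {φ : ∀ T : Over S, PicF.Cl (PicF.XT f T) → (T ⟶ P)}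

/-- With a section and universally `f_*O = O`, an fppf relative Picard scheme is an étale one. -/
theorem isRelPic_of_isRelPicK (σ : S ⟶ X) (hσ : σ ≫ f = 𝟙 S)
    (ha : ∀ (V : Over S) (O : V.left.Opens), IsIso ((PicF.XTproj f V).app O))
    (hP : AbDual.IsRelPicK Scheme.fppfPrecoverage f P φ) : PicRel.IsRelPic f P φ := by
  refine ⟨hP.natural, fun T g => ?_, fun T c c' hc hc' h => ?_⟩
  · obtain ⟨d, -, hg⟩ := exists_phi_eq (σ := σ) (hσ := hσ) ha hP g
    let U : T.left.Etale := MorphismProperty.Over.mk ⊤ (𝟙 T.left) inferInstance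
    refine ⟨PUnit, fun _ => U, fun y => ⟨PUnit.unit, y, rfl⟩, fun _ =>
      ⟨_, (PicM.pull (PicF.XTmap f (PicRel.ovrHom T U)) d).prop, ?_⟩⟩
    refine Eq.trans (hP.natural T _ (PicRel.ovrHom T U) d.val d.prop) ?_
    rw [hg]
  · obtain ⟨N, hN⟩ := PicM.exists_mul_eq_one (PicM.pull (PicF.secT f σ hσ T) ⟨c, hc⟩)
    obtain ⟨N', hN'⟩ := PicM.exists_mul_eq_one (PicM.pull (PicF.secT f σ hσ T) ⟨c', hc'⟩)
    have he : (⟨c, hc⟩ : PicM (PicF.XT f T)) * PicM.pull (PicF.XTproj f T) N =
        ⟨c', hc'⟩ * PicM.pull (PicF.XTproj f T) N' := by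
      refine eq_of_phi_eq (σ := σ) (hσ := hσ) ha hP _ _ ?_ ?_ ?_
      · rw [map_mul, PicM.pull_pull (g := PicF.XTproj f _), secT_proj, PicM.pull_id, hN]
      · rw [map_mul, PicM.pull_pull (g := PicF.XTproj f _), secT_proj, PicM.pull_id, hN']
      · rw [phi_mul_base hP, phi_mul_base hP]
        exact h
    obtain ⟨M, hM, rfl⟩ := PicM.exists_eq_of N
    obtain ⟨M', hM', rfl⟩ := PicM.exists_eq_of N'
    choose U hyU g hg using fun y => exists_isGen hM y
    choose U' hyU' g' hg' using fun y => exists_isGen hM' y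
    let W : T.left → T.left.Etale := fun y =>
      MorphismProperty.Over.mk ⊤ (U y ⊓ U' y).ι inferInstance
    refine ⟨T.left, W, fun y => ⟨y, (⟨y, hyU y, hyU' y⟩ : ↥(U y ⊓ U' y)), rfl⟩, fun y => ?_⟩
    have h1 : ∀ (M : T.left.Modules) (hM : PicF.IsInvertible M) (V : T.left.Opens) (t : Γ(M, V)) (_ : IsGen M V t),
        U y ⊓ U' y ≤ V → PicM.pull (PicF.XTmap f (PicRel.ovrHom T (W y)))
          (PicM.pull (PicF.XTproj f T) (PicM.of hM)) = 1 := by
      intro M hM V t ht hle
      rw [PicM.pull_pull, XTmap_proj, ← PicM.pull_pull,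
        show PicM.pull (PicRel.ovrHom T (W y)).left (PicM.of hM) = 1 from
          pull_eq_one_of_isGen (U y ⊓ U' y).ι hM (ht.restrict hle) (U y ⊓ U' y).ι_preimage_self, map_one]
    have h2 := congrArg (PicM.pull (PicF.XTmap f (PicRel.ovrHom T (W y)))) he
    rw [map_mul, map_mul, h1 M hM _ _ (hg y) inf_le_left, h1 M' hM' _ _ (hg' y) inf_le_right,
      _root_.mul_one, _root_.mul_one] at h2
    exact congrArg PicM.val h2

end Groth.Agent.AbCohLib
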