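import Groth.Agent.AbCohLib.Setup
import Groth.Agent.AbCohLib.PicEtale
import Groth.Agent.H8Coh.PicDim
import Groth.Agent.S17906
import Groth.Agent.AlgSpLib.DimBasic
import Groth.Agent.DimLib.BaseChange
import Groth.Agent.CurveRR24.BCField

/-!
# Smoothness and dimension of the Picard scheme of an abelian variety
-/

set_option autoImplicit false
set_option linter.style.haveILetI false
set_option backward.isDefEq.respectTransparency.types false
set_option maxHeartbeats 800000

universe u

open CategoryTheory CategoryTheory.Limits MonoidalCategory CartesianMonoidalCategory MonObj GrpObj AlgebraicGeometry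
open Groth.Agent Groth.Agent.PicLib Groth.Agent.AbCubeLib Groth.Agent.CubeLib

namespace Groth.Agent.AbCohLib

/-- A proper morphism of finite type schemes over a field, injective on closed points, is finite. -/
theorem isFinite_of_injOn_closedPoints {X Y : Scheme.{u}} (f : X ⟶ Y) [IsProper f] [JacobsonSpace X]
    (hinj : Set.InjOn f.base {x : X | IsClosed ({x} : Set X)}) : IsFinite f := by
  have : LocallyQuasiFinite f := by
    rw [← Scheme.Hom.quasiFiniteLocus_eq_top_iff, eq_top_iff]
    rintro x -
    by_contra hx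
    obtain ⟨P, hP, hPc⟩ := nonempty_inter_closedPoints (Z := (f.quasiFiniteLocus : Set X)ᶜ) ⟨x, hx⟩
      f.quasiFiniteLocus.isOpen.isClosed_compl.isLocallyClosed
    refine hP (Scheme.Hom.quasiFiniteAt_iff_isOpen_singleton_asFiber.2 ?_)
    have hfib : f ⁻¹' {f P} = {P} := by
      refine Set.eq_singleton_iff_unique_mem.2 ⟨rfl, fun z hz => ?_⟩
      have hclP : IsClosed ({f P} : Set Y) := by
        simpa using f.isClosedMap _ hPc
      have hsub : f ⁻¹' {f P} ∩ closedPoints X ⊆ {P} := fun w hw => (hinj hPc hw.2 hw.1.symm).symm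
      have h1 := JacobsonSpace.closure_inter_closedPoints_eq_closure
        (hclP.preimage f.continuous).isLocallyClosed
      have h2 : z ∈ closure ({P} : Set X) := closure_mono hsub (h1.ge (subset_closure hz))
      rwa [hPc.closure_eq] at h2
    have : ({f.asFiber P} : Set (f.fiber (f P))) = Set.univ := by
      refine Set.eq_univ_of_forall fun z => Set.mem_singleton_iff.2 ((f.fiberHomeo (f P)).injective ?_)
      rw [Scheme.Hom.asFiber, Homeomorph.apply_symm_apply]
      refine Subtype.ext ?_
      have h := (f.fiberHomeo (f P) z).2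
      exact Set.mem_singleton_iff.1 (hfib.le h)
    rw [this]
    exact isOpen_univ
  exact IsFinite.of_isProper_of_locallyQuasiFinite f

variable {k : Type u} [Field k]

/-- A proper group variety has universally `f_*O = O`. -/
theorem isIso_XTproj_app (A : Over (Spec (CommRingCat.of k))) [GrpObj A] [IsProper A.hom]
    [GeometricallyIntegral A.hom] (T : Over (Spec (CommRingCat.of k))) (U : T.left.Opens) :
    IsIso ((PicF.XTproj A.hom T).app U) := by
  haveI : Flat A.hom := flat_of_field _
  haveI : Smooth A.hom := NeronLib.smooth_of_geometricallyIntegral A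
  haveI : GeometricallyConnected A.hom := AbSchLib.geometricallyConnected_of_irreducible A.hom
  have hs : (lift (1 : T ⟶ A) (𝟙 T)).left ≫ PicF.XTproj A.hom T = 𝟙 T.left := by
    show (lift (1 : T ⟶ A) (𝟙 T)).left ≫ (snd A T).left = 𝟙 T.left
    rw [← Over.comp_left, lift_snd]; rfl
  exact (ConcreteCategory.isIso_iff_bijective _).2
    (AbDualLib.bijective_app_of_section (pullback.snd A.hom T.hom) _ hs U)

theorem XTmap_eq_lift (A : Over (Spec (CommRingCat.of k))) {V W : Over (Spec (CommRingCat.of k))} (g : V ⟶ W) :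
    PicF.XTmap A.hom g = (lift (fst A V) (snd A V ≫ g)).left := by
  refine RigDesc27.hom_ext_XT ?_ ?_
  · rw [RigDesc27.XTmap_fst]
    show (fst A V).left = (lift (fst A V) (snd A V ≫ g)).left ≫ (fst A W).left
    rw [← Over.comp_left, lift_fst]
  · rw [RigDesc27.XTmap_proj]
    show (snd A V).left ≫ g.left = (lift (fst A V) (snd A V ≫ g)).left ≫ (snd A W).left
    rw [← Over.comp_left, ← Over.comp_left, lift_snd]

variable [IsAlgClosed k]

/-- Mumford's dimension count. -/
theorem finrank_HH_structure (A : Over (Spec (CommRingCat.of k))) [GrpObj A] [IsProper A.hom]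
    [GeometricallyIntegral A.hom] {g : ℕ} (hg : topologicalKrullDim A.left = g) (i : ℕ) :
    letI : A.left.Over (Spec (CommRingCat.of k)) := ⟨A.hom⟩
    Module.finrank k (Coh.HH A.left (Coh.structureModule A.left) i) = g.choose i := by
  obtain ⟨Ah, iAh, hAp, hAg, P, hP, hdim, h0, hvan, huniv⟩ := exists_poincare_setup A hg
  exact (poincare_local (A := A) (Ah := Ah) hg hdim hP h0 hvan fun T _ t ht => huniv T t ht).1 i

/-- The Picard scheme has dimension at least that of the abelian variety. -/
theorem dim_le_pic (A : Over (Spec (CommRingCat.of k))) [GrpObj A] [IsProper A.hom] [GeometricallyIntegral A.hom]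
    {g : ℕ} (hg : topologicalKrullDim A.left = g) {P : Over (Spec (CommRingCat.of k))} [LocallyOfFiniteType P.hom]
    {φ : ∀ T : Over (Spec (CommRingCat.of k)), PicF.Cl (PicF.XT A.hom T) → (T ⟶ P)}
    (hP : PicRel.IsRelPic A.hom P φ) : (g : WithBot ℕ∞) ≤ topologicalKrullDim P.left := by
  obtain ⟨Ah, iAh, hAp, hAg, L, hL, hdim, h0, -, -, hinj⟩ := exists_poincare_setup' A hg
  let d : PicM (PicF.XT A.hom Ah) := pb (lift (snd A Ah) (fst A Ah)) (PicM.of hL)
  let m : Ah ⟶ P := H8Coh.NthPower.ψ φ Ah d
  letI : GrpObj P := H8Coh.PicGroup.grpObj hP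
  haveI : IsSeparated P.hom := SGA3xLib.isSeparated_of_grpObj P
  haveI : IsProper m.left := by
    haveI : IsProper (m.left ≫ P.hom) := by rw [Over.w m]; infer_instance
    exact IsProper.of_comp m.left P.hom
  haveI : JacobsonSpace Ah.left := LocallyOfFiniteType.jacobsonSpace Ah.hom
  haveI : JacobsonSpace P.left := LocallyOfFiniteType.jacobsonSpace P.hom
  haveI : IsFinite m.left := by
    refine isFinite_of_injOn_closedPoints m.left fun x hx x' hx' h => ?_
    let w : 𝟙_ (Over (Spec (CommRingCat.of k))) ⟶ Ah :=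
      Over.homMk (pointOfClosedPoint Ah.hom x hx) (pointOfClosedPoint_comp Ah.hom x hx)
    let w' : 𝟙_ (Over (Spec (CommRingCat.of k))) ⟶ Ah :=
      Over.homMk (pointOfClosedPoint Ah.hom x' hx') (pointOfClosedPoint_comp Ah.hom x' hx')
    have hw : w.left (IsLocalRing.closedPoint k) = x := pointOfClosedPoint_apply _ _ _ _
    have hw' : w'.left (IsLocalRing.closedPoint k) = x' := pointOfClosedPoint_apply _ _ _ _
    have e : w ≫ m = w' ≫ m := point_ext (by
      show m.left (w.left _) = m.left (w'.left _)
      rw [hw, hw']; exact h)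
    rw [← H8Coh.NthPower.ψ_pc hP, ← H8Coh.NthPower.ψ_pc hP] at e
    have e' := H8Coh.NthPower.inj_of_hasSections hP (H8Coh.NthPower.hasSections_field _) e
    have key : ∀ v : 𝟙_ (Over (Spec (CommRingCat.of k))) ⟶ Ah,
        pb (lift (𝟙 A) (toUnit A)) (H8Coh.NthPower.pc (f := A.hom) v d) =
          pb (lift (toUnit A ≫ v) (𝟙 A)) (PicM.of hL) := by
      intro v
      show pb (lift (𝟙 A) (toUnit A)) (PicM.pull (PicF.XTmap A.hom v) d) = _
      rw [XTmap_eq_lift]
      show pb _ (pb _ (pb _ (PicM.of hL))) = _
      rw [pb_pb, pb_pb]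
      congr 2
      ext1 <;> simp
    have := hinj w w' (by rw [← key, ← key, e'])
    rw [← hw, ← hw', this]
  rw [← hdim]
  exact AlgSpLib.topologicalKrullDim_le_of_isIntegralHom m.left

end Groth.Agent.AbCohLib
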