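import Groth.Agent.AbDualLib.Primitive
import Groth.Agent.AbDualLib.Basic
import Mathlib.AlgebraicGeometry.AlgClosed.Basic

/-!
# Pic⁰ is detected after a surjective base change
-/

set_option autoImplicit false
set_option backward.isDefEq.respectTransparency.types false
set_option linter.style.haveILetI false

universe u

open CategoryTheory CategoryTheory.Limits MonoidalCategory CartesianMonoidalCategory AlgebraicGeometry
open Groth.Agent Groth.Agent.PicLib

namespace Groth.Agent.AbCohLib

variable {S X : Scheme.{u}} {f : X ⟶ S}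

/-- A class whose inverse image along a surjective morphism is of Pic⁰ is of Pic⁰. -/
theorem isPicZeroCl_of_surjective {T T' : Over S} (g : T' ⟶ T) [Surjective g.left]
    [LocallyOfFiniteType g.left] {c : PicM (PicF.XT f T)}
    (h : AbDual.IsPicZeroCl f T' (PicF.pullCl (PicF.XTmap f g) c.val)) : AbDual.IsPicZeroCl f T c.val := by
  obtain ⟨L, hL, rfl⟩ := PicM.exists_eq_of c
  obtain ⟨L', hcL', hL', hfib⟩ := h
  refine ⟨L, rfl, hL, fun t Ω _ _ σ hσ => ?_⟩
  let Z := pullback g.left σ
  let pr : Z ⟶ Spec (CommRingCat.of Ω) := pullback.snd g.left σ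
  haveI : LocallyOfFiniteType pr := inferInstanceAs (LocallyOfFiniteType (pullback.snd g.left σ))
  haveI : Surjective pr := inferInstanceAs (Surjective (pullback.snd g.left σ))
  haveI : JacobsonSpace Z := LocallyOfFiniteType.jacobsonSpace pr
  obtain ⟨z₀, -⟩ := pr.surjective (IsLocalRing.closedPoint Ω)
  obtain ⟨z, -, hzc⟩ := nonempty_inter_closedPoints (Z := (Set.univ : Set Z)) ⟨z₀, trivial⟩
    isClosed_univ.isLocallyClosed
  let p : Spec (CommRingCat.of Ω) ⟶ Z := pointOfClosedPoint pr z hzc
  have hp : p ≫ pr = 𝟙 _ := pointOfClosedPoint_comp pr z hzc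
  let σ' : Spec (CommRingCat.of Ω) ⟶ T'.left := p ≫ pullback.fst g.left σ
  have hσ' : σ' ≫ g.left = σ := by
    simp only [σ', Category.assoc, pullback.condition]
    rw [← Category.assoc, show p ≫ pullback.snd g.left σ = 𝟙 _ from hp, Category.id_comp]
  have hr : Set.range σ'.base = {σ' (IsLocalRing.closedPoint Ω)} :=
    Set.eq_singleton_iff_unique_mem.2 ⟨⟨_, rfl⟩, by
      rintro _ ⟨x, rfl⟩
      rw [Subsingleton.elim (α := PrimeSpectrum Ω) x (IsLocalRing.closedPoint Ω)]⟩
  letI : (pullback (PicF.XTproj f T) σ).Over (Spec (CommRingCat.of Ω)) := ⟨pullback.snd _ _⟩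
  letI : (pullback (PicF.XTproj f T') σ').Over (Spec (CommRingCat.of Ω)) := ⟨pullback.snd _ _⟩
  let e : pullback (PicF.XTproj f T) σ ⟶ pullback (PicF.XTproj f T') σ' :=
    pullback.lift (pullback.lift (pullback.fst _ _ ≫ pullback.fst f T.hom) (pullback.snd _ _ ≫ σ') (by
        rw [Category.assoc, Category.assoc, pullback.condition, ← Over.w g, ← Category.assoc σ', hσ']
        exact pullback.condition_assoc (f := PicF.XTproj f T) (g := σ) T.hom))
      (pullback.snd _ _) (pullback.lift_snd _ _ _)
  have he : e ≫ pullback.fst (PicF.XTproj f T') σ' ≫ PicF.XTmap f g = pullback.fst (PicF.XTproj f T) σ := by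
    rw [pullback.lift_fst_assoc]
    apply pullback.hom_ext
    · simp only [PicF.XTmap, pullback.map, Category.assoc, pullback.lift_fst, Category.comp_id]
    · simp only [PicF.XTmap, pullback.map, Category.assoc, pullback.lift_snd]
      rw [pullback.lift_snd_assoc, Category.assoc, hσ']
      exact pullback.condition.symm
  refine AbDualLib.isAlgEquivZero_congr (Nonempty.some ?_)
    (AbCubeLib.isAlgEquivZero_pullback e (pullback.lift_snd _ _ _) (hfib _ Ω σ' hr))
  refine (PicM.of_eq_iff (PicLoc.isInvertible_pullback _ (PicLoc.isInvertible_pullback _ hL'))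
    (PicLoc.isInvertible_pullback _ hL)).1 ?_
  have hcl : PicM.of hL' = PicM.pull (PicF.XTmap f g) (PicM.of hL) := PicM.ext hcL'
  rw [← PicM.pull_of e (PicLoc.isInvertible_pullback _ hL'), ← PicM.pull_of _ hL', ← PicM.pull_of _ hL, hcl,
    PicM.pull_pull, PicM.pull_pull, Category.assoc, he]

end Groth.Agent.AbCohLib
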