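import Groth.Agent.AbCohLib.MatHom
import Groth.Agent.CAlgH3.RegularCore

/-!
# A free resolution of the residue field of a regular local ring, and its dual
-/

set_option autoImplicit false

universe u

open Matrix IsLocalRing RingTheory.Sequence

namespace Groth.Agent.AbCohLib

variable {R : Type u} [CommRing R] {p q r s : ℕ}

theorem mul_transpose_zero {U : Matrix (Fin p) (Fin q) R} {V : Matrix (Fin q) (Fin r) R} (h : U * V = 0) :
    Vᵀ * Uᵀ = 0 := by
  rw [← Matrix.transpose_mul, h, Matrix.transpose_zero]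

theorem subsingleton_Hm_of_eq_zero {M : Type u} [AddCommGroup M] [Module R M] {U : Matrix (Fin p) (Fin q) R}
    {V : Matrix (Fin q) (Fin r) R} (hq : q = 0) : Subsingleton (Hm U V M) := by
  subst hq
  haveI : Subsingleton (Fin 0 → M) := inferInstance
  infer_instance

/-- Null homotopies of the elements killing `H₀` of a complex exact in positive degrees. -/
theorem exists_homotopy {n : ℕ → ℕ} {D : ∀ i, Matrix (Fin (n i)) (Fin (n (i + 1))) R} (hDD : ∀ i, D i * D (i + 1) = 0)
    (hn0 : n 0 = 0) {a : R} (ha : ∀ x : Hm (D 0) (D 1) R, a • x = 0)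
    (hex : ∀ i, Subsingleton (Hm (D (i + 1)) (D (i + 2)) R)) :
    ∃ h : ∀ i, Matrix (Fin (n (i + 1))) (Fin (n i)) R, ∀ i, h i * D i + D (i + 1) * h (i + 1) = a • 1 := by
  have hstep : ∀ (i : ℕ) (h : {h : Matrix (Fin (n (i + 1))) (Fin (n i)) R // D i * (a • 1 - h * D i) = 0 ∧
      (i = 0 → h = 0)}), ∃ h' : Matrix (Fin (n (i + 2))) (Fin (n (i + 1))) R,
        D (i + 1) * h' = a • 1 - h.1 * D i := by
    intro i h
    let C : Matrix (Fin (n (i + 1))) (Fin (n (i + 1))) R := a • 1 - h.1 * D i
    show ∃ h', D (i + 1) * h' = C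
    have hcol : ∀ c, (fun x => C x c) ∈ LinearMap.range (app R (D (i + 1))) := fun c => by
      have hmem : (fun x => C x c) ∈ LinearMap.ker (app R (D i)) := by
        rw [LinearMap.mem_ker]
        funext x
        rw [app_apply]
        exact congrFun (congrFun h.2.1 x) c
      cases i with
      | zero =>
        have h0 : ∀ v : Fin (n 1) → R, a • v ∈ LinearMap.range (app R (D 1)) := fun v => by
          haveI : IsEmpty (Fin (n 0)) := by rw [hn0]; infer_instance
          have := ha (Submodule.Quotient.mk ⟨v, LinearMap.mem_ker.2 (Subsingleton.elim _ _)⟩)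
          rwa [← Submodule.Quotient.mk_smul, Hm.mk_eq_zero_iff] at this
        have := h0 (fun x => (1 : Matrix (Fin (n 1)) (Fin (n 1)) R) x c)
        convert this using 1
        funext x
        simp [C, h.2.2 rfl]
      | succ j =>
        haveI := hex j
        exact (Hm.mk_eq_zero_iff ⟨_, hmem⟩).1 (Subsingleton.elim _ _)
    choose w hw using hcol
    refine ⟨Matrix.of fun y c => w c y, Matrix.ext fun x c => ?_⟩
    rw [← show app R (D (i + 1)) (w c) x = C x c from congrFun (hw c) x, app_apply]
    rfl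
  choose f hf using hstep
  have hnext : ∀ (i : ℕ) (h : {h : Matrix (Fin (n (i + 1))) (Fin (n i)) R // D i * (a • 1 - h * D i) = 0 ∧
      (i = 0 → h = 0)}), D (i + 1) * (a • 1 - f i h * D (i + 1)) = 0 := fun i h => by
    rw [Matrix.mul_sub, ← Matrix.mul_assoc, hf, Matrix.sub_mul, Matrix.mul_smul, Matrix.mul_one, Matrix.smul_mul,
      Matrix.one_mul, Matrix.mul_assoc, hDD, Matrix.mul_zero, sub_zero, sub_self]
  let S : ∀ i, {h : Matrix (Fin (n (i + 1))) (Fin (n i)) R // D i * (a • 1 - h * D i) = 0 ∧ (i = 0 → h = 0)} :=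
    fun i => Nat.rec ⟨0, Matrix.ext fun x => (Fin.cast hn0 x).elim0, fun _ => rfl⟩
      (fun i h => ⟨f i h, hnext i h, fun h0 => absurd h0 (Nat.succ_ne_zero i)⟩) i
  exact ⟨fun i => (S i).1, fun i => by
    show (S i).1 * D i + D (i + 1) * f i (S i) = _
    rw [hf, add_sub_cancel]⟩

section Regular

variable [IsRegularLocalRing R] {n : ℕ → ℕ} {D : ∀ i, Matrix (Fin (n i)) (Fin (n (i + 1))) R}
  (hDD : ∀ i, D i * D (i + 1) = 0) (hn0 : n 0 = 0)
  (hhom : ∀ a ∈ maximalIdeal R, ∃ h : ∀ i, Matrix (Fin (n (i + 1))) (Fin (n i)) R,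
    ∀ i, h i * D i + D (i + 1) * h (i + 1) = a • 1)
  {rs : List R} (hrs : Ideal.ofList rs = maximalIdeal R) (hreg : IsWeaklyRegular R rs)

/-- The successive quotients by a regular system of parameters. -/
abbrev Stage (rs : List R) (j : ℕ) : Type u := R ⧸ (Ideal.ofList (rs.take j) • ⊤ : Submodule R R)

include hreg in
omit [IsRegularLocalRing R] in
theorem exists_stage_ses (j : ℕ) (hj : j < rs.length) :
    ∃ (f : Stage rs j →ₗ[R] Stage rs j) (g : Stage rs j →ₗ[R] Stage rs (j + 1)),
      (∀ m, f m = rs[j] • m) ∧ Function.Injective f ∧ Function.Surjective g ∧ Function.Exact f g := by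
  have hle : (Ideal.ofList (rs.take j) • ⊤ : Submodule R R) ≤ Ideal.ofList (rs.take (j + 1)) • ⊤ := by
    refine Submodule.smul_mono_left ?_
    rw [List.take_succ_eq_append_getElem hj, Ideal.ofList_append]
    exact le_sup_left
  refine ⟨LinearMap.lsmul R _ rs[j], Submodule.mapQ _ _ LinearMap.id hle, fun m => rfl,
    ((isWeaklyRegular_iff R rs).1 hreg) j hj, fun y => ?_, fun y => ⟨fun hy => ?_, ?_⟩⟩
  · obtain ⟨x, rfl⟩ := Submodule.Quotient.mk_surjective _ y
    exact ⟨Submodule.Quotient.mk x, rfl⟩
  · obtain ⟨x, rfl⟩ := Submodule.Quotient.mk_surjective _ y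
    change (Submodule.Quotient.mk x : Stage rs (j + 1)) = 0 at hy
    rw [Submodule.Quotient.mk_eq_zero, List.take_succ_eq_append_getElem hj, Ideal.ofList_append,
      Submodule.sup_smul, Submodule.mem_sup] at hy
    obtain ⟨b, hb, c, hc, rfl⟩ := hy
    rw [show Ideal.ofList [rs[j]] = Ideal.span {rs[j]} from Ideal.ofList_singleton _,
      smul_eq_mul, Ideal.mul_top, Ideal.mem_span_singleton] at hc
    obtain ⟨t, rfl⟩ := hc
    refine ⟨Submodule.Quotient.mk t, (Submodule.Quotient.eq _).2 ?_⟩
    show rs[j] • t - (b + rs[j] * t) ∈ _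
    rw [sub_add_eq_sub_sub_swap]
    simp only [smul_eq_mul, sub_self, zero_sub]
    exact neg_mem hb
  · rintro ⟨m, rfl⟩
    obtain ⟨t, rfl⟩ := Submodule.Quotient.mk_surjective _ m
    refine (Submodule.Quotient.mk_eq_zero _).2 ?_
    rw [List.take_succ_eq_append_getElem hj, Ideal.ofList_append, Submodule.sup_smul]
    refine Submodule.mem_sup_right ?_
    rw [show Ideal.ofList [rs[j]] = Ideal.span {rs[j]} from Ideal.ofList_singleton _, smul_eq_mul, Ideal.mul_top,
      Ideal.mem_span_singleton]
    exact ⟨t, smul_eq_mul ..⟩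

include hDD hn0 hhom hrs hreg

/-- The homology of a resolution of the residue field, with values in the stages. -/
theorem length_chain (hex : ∀ i, Subsingleton (Hm (D (i + 1)) (D (i + 2)) R))
    (h0 : Module.length R (Hm (D 0) (D 1) R) = 1) :
    ∀ j ≤ rs.length, ∀ i, Module.length R (Hm (D i) (D (i + 1)) (Stage rs j)) = (Nat.choose j i : ℕ∞) := by
  intro j
  induction j with
  | zero =>
    intro _ i
    have e : (Ideal.ofList (rs.take 0) • ⊤ : Submodule R R) = ⊥ := by simp
    let e' : Stage rs 0 ≃ₗ[R] R := Submodule.quotEquivOfEqBot _ e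
    have key : Module.length R (Hm (D i) (D (i + 1)) (Stage rs 0)) = Module.length R (Hm (D i) (D (i + 1)) R) := by
      refine le_antisymm ?_ ?_
      · refine Module.length_le_of_surjective (Hm.map (D i) (D (i + 1)) e'.symm.toLinearMap) fun y => ?_
        exact ⟨Hm.map _ _ e'.toLinearMap y, map_map_eq _ _ (fun x => e'.symm_apply_apply x) y⟩
      · refine Module.length_le_of_surjective (Hm.map (D i) (D (i + 1)) e'.toLinearMap) fun y => ?_
        exact ⟨Hm.map _ _ e'.symm.toLinearMap y, map_map_eq _ _ (fun x => e'.apply_symm_apply x) y⟩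
    rw [key]
    cases i with
    | zero => rw [h0]; simp
    | succ i => rw [@Module.length_eq_zero R _ _ _ _ (hex i)]; simp
  | succ j ih =>
    intro hj i
    obtain ⟨f, g, hf, hinj, hg, hfg⟩ := exists_stage_ses hreg j hj
    obtain ⟨h, hh⟩ := hhom rs[j] (by rw [← hrs]; exact Ideal.subset_span (List.getElem_mem hj))
    have hk : ∀ i, ∀ x : Hm (D i) (D (i + 1)) (Stage rs j), rs[j] • x = 0 := fun i => smul_Hm_eq_zero (hh i)
    cases i with
    | zero =>
      haveI : Subsingleton (Hm (0 : Matrix (Fin 0) (Fin (n 0)) R) (D 0) (Stage rs j)) :=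
        subsingleton_Hm_of_eq_zero hn0
      rw [length_Hm_quot (W := (0 : Matrix (Fin 0) (Fin (n 0)) R)) (Matrix.zero_mul _) (hDD 0) f g rs[j] hf hinj hg
        hfg (hk 0) (fun x => Subsingleton.elim _ _), ih (by omega) 0, Module.length_eq_zero]
      simp
    | succ i =>
      rw [length_Hm_quot (hDD i) (hDD (i + 1)) f g rs[j] hf hinj hg hfg (hk (i + 1)) (hk i), ih (by omega),
        ih (by omega), Nat.choose_succ_succ, add_comm, Nat.cast_add]

/-- The cohomology of the dual complex, with values in the stages. -/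
theorem length_cochain (hnv : ∀ i, rs.length + 1 < i → n i = 0)
    (htop : ∀ i, Module.length R (Hm (D (i + 1))ᵀ (D i)ᵀ (Stage rs rs.length)) = (Nat.choose rs.length i : ℕ∞)) :
    ∀ t ≤ rs.length, ∀ i, Module.length R (Hm (D (i + 1))ᵀ (D i)ᵀ (Stage rs (rs.length - t))) =
      if t ≤ i then (Nat.choose (rs.length - t) (i - t) : ℕ∞) else 0 := by
  intro t
  induction t with
  | zero => intro _ i; simpa using htop i
  | succ t ih =>
    intro ht i
    obtain ⟨j, hj⟩ : ∃ j, rs.length - t = j + 1 := ⟨rs.length - t - 1, by omega⟩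
    rw [show rs.length - (t + 1) = j by omega]
    have hj' : j < rs.length := by omega
    obtain ⟨f, g, hf, hinj, hg, hfg⟩ := exists_stage_ses hreg j hj'
    obtain ⟨h, hh⟩ := hhom rs[j] (by rw [← hrs]; exact Ideal.subset_span (List.getElem_mem hj'))
    have hk : ∀ i, ∀ x : Hm (D (i + 1))ᵀ (D i)ᵀ (Stage rs j), rs[j] • x = 0 := fun i =>
      smul_Hm_eq_zero (h := (h (i + 1))ᵀ) (h' := (h i)ᵀ) (by
        rw [← Matrix.transpose_mul, ← Matrix.transpose_mul, ← Matrix.transpose_add,
          (add_comm _ _).trans (hh i), Matrix.transpose_smul, Matrix.transpose_one])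
    let L := fun i => Module.length R (Hm (D (i + 1))ᵀ (D i)ᵀ (Stage rs j))
    have hrec : ∀ i, (if t ≤ i then (Nat.choose (j + 1) (i - t) : ℕ∞) else 0) = L i + L (i + 1) := fun i => by
      have := ih (by omega) i
      rw [hj] at this
      rw [← this]
      exact length_Hm_quot (mul_transpose_zero (hDD (i + 1))) (mul_transpose_zero (hDD i)) f g rs[j] hf hinj hg hfg
        (hk i) (hk (i + 1))
    suffices H : ∀ d i, rs.length + 1 ≤ i + d →
        L i = if t + 1 ≤ i then (Nat.choose j (i - (t + 1)) : ℕ∞) else 0 from H (rs.length + 1) i (by omega)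
    intro d
    induction d with
    | zero =>
      intro i hi
      haveI : Subsingleton (Hm (D (i + 1))ᵀ (D i)ᵀ (Stage rs j)) := subsingleton_Hm_of_eq_zero (hnv _ (by omega))
      show Module.length R _ = _
      rw [Module.length_eq_zero, if_pos (by omega), Nat.choose_eq_zero_of_lt (by omega), Nat.cast_zero]
    | succ d ihd =>
      intro i hi
      have h2 := hrec i
      rw [ihd (i + 1) (by omega)] at h2
      rcases lt_trichotomy i t with hlt | rfl | hgt
      · rw [if_neg (by omega), if_neg (by omega), add_zero] at h2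
        rw [if_neg (by omega)]
        exact h2.symm
      · rw [if_pos le_rfl, if_pos le_rfl, Nat.sub_self, Nat.sub_self, Nat.choose_zero_right, Nat.choose_zero_right]
          at h2
        rw [if_neg (by omega)]
        exact WithTop.add_right_cancel (ENat.natCast_ne_top 1) (h2.symm.trans (zero_add _).symm)
      · obtain ⟨e, rfl⟩ : ∃ e, i = t + 1 + e := ⟨i - t - 1, by omega⟩
        rw [if_pos (by omega), if_pos (by omega), show t + 1 + e - t = e + 1 by omega,
          show t + 1 + e + 1 - (t + 1) = e + 1 by omega, Nat.choose_succ_succ, Nat.cast_add] at h2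
        rw [if_pos (by omega), show t + 1 + e - (t + 1) = e by omega]
        exact (WithTop.add_right_cancel (ENat.natCast_ne_top _) h2).symm

end Regular

end Groth.Agent.AbCohLib
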