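import Groth.Agent.AbCohLib.Model
import Groth.Agent.Coherent.CohBC.Fibre

/-!
# Reading base-changed cohomology off a matrix model
-/

set_option autoImplicit false
set_option backward.isDefEq.respectTransparency false

universe u

open CategoryTheory CategoryTheory.Limits IsLocalRing AlgebraicGeometry
open Groth.Agent.Coherent Groth.Agent.Coherent.CohBC

namespace Groth.Agent.AbCohLib

variable {R B : Type u} [CommRing R] [CommRing B]

/-- Restriction along a surjection does not change lengths. -/
theorem length_restrictScalars {φ : R →+* B} (hφ : Function.Surjective φ) (N : ModuleCat.{u} B) :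
    Module.length R ((ModuleCat.restrictScalars φ).obj N) = Module.length B N := by
  letI : Algebra R B := φ.toAlgebra
  letI : Module R N := Module.compHom N φ
  haveI : IsScalarTower R B N := IsScalarTower.of_algebraMap_smul fun _ _ => rfl
  exact Module.length_eq_of_surjective (S := R) (R := B) (M := N) hφ

/-- A finite length over a field is the dimension. -/
theorem finrank_eq_of_length {K M : Type u} [Field K] [AddCommGroup M] [Module K M] {n : ℕ}
    (h : Module.length K M = (n : ℕ∞)) : Module.finrank K M = n := by
  rw [Module.length_eq_rank, Cardinal.toENat_eq_natCast] at h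
  exact Module.finrank_eq_of_rank_eq h

variable {X : Scheme.{u}} [X.Over (Spec (CommRingCat.of R))] {F : X.Modules} (D : PerfData R X F)

/-- The model is read through the chain complex of the data. -/
theorem nonempty_T_equiv (i : ℕ) (M : ModuleCat.{u} R) :
    Nonempty (CohIII.T D.P (-(i : ℤ)) M ≅ CohIII.T D.R.L (i : ℤ) M) :=
  ⟨toChainTIso D.R.L M (-(i : ℤ)) i (neg_neg _)⟩

/-- Cohomology after a base change is a homology of the complex with values in the new ring. -/
theorem nonempty_T_restrict_iso [IsSeparated (X ↘ Spec (CommRingCat.of R))]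
    (hfl : FlatMod.IsFlatOver (X ↘ Spec (CommRingCat.of R)) F) {φ : R →+* B} {X' : Scheme.{u}}
    [X'.Over (Spec (CommRingCat.of B))] (g : X' ⟶ X)
    (h : IsPullback g (X' ↘ Spec (CommRingCat.of B)) (X ↘ Spec (CommRingCat.of R))
      (Spec.map (CommRingCat.ofHom φ))) (i : ℕ) :
    Nonempty (CohIII.T D.R.L (i : ℤ) ((ModuleCat.restrictScalars φ).obj (ModuleCat.of B B)) ≅
      (ModuleCat.restrictScalars φ).obj (ModuleCat.of B (Coh.HH X' ((Scheme.Modules.pullback g).obj F) i))) := by
  haveI := D.isQCoh
  let D' := PerfData.baseChange φ g h D hfl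
  obtain ⟨e⟩ := nonempty_T_equiv D i ((ModuleCat.restrictScalars φ).obj (ModuleCat.of B B))
  exact ⟨e.symm ≪≫ bcHomologyIso φ D.P (-(i : ℤ)) ≪≫
    (ModuleCat.restrictScalars φ).mapIso (D'.hhHomology i).toModuleIso.symm⟩

end Groth.Agent.AbCohLib
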