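import Groth.Agent.AbCohLib.Acyclic
import Groth.Agent.AbCohLib.Local
import Groth.Agent.AbCohLib.Leray
import Groth.Agent.Coherent.RpushStalk

/-!
# Direct images at an isolated point of the jumping locus
-/

set_option autoImplicit false
set_option linter.style.haveILetI false
set_option backward.isDefEq.respectTransparency.types false
set_option maxHeartbeats 3200000

universe u

open CategoryTheory CategoryTheory.Limits MonoidalCategory CartesianMonoidalCategory AlgebraicGeometry Opposite
  TopologicalSpace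
open Groth.Agent Groth.Agent.Coherent Groth.Agent.Coherent.CohBC Groth.Agent.PicLib
open scoped Matrix

namespace Groth.Agent.AbCohLib

variable {k : Type u} [Field k] {B A : Over (Spec (CommRingCat.of k))} [IsProper B.hom] [IsProper A.hom]
  {P : (B ⊗ A).left.Modules}

/-- **Only the top direct image survives at an isolated point.** -/
theorem subsingleton_stalk_of_isolated [HasInjectiveResolutions (B ⊗ A).left.Modules] (hP : PicF.IsInvertible P)
    (z : B.left) [IsRegularLocalRing (B.left.presheaf.stalk z)] {g : ℕ}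
    (hg : (IsLocalRing.maximalIdeal (B.left.presheaf.stalk z)).spanFinrank = g)
    (hhigh : ∀ p : ℕ, g < p → CohIII.fiberRank (fst B A).left P p z = 0)
    (hpunct : ∀ y : B.left, y ⤳ z → y ≠ z → ∀ p, CohIII.fiberRank (fst B A).left P p y = 0)
    (j : ℕ) (hj : j ≠ g) :
    Subsingleton (((Coh.Rpush (fst B A).left j).obj P).presheaf.stalk z : Type u) := by
  haveI : IsProper (fst B A).left := inferInstanceAs (IsProper (pullback.fst B.hom A.hom))
  haveI : Coh.IsQCoh P := AmpleLib.isQCoh_of_isInvertible hP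
  let R : CommRingCat.{u} := B.left.presheaf.stalk z
  haveI : IsRegularLocalRing R := ‹IsRegularLocalRing (B.left.presheaf.stalk z)›
  let Rk : Over (Spec (CommRingCat.of k)) := Over.mk (B.left.fromSpecStalk z ≫ B.hom)
  let τ : Rk ⟶ B := Over.homMk (B.left.fromSpecStalk z) rfl
  let X := (Rk ⊗ A).left
  letI : X.Over (Spec (CommRingCat.of R)) := ⟨(fst Rk A).left⟩
  let F := (Scheme.Modules.pullback (τ ▷ A).left).obj P
  have hFi : PicF.IsInvertible F := PicLoc.isInvertible_pullback _ hP
  haveI hXp : IsProper (fst Rk A).left := inferInstanceAs (IsProper (pullback.fst Rk.hom A.hom))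
  haveI : IsProper (X ↘ Spec (CommRingCat.of R)) := hXp
  haveI : IsLocallyNoetherian B.left := LocallyOfFiniteType.isLocallyNoetherian B.hom
  haveI : IsLocallyNoetherian X := LocallyOfFiniteType.isLocallyNoetherian (X ↘ Spec (CommRingCat.of R))
  haveI : Flat A.hom := CubeLib.flat_of_field _
  haveI hXf : Flat (fst Rk A).left := inferInstanceAs (Flat (pullback.fst Rk.hom A.hom))
  have hfl : FlatMod.IsFlatOver (X ↘ Spec (CommRingCat.of R)) F :=
    SeeSaw5.isFlatOver_of_invertible (f := (fst Rk A).left) hFi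
  obtain ⟨D⟩ := nonempty_perfData (A := R) (X := X) F (PicLib.isCoh_of_isInvertible hFi) hfl
  have hflat : ∀ i, Module.Finite R (D.R.L.X i) ∧ Module.Flat R (D.R.L.X i) :=
    fun i => ⟨(D.R.finFree i).1, D.R.flat_X i⟩
  have hrk : ∀ (x : PrimeSpectrum R) (i : ℕ),
      CohIII.fiberRank (fst B A).left P i (B.left.fromSpecStalk z x) = 0 →
        ∀ (M : Type u) [AddCommGroup M] [Module R M], Nonempty (x.asIdeal.ResidueField ≃ₗ[R] M) →
          IsZero (CohIII.T D.R.L (i : ℤ) (ModuleCat.of R M)) := by
    intro x i hx M _ _ ⟨e⟩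
    have h : CohIII.dRank D.P (-(i : ℤ)) x = 0 := by
      rw [← D.fiberRank_eq hfl x i]
      exact (fiberRank_pullback (isPullback_whiskerRight τ A) P i x).trans hx
    obtain ⟨e'⟩ := nonempty_T_equiv D i (ModuleCat.of R x.asIdeal.ResidueField)
    exact ((isZero_T_of_dRank_eq_zero D.P D.finite_flat_P _ _ h).of_iso e'.symm).of_iso
      ((CohIII.TFun D.R.L (i : ℤ)).mapIso (LinearEquiv.toModuleIso (X₁ := ModuleCat.of R x.asIdeal.ResidueField)
        (X₂ := ModuleCat.of R M) e)).symm
  obtain ⟨n, M, hn0, hnv, hMM, hmodel⟩ := exists_matrix_model D.R.L hflat ⟨D.R.bound, D.R.isZero_X⟩ g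
    (fun p hp => D.R.isZero_neg p _ hp)
    (fun p hp => by
      obtain ⟨q, rfl⟩ : ∃ q : ℕ, p = q := ⟨p.toNat, by omega⟩
      refine hrk (IsLocalRing.closedPoint R) q ?_ _ ?_
      · rw [Scheme.fromSpecStalk_closedPoint]
        exact hhigh q (by omega)
      · show Nonempty ((IsLocalRing.maximalIdeal R).ResidueField ≃ₗ[R] _)
        exact ⟨(LinearEquiv.ofBijective
          ((Algebra.linearMap (R ⧸ IsLocalRing.maximalIdeal R) (IsLocalRing.maximalIdeal R).ResidueField).restrictScalars R)
          (IsLocalRing.maximalIdeal R).bijective_algebraMap_quotient_residueField).symm⟩)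
  have hpu : ∀ (Q : Ideal R) [Q.IsPrime], Q ≠ IsLocalRing.maximalIdeal R → ∀ i (v : Fin (n (i + 1)) → Q.ResidueField),
      (M (i + 1)).transpose.map (algebraMap R Q.ResidueField) *ᵥ v = 0 →
        ∃ w, (M i).transpose.map (algebraMap R Q.ResidueField) *ᵥ w = v := by
    intro Q _ hQ i v hv
    let x : Spec (CommRingCat.of R) := (⟨Q, inferInstance⟩ : PrimeSpectrum R)
    have hne : B.left.fromSpecStalk z x ≠ z := fun h => hQ (by
      have h2 : x = IsLocalRing.closedPoint R := (B.left.fromSpecStalk z).isEmbedding.injective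
        (h.trans Scheme.fromSpecStalk_closedPoint.symm)
      exact congrArg PrimeSpectrum.asIdeal h2)
    have hsp : B.left.fromSpecStalk z x ⤳ z := by
      have := (IsLocalRing.specializes_closedPoint x).map (B.left.fromSpecStalk z).continuous
      rwa [Scheme.fromSpecStalk_closedPoint] at this
    haveI := ModuleCat.subsingleton_of_isZero (hrk x i (hpunct _ hsp hne i) Q.ResidueField ⟨LinearEquiv.refl _ _⟩)
    obtain ⟨e'⟩ := hmodel i Q.ResidueField
    haveI := e'.symm.toEquiv.subsingleton
    have happ : ∀ (a b : ℕ) (U : Matrix (Fin a) (Fin b) R) (w : Fin b → Q.ResidueField),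
        U.map (algebraMap R Q.ResidueField) *ᵥ w = app Q.ResidueField U w := fun a b U w => by
      funext j
      simp [app_apply, Matrix.mulVec, dotProduct, Algebra.smul_def]
    obtain ⟨w, hw⟩ := (Hm.mk_eq_zero_iff (U := (M (i + 1)).transpose) (V := (M i).transpose)
      ⟨v, LinearMap.mem_ker.2 ((happ _ _ _ _).symm.trans hv)⟩).1 (Subsingleton.elim _ _)
    exact ⟨w, (happ _ _ _ _).trans hw⟩
  haveI hm : Subsingleton (Hm (M (j + 1))ᵀ (M j)ᵀ R) := by
    rcases lt_or_gt_of_ne hj with h | h
    · exact subsingleton_Hm_of_punctured hg hMM hn0 hpu j h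
    · haveI : IsEmpty (Fin (n (j + 1))) := by rw [hnv (j + 1) (by omega)]; infer_instance
      infer_instance
  obtain ⟨e⟩ := hmodel j R
  obtain ⟨e'⟩ := nonempty_T_equiv D j (ModuleCat.of R R)
  haveI : Subsingleton (CohIII.T D.R.L (j : ℤ) (ModuleCat.of R R)) := e.toEquiv.subsingleton
  haveI : Subsingleton (CohIII.T D.P (-(j : ℤ)) (ModuleCat.of R R)) := e'.toLinearEquiv.toEquiv.subsingleton
  haveI : Subsingleton (Coh.HH X F j) :=
    ((D.hhHomology j).trans (unitTIso D.P (-(j : ℤ))).symm.toLinearEquiv).toEquiv.subsingleton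
  obtain ⟨ψ⟩ := nonempty_stalk_rpush_equiv (fst B A).left P j z X (τ ▷ A).left (isPullback_whiskerRight τ A)
  exact ψ.toEquiv.subsingleton

end Groth.Agent.AbCohLib
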